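import Cfsg.Agent.H13.R2
import Cfsg.Agent.S3192
import Cfsg.Agent.H8.TwoSizes

set_option autoImplicit false

/-! Centreless groups with three nontrivial class sizes: the commuting case. -/

namespace Cfsg.Agent.H13

open Subgroup H83 H8 S3192

variable {G : Type*} [Group G] [Finite G]

local notation "𝒞[" x "]" => Subgroup.centralizer {x}

omit [Finite G] in
theorem ne_one_of_prime {p : ℕ} {x : G} (hp : p.Prime) (h : orderOf x = p) : x ≠ 1 := fun c =>
  hp.one_lt.ne (by rw [← h, c, orderOf_one])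

omit [Finite G] in
theorem pe_of_prime {p : ℕ} {x : G} (h : orderOf x = p) : PE p x :=
  PE.of_orderOf (k := 1) (by rw [h, pow_one])

theorem exists_prime_pow {x : G} (hx : x ≠ 1) :
    ∃ p : ℕ, p.Prime ∧ ∃ y ∈ zpowers x, orderOf y = p :=
  H2.exists_mem_prime_orderOf (by rwa [Ne, zpowers_eq_bot])

theorem exists_cent_elt {p : ℕ} (hp : p.Prime) {w : G}
    (h : p ∣ Nat.card (𝒞[w] : Subgroup G)) : ∃ z, orderOf z = p ∧ Commute z w := by
  have := Fact.mk hp
  obtain ⟨z, hz⟩ := exists_prime_orderOf_dvd_card' p h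
  exact ⟨z, (orderOf_coe z).trans hz, mem_cent.1 z.2⟩

omit [Finite G] in
theorem dvd_card_cent {p : ℕ} {z w : G} (hz : orderOf z = p) (h : Commute z w) :
    p ∣ Nat.card (𝒞[w] : Subgroup G) := hz ▸ Subgroup.orderOf_dvd_natCard _ (mem_cent.2 h)

theorem card_cent_eq {x y : G} (e : cs(x) = cs(y)) :
    Nat.card (𝒞[x] : Subgroup G) = Nat.card (𝒞[y] : Subgroup G) :=
  Nat.eq_of_mul_eq_mul_right (cs_pos x) ((card_cent_mul_cs x).trans (e ▸ (card_cent_mul_cs y).symm))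

theorem r2_primes {r e s t : ℕ} (hr : r.Prime)
    (h : ∀ x : G, (orderOf x).Coprime r → cs(x) = 1 ∨ cs(x) = e) (hs : s.Prime) (hsr : s ≠ r)
    {y : G} (hy : PE s y) (ht : t.Prime) (hd : t ∣ cs(y)) : t = r ∨ t = s := by
  rcases r2 hr h with H | ⟨q, -, -, H⟩
  · obtain ⟨k, hk⟩ := H y (hy.coprime ((Nat.coprime_primes hs hr).2 hsr))
    exact .inl ((Nat.prime_dvd_prime_iff_eq ht hr).1 (ht.dvd_of_dvd_pow (hk ▸ hd)))
  by_contra c
  push Not at c
  have hq : s = q := by_contra fun c' =>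
    ht.not_dvd_one (cs_eq_one_iff.2 (H s hs hsr c' y hy) ▸ hd)
  obtain ⟨v, -, hv, hvU⟩ := exists_PE_of_dvd_relIndex (X := ⊤) (Y := 𝒞[y]) ht
    (by rwa [relIndex_top_right])
  exact hvU (center_le_centralizer _ (H t ht c.1 (hq ▸ c.2) v hv))

omit [Finite G] in
theorem cs_mul_cent {x : G} (u : (𝒞[x] : Subgroup G)) (h : (orderOf x).Coprime (orderOf (u : G))) :
    cs(x * u) = cs(u) * cs(x) := by
  rw [cs_mul_of_coprime (mem_cent.1 u.2).symm h, cs_subgroup]

/-- Centreless, three nontrivial class sizes `a ∣ c` and `b`. -/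
structure CC3 (G : Type*) [Group G] (a c b : ℕ) : Prop where
  hZ : center G = ⊥
  ac : a ∣ c
  ne : a ≠ c
  all : ∀ x : G, x ≠ 1 → cs(x) = a ∨ cs(x) = c ∨ cs(x) = b
  exa : ∃ x : G, x ≠ 1 ∧ cs(x) = a
  exc : ∃ x : G, cs(x) = c

namespace CC3

variable {a c b : ℕ} (H : CC3 G a c b)
include H

omit [Finite G] in
theorem cs_ne_one {x : G} (hx : x ≠ 1) : cs(x) ≠ 1 := fun e =>
  hx (mem_bot.1 (H.hZ ▸ cs_eq_one_iff.1 e))

omit [Finite G] in
theorem a1 : a ≠ 1 := H.exa.elim fun _ h => h.2 ▸ H.cs_ne_one h.1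

omit [Finite G] in
theorem cG : c ∣ Nat.card G := H.exc.elim fun x h => h ▸ cs_dvd_card x

theorem cen {p : ℕ} (hp : p.Prime) (h : p ∣ a) : ∃ y : G, orderOf y = p ∧ cs(y) = b ∧ ¬ p ∣ b := by
  obtain ⟨w, ho, hw⟩ := exists_central hp ((h.trans H.ac).trans H.cG)
  rcases H.all w (ne_one_of_prime hp ho) with e | e | e
  · exact absurd (e ▸ h) hw
  · exact absurd (e ▸ h.trans H.ac) hw
  · exact ⟨w, ho, e, e ▸ hw⟩

theorem cop : a.Coprime b := Nat.coprime_of_dvd fun _ hp h => (H.cen hp h).choose_spec.2.2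

theorem b1 : b ≠ 1 := by
  obtain ⟨p, hp, h⟩ := Nat.exists_prime_and_dvd H.a1
  obtain ⟨y, ho, hy, -⟩ := H.cen hp h
  exact hy ▸ H.cs_ne_one (ne_one_of_prime hp ho)

omit [Finite G] in
theorem nca : ¬ c ∣ a := fun h => H.ne (Nat.dvd_antisymm H.ac h)

theorem nab : ¬ a ∣ b := fun h => H.a1 (H.cop.eq_one_of_dvd h)

theorem nba : ¬ b ∣ a := fun h => H.b1 (H.cop.symm.eq_one_of_dvd h)

theorem ncb : ¬ c ∣ b := fun h => H.nab (H.ac.trans h)

omit [Finite G] in
theorem neA {x : G} (h : cs(x) = a) : x ≠ 1 := fun e => H.a1 (by rw [← h, e, cs_one])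

theorem neB {x : G} (h : cs(x) = b) : x ≠ 1 := fun e => H.b1 (by rw [← h, e, cs_one])

theorem downA {x y : G} (h : cs(x) = a) (hy : 𝒞[x] ≤ 𝒞[y]) (y1 : y ≠ 1) : cs(y) = a := by
  have h1 := h ▸ index_dvd_of_le hy
  rcases H.all y y1 with e | e | e
  · exact e
  · exact absurd (e ▸ h1) H.nca
  · exact absurd (e ▸ h1) H.nba

theorem downB {x y : G} (h : cs(x) = b) (hy : 𝒞[x] ≤ 𝒞[y]) (y1 : y ≠ 1) : cs(y) = b := by
  have h1 := h ▸ index_dvd_of_le hy
  rcases H.all y y1 with e | e | e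
  · exact absurd (e ▸ h1) H.nab
  · exact absurd (e ▸ h1) H.ncb
  · exact e

theorem up {x w : G} (x1 : x ≠ 1) (h : 𝒞[w] ≤ 𝒞[x]) : 𝒞[w] = 𝒞[x] ∨ cs(w) = c := by
  have w1 : w ≠ 1 := fun e => H.cs_ne_one x1 (Nat.eq_one_of_dvd_one
    (by have := index_dvd_of_le h; rwa [e, cs_one] at this))
  rcases H.all w w1 with e | e | e
  · exact .inl (eq_of_cs h (e.trans (H.downA e h x1).symm))
  · exact .inr e
  · exact .inl (eq_of_cs h (e.trans (H.downB e h x1).symm))

theorem maxC {z w : G} (hz : cs(z) = c) (z1 : z ≠ 1) (hc : Commute z w)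
    (ho : (orderOf z).Coprime (orderOf w)) : 𝒞[z] ≤ 𝒞[w] := by
  have h1 := cent_mul_of_coprime hc ho
  have h2 := h1.le.trans inf_le_left
  exact ((H.up z1 h2).elim id fun e => eq_of_cs h2 (e.trans hz.symm)).ge.trans
    (h1.le.trans inf_le_right)

theorem primeA {x : G} (h : cs(x) = a) :
    ∃ p : ℕ, p.Prime ∧ ∃ y ∈ zpowers x, orderOf y = p ∧ cs(y) = a ∧ 𝒞[x] = 𝒞[y] := by
  obtain ⟨p, hp, y, hy, ho⟩ := exists_prime_pow (H.neA h)
  have h1 := cent_le_cent_of_mem_zpowers hy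
  have h2 := H.downA h h1 (ne_one_of_prime hp ho)
  exact ⟨p, hp, y, hy, ho, h2, eq_of_cs h1 (h.trans h2.symm)⟩

theorem primeB {x : G} (h : cs(x) = b) :
    ∃ p : ℕ, p.Prime ∧ ∃ y ∈ zpowers x, orderOf y = p ∧ cs(y) = b ∧ 𝒞[x] = 𝒞[y] := by
  obtain ⟨p, hp, y, hy, ho⟩ := exists_prime_pow (H.neB h)
  have h1 := cent_le_cent_of_mem_zpowers hy
  have h2 := H.downB h h1 (ne_one_of_prime hp ho)
  exact ⟨p, hp, y, hy, ho, h2, eq_of_cs h1 (h.trans h2.symm)⟩

theorem two {r : ℕ} (hr : r.Prime) {x : G} (hx : orderOf x = r) (u : (𝒞[x] : Subgroup G))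
    (hu : (orderOf u).Coprime r) : cs(u) = 1 ∨ cs(u) = c / cs(x) := by
  have ho : (orderOf x).Coprime (orderOf (u : G)) := by rw [hx, orderOf_coe]; exact hu.symm
  have h1 := cs_mul_cent u ho
  rcases H.up (ne_one_of_prime hr hx) ((cent_mul_of_coprime (mem_cent.1 u.2).symm ho).le.trans
    inf_le_left) with e | e
  · rw [e] at h1
    exact .inl (Nat.eq_of_mul_eq_mul_right (cs_pos x) (by rw [← h1, one_mul]))
  · exact .inr (by rw [← e, h1, Nat.mul_div_cancel _ (cs_pos x)])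

theorem solv_cent {x : G} (hx : x ≠ 1) : Group.IsSolvable (𝒞[x] : Subgroup G) := by
  obtain ⟨p, hp, y, hy, ho⟩ := exists_prime_pow hx
  obtain ⟨U, hU, k, hk⟩ := exists_nilpotent_of_two_sizes hp (H.two hp ho)
  have := isSolvable_of_nilpotent_index hp hU hk
  exact Group.isSolvable_of_isSolvable_injective
    (inclusion_injective (cent_le_cent_of_mem_zpowers hy))

theorem principle {r : ℕ} (hr : r.Prime) {x : G} (hx : orderOf x = r)
    (h : ∀ t : ℕ, t.Prime → t ∣ cs(x) → t = r) : Group.IsSolvable G := by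
  obtain ⟨U, hU, k, hk⟩ := exists_nilpotent_of_two_sizes hr (H.two hr hx)
  exact isSolvable_of_nilpotent_index hr (U := U.map (Subgroup.subtype _))
    (Group.nilpotent_of_mulEquiv (U.equivMapOfInjective _ (subtype_injective _))) (by
    rw [index_map_subtype, hk,
      Nat.eq_prime_pow_of_unique_prime_dvd (cs_ne_zero x) fun h1 h2 => h _ h1 h2, ← pow_add])

theorem comm_diff {r s : ℕ} (hr : r.Prime) (hs : s.Prime) (hrs : r ≠ s) {x y : G}
    (hx : orderOf x = r) (hy : orderOf y = s) (xa : cs(x) = a) (yb : cs(y) = b)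
    (hc : Commute x y) : Group.IsSolvable G := by
  have ho : (orderOf x).Coprime (orderOf y) := by rw [hx, hy]; exact (Nat.coprime_primes hr hs).2 hrs
  have h1 : cs(x * y) = a * b := by
    rw [cent_mul_of_coprime hc ho, H1.index_inf_of_coprime _ _ (by rw [xa, yb]; exact H.cop), xa, yb]
  have h2 := cs_mul_cent (⟨y, mem_cent.2 hc.symm⟩ : (𝒞[x] : Subgroup G)) ho
  have h3 := cs_mul_cent (⟨x, mem_cent.2 hc⟩ : (𝒞[y] : Subgroup G)) ho.symm
  simp only [h1, ← hc.eq, xa, yb] at h2 h3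
  rw [mul_comm] at h2
  have hb : ∀ t : ℕ, t.Prime → t ∣ b → t = r ∨ t = s := fun t ht hd =>
    r2_primes hr (H.two hr hx) hs hrs.symm (PE.coe.1 (pe_of_prime hy)) ht
      (Nat.eq_of_mul_eq_mul_right (xa ▸ cs_pos x) h2 ▸ hd)
  have ha : ∀ t : ℕ, t.Prime → t ∣ a → t = r ∨ t = s := fun t ht hd =>
    (r2_primes hs (H.two hs hy) hr hrs (PE.coe.1 (pe_of_prime hx)) ht
      (Nat.eq_of_mul_eq_mul_right (yb ▸ cs_pos y) h3 ▸ hd)).symm
  have hc' : c = a * b := by
    rcases H.up (H.neA xa) ((cent_mul_of_coprime hc ho).le.trans inf_le_left) with e | e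
    · rw [e, xa] at h1
      exact absurd (Nat.eq_of_mul_eq_mul_left (xa ▸ cs_pos x) ((mul_one a).trans h1)).symm H.b1
    · exact e.symm.trans h1
  have := Fact.mk hr
  obtain ⟨R⟩ : Nonempty (Sylow r G) := inferInstance
  refine isSolvable_of_nilpotent_index hs R.isPGroup'.isNilpotent
    (Nat.eq_prime_pow_of_unique_prime_dvd FiniteIndex.index_ne_zero fun {t} ht hd => ?_)
  by_contra hts
  have htr : t ≠ r := fun e => R.not_dvd_index (e ▸ hd)
  have hn : ¬ t ∣ a * b := fun e => ((Nat.Prime.dvd_mul ht).1 e).elim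
    (fun e => (ha t ht e).elim htr hts) fun e => (hb t ht e).elim htr hts
  have := Fact.mk ht
  obtain ⟨P⟩ : Nonempty (Sylow t G) := inferInstance
  obtain ⟨z, hz, zo, hzc⟩ := H43.exists_central_of_pgroup P.isPGroup'
    (P.ne_bot_of_dvd_card (hd.trans (index_dvd_card _)))
  refine H.cs_ne_one (ne_one_of_prime ht zo) (index_eq_one.2 (top_le_iff.1 ?_))
  rw [← sylow_sup_cent_eq_top (p := t) (fun w _ hw => ?_) P]
  · exact sup_le (fun g hg => mem_cent.2 (hzc g hg).symm) fun g hg => mem_cent.2 (hg z hz).symm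
  by_cases w1 : w = 1
  · exact ht.not_dvd_one (by rwa [w1, cs_one] at hw)
  rcases H.all w w1 with e | e | e <;> rw [e] at hw
  · exact hn (hw.mul_right _)
  · exact hn (hc' ▸ hw)
  · exact hn (hw.mul_left _)

theorem dvdA {x : G} (h : cs(x) = a) : b ∣ Nat.card (𝒞[x] : Subgroup G) := by
  obtain ⟨p, hp, hd⟩ := Nat.exists_prime_and_dvd H.a1
  obtain ⟨y, -, hy, -⟩ := H.cen hp hd
  exact H.cop.symm.dvd_of_dvd_mul_right (by rw [← h, card_cent_mul_cs, ← hy]; exact cs_dvd_card y)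

theorem dvdB {y : G} (h : cs(y) = b) : a ∣ Nat.card (𝒞[y] : Subgroup G) :=
  H.cop.dvd_of_dvd_mul_right (by rw [← h, card_cent_mul_cs]; exact H.ac.trans H.cG)

theorem nc (hs : ¬ Group.IsSolvable G) {x y : G} (xa : cs(x) = a) (yb : cs(y) = b) :
    ¬ Commute x y := by
  have nd : ∀ {r s : ℕ} {x y : G}, r.Prime → s.Prime → orderOf x = r → orderOf y = s → cs(x) = a →
      cs(y) = b → Commute x y → r = s := fun hr hs' hx hy xa yb hc =>
    by_contra fun e => hs (H.comm_diff hr hs' e hx hy xa yb hc)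
  intro hc
  obtain ⟨r, hr, x, -, hx, xa, e1⟩ := H.primeA xa
  obtain ⟨s, hs', y, -, hy, yb, e2⟩ := H.primeB yb
  replace hc : Commute x y := mem_cent.1 (e2.le (mem_cent_comm.1 (e1.le (mem_cent.2 hc.symm))))
  obtain rfl := nd hr hs' hx hy xa yb hc
  have cp : ∀ {t : ℕ} {x u : G}, t.Prime → t ≠ r → orderOf x = r → orderOf u = t →
      (orderOf x).Coprime (orderOf u) := fun ht htr hx hu => by
    rw [hx, hu]; exact (Nat.coprime_primes hr ht).2 htr.symm
  have hA : ∀ {t : ℕ} {u : G}, t.Prime → t ≠ r → orderOf u = t → Commute u x → cs(x * u) = c :=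
    fun {t u} ht htr hu h => by
    have h1 := cent_mul_of_coprime h.symm (cp ht htr hx hu)
    refine (H.up (H.neA xa) (h1.le.trans inf_le_left)).resolve_left fun e => ?_
    have h2 := e.ge.trans (h1.le.trans inf_le_right)
    exact htr (nd ht hr hu hy (H.downA xa h2 (ne_one_of_prime ht hu)) yb
      (mem_cent.1 (h2 (mem_cent.2 hc.symm))).symm)
  have hB : ∀ {t : ℕ} {u : G}, t.Prime → t ≠ r → orderOf u = t → Commute u y → cs(y * u) = c :=
    fun {t u} ht htr hu h => by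
    have h1 := cent_mul_of_coprime h.symm (cp ht htr hy hu)
    refine (H.up (H.neB yb) (h1.le.trans inf_le_left)).resolve_left fun e => ?_
    have h2 := e.ge.trans (h1.le.trans inf_le_right)
    exact htr (nd hr ht hx hu xa (H.downB yb h2 (ne_one_of_prime ht hu))
      (mem_cent.1 (h2 (mem_cent.2 hc)))).symm
  obtain ⟨t, ht, htb, htr⟩ : ∃ t : ℕ, t.Prime ∧ t ∣ b ∧ t ≠ r := by
    by_contra c
    push Not at c
    exact hs (H.principle hr hy fun t ht hd => c t ht (yb ▸ hd))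
  obtain ⟨t', ht', hta, htr'⟩ : ∃ t : ℕ, t.Prime ∧ t ∣ a ∧ t ≠ r := by
    by_contra c
    push Not at c
    exact hs (H.principle hr hx fun t ht hd => c t ht (xa ▸ hd))
  obtain ⟨u, hu, hux⟩ := exists_cent_elt ht (htb.trans (H.dvdA xa))
  obtain ⟨u', hu', huy⟩ := exists_cent_elt ht' (hta.trans (H.dvdB yb))
  obtain ⟨v, hv, hvy⟩ := exists_cent_elt ht (w := y * u') (by
    rw [← card_cent_eq ((hA ht htr hu hux).trans (hB ht' htr' hu' huy).symm)]
    exact dvd_card_cent hu (hux.mul_right (Commute.refl u)))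
  replace hvy : Commute v y := mem_cent.1 ((cent_mul_of_coprime huy.symm
    (cp ht' htr' hy hu')).le (mem_cent.2 hvy)).1
  have h1 := cs_mul_cent (⟨v, mem_cent.2 hvy⟩ : (𝒞[y] : Subgroup G)) (cp ht htr hy hv)
  simp only [hB ht htr hv hvy, yb] at h1
  rcases r2_primes hr (H.two hr hy) ht htr (PE.coe.1 (pe_of_prime hv)) ht'
    ((H.cop.coprime_dvd_left hta).dvd_of_dvd_mul_right (h1 ▸ hta.trans H.ac)) with e | e
  · exact htr' e
  · exact ht.not_dvd_one (H.cop ▸ Nat.dvd_gcd (e ▸ hta) htb)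

end CC3

end Cfsg.Agent.H13
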