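import Cfsg.Agent.H13.CC3a
import Cfsg.Agent.S0028

set_option autoImplicit false

/-! Centreless groups with three nontrivial class sizes: the case of an abelian normal subgroup. -/

namespace Cfsg.Agent.H13

open Subgroup H83 H8 S3192

variable {G : Type*} [Group G] [Finite G]

local notation "𝒞[" x "]" => Subgroup.centralizer {x}

omit [Finite G] in
theorem isSolvable_of_normal_quot (N : Subgroup G) [N.Normal] (h1 : Group.IsSolvable N)
    (h2 : Group.IsSolvable (G ⧸ N)) : Group.IsSolvable G :=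
  Group.isSolvable_of_ker_le_range N.subtype (QuotientGroup.mk' N)
    (by rw [QuotientGroup.ker_mk', range_subtype])

namespace CC3

variable {a c b : ℕ} (H : CC3 G a c b) (hs : ¬ Group.IsSolvable G)
include H hs

theorem N1 {x : G} (xa : cs(x) = a) {p : ℕ} (hp : p.Prime) (hpa : p ∣ a) :
    ¬ p ∣ Nat.card (𝒞[x] : Subgroup G) := by
  intro hd
  obtain ⟨r, hr, x, -, hx, xa, e1⟩ := H.primeA xa
  obtain ⟨y, hy, yb, hpb⟩ := H.cen hp hpa
  have key : ∀ z : G, orderOf z = p → ∃ y', cs(y') = b ∧ Commute y' z := fun z hz => by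
    obtain ⟨y', h1, h2⟩ := exists_comm hp (w := y) (yb ▸ hpb) hz
    exact ⟨y', (cs_of_isConj h1).symm.trans yb, h2⟩
  by_cases hrp : r = p
  · obtain ⟨y', h1, h2⟩ := key x (hx.trans hrp)
    exact H.nc hs xa h1 h2.symm
  obtain ⟨z, hz, hzx⟩ := exists_cent_elt hp (e1 ▸ hd)
  obtain ⟨y', h1, h2⟩ := key z hz
  rcases H.all z (ne_one_of_prime hp hz) with e | e | e
  · exact H.nc hs e h1 h2.symm
  · exact H.nc hs xa h1 (mem_cent.1 (H.maxC e (ne_one_of_prime hp hz) hzx (by
      rw [hz, hx]; exact (Nat.coprime_primes hp hr).2 (Ne.symm hrp)) (mem_cent.2 h2))).symm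
  · exact H.nc hs xa e hzx.symm

theorem N2 {w : G} (w1 : w ≠ 1) {p : ℕ} (hp : p.Prime) (hpa : p ∣ a)
    (hd : p ∣ Nat.card (𝒞[w] : Subgroup G)) : cs(w) = b := by
  rcases H.all w w1 with e | e | e
  · exact absurd hd (H.N1 hs e hp hpa)
  · obtain ⟨x, -, xa⟩ := H.exa
    obtain ⟨d, hd'⟩ := H.ac
    refine absurd (hd.trans ⟨d, Nat.eq_of_mul_eq_mul_right (cs_pos x) ?_⟩) (H.N1 hs xa hp hpa)
    rw [card_cent_mul_cs, xa, mul_assoc, mul_comm d, ← hd', ← e, card_cent_mul_cs]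
  · exact e

theorem N3 {y : G} (yb : cs(y) = b) {s : ℕ} (hs' : s.Prime)
    (hd : s ∣ Nat.card (𝒞[y] : Subgroup G)) : s ∣ a := by
  by_contra hsa
  obtain ⟨p, hp, hpa⟩ := Nat.exists_prime_and_dvd H.a1
  obtain ⟨y', hy, yb', -⟩ := H.cen hp hpa
  obtain ⟨u, hu, huy⟩ := exists_cent_elt hs' (card_cent_eq (yb.trans yb'.symm) ▸ hd)
  obtain ⟨x, -, xa⟩ := H.exa
  obtain ⟨x', h1, h2⟩ := exists_comm hs' (w := x) (xa ▸ hsa) hu
  exact H.nc hs ((cs_of_isConj h1).symm.trans xa)
    (H.N2 hs (ne_one_of_prime hs' hu) hp hpa (dvd_card_cent hy huy.symm)) h2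

theorem nilB : ∃ y : G, cs(y) = b ∧ Group.IsNilpotent (𝒞[y] : Subgroup G) := by
  obtain ⟨p, hp, hpa⟩ := Nat.exists_prime_and_dvd H.a1
  obtain ⟨y, hy, yb, -⟩ := H.cen hp hpa
  refine ⟨y, yb, isNilpotent_of_forall_PE hp fun t ht htp v hv => cs_eq_one_iff.1 ?_⟩
  have ho := PE.coprime_orderOf hp ht htp.symm (pe_of_prime hy) (PE.coe.2 hv)
  have h1 := cs_mul_cent v ho
  rw [H.N2 hs (mul_ne_one (H.neB yb) ho) hp hpa (dvd_card_cent hy
    ((Commute.refl y).mul_right (mem_cent.1 v.2).symm)), yb] at h1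
  exact Nat.eq_of_mul_eq_mul_right (yb ▸ cs_pos y) (h1.symm.trans (one_mul b).symm)

theorem not_nilA {x : G} (xa : cs(x) = a) : ¬ Group.IsNilpotent (𝒞[x] : Subgroup G) := fun h => by
  obtain ⟨y, yb, hy⟩ := H.nilB hs
  exact hs (S0564.result _ _ h hy (H1.mul_eq_of_coprime _ _ (by rw [xa, yb]; exact H.cop)))

theorem comm_of_normal {V : Subgroup G} [V.Normal] (hV1 : V ≠ ⊥) (hVc : IsMulCommutative V)
    {l : ℕ} (hl : l.Prime) (hVl : IsPGroup l V) {x x' : G} (xa : cs(x) = a) (xa' : cs(x') = a) :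
    Commute x x' := by
  have := Fact.mk hl
  obtain ⟨k, hk⟩ := IsPGroup.iff_card.1 hVl
  have hle : ∀ w : G, ¬ l ∣ cs(w) → w ∈ centralizer (V : Set G) := fun w hw v hv =>
    mem_cent.1 (H82.normal_le_of_coprime_index V _
      (hk ▸ ((Nat.Prime.coprime_iff_not_dvd hl).2 hw).pow_left k) hv)
  obtain ⟨v, hv, vo, -⟩ := H43.exists_central_of_pgroup hVl hV1
  have v1 := ne_one_of_prime hl vo
  have hK : centralizer (V : Set G) ≤ 𝒞[v] := centralizer_le (Set.singleton_subset_iff.2 hv)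
  by_cases hla : l ∣ a
  · have hlb : ¬ l ∣ b := fun h => hl.not_dvd_one (H.cop ▸ Nat.dvd_gcd hla h)
    have e : centralizer (V : Set G) = 𝒞[v] := le_antisymm hK fun w hw => by
      by_cases w1 : w = 1
      · rw [w1]; exact one_mem _
      · exact hle w (by rw [H.N2 hs w1 hl hla (dvd_card_cent vo (mem_cent.1 hw).symm)]; exact hlb)
    have h1 := H44.isSolvable_sup_of_le_normalizer (N := centralizer (V : Set G)) (M := 𝒞[x])
      (le_normalizer_of_normal) (e ▸ H.solv_cent v1) (H.solv_cent (H.neA xa))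
    have h2 : centralizer (V : Set G) ⊔ 𝒞[x] = ⊤ := (eq_top_iff' _).2 fun g => by
      obtain ⟨s, hs, t, ht, rfl⟩ := H1.mul_eq_of_coprime 𝒞[v] 𝒞[x] (by
        rw [xa, H.N2 hs v1 hl hla (dvd_card_cent vo (Commute.refl v))]; exact H.cop.symm) g
      exact mul_mem_sup (e ▸ hs) ht
    rw [h2] at h1
    exact absurd (Group.isSolvable_of_surjective (f := (⊤ : Subgroup G).subtype)
      fun g => ⟨⟨g, trivial⟩, rfl⟩) hs
  refine mem_cent.1 (H82.normal_le_of_coprime_index (centralizer (V : Set G)) _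
    (Nat.coprime_of_dvd fun p hp h1 h2 => hla ?_) (hle x (xa ▸ hla)))
  exact H.N3 hs (H.N2 hs v1 hp (xa' ▸ h2) (h1.trans (card_dvd_of_le hK))) hl
    (dvd_card_cent vo (Commute.refl v))

variable (XX : ∀ x x' : G, cs(x) = a → cs(x') = a → Commute x x')
include XX

theorem claimA {x x' : G} (xa : cs(x) = a) (xa' : cs(x') = a) {r : ℕ} (hr : r.Prime)
    (hx : orderOf x = r) : ∃ z : G, orderOf z = r ∧ 𝒞[z] = 𝒞[x'] := by
  obtain ⟨s, hs', y, -, hy, ya, e⟩ := H.primeA xa'
  by_cases hrs : s = r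
  · exact ⟨y, hy.trans hrs, e.symm⟩
  obtain ⟨d, hd⟩ := H.ac
  obtain ⟨t, ht, htd⟩ := Nat.exists_prime_and_dvd (n := d) fun e => H.ne (by rw [hd, e, mul_one])
  have hta : ¬ t ∣ a := fun h => H.N1 hs xa ht h (htd.trans (Nat.dvd_of_mul_dvd_mul_left
    (xa ▸ cs_pos x) (by rw [← hd, mul_comm, ← xa, card_cent_mul_cs]; exact H.cG)))
  have := Fact.mk ht
  obtain ⟨T, hT⟩ := not_dvd_index_iff.1 (ya.symm ▸ hta : ¬ t ∣ cs(y))
  obtain ⟨g, hg⟩ := exists_conj_mem_cent_sylow T (xa.symm ▸ hta : ¬ t ∣ cs(x))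
  have za : cs(g * x * g⁻¹) = a := (cs_conj g x).trans xa
  have zo : orderOf (g * x * g⁻¹) = r := (orderOf_conj' g x).trans hx
  have h1 := cent_mul_of_coprime (XX _ _ ya za) (by
    rw [hy, zo]; exact (Nat.coprime_primes hs' hr).2 hrs)
  rcases H.up (H.neA ya) (h1.le.trans inf_le_left) with e' | e'
  · exact ⟨_, zo, e.trans (eq_of_cs (e'.ge.trans (h1.le.trans inf_le_right))
      (ya.trans za.symm)) |>.symm⟩
  · refine absurd (e' ▸ hd ▸ htd.mul_left a) (not_dvd_index_iff.2 ⟨T, h1.ge.trans' ?_⟩)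
    exact le_inf hT fun u hu => mem_cent.2 (hg u hu)

theorem two_primes {x x' : G} (xa : cs(x) = a) (xa' : cs(x') = a) {r s : ℕ} (hr : r.Prime)
    (hs' : s.Prime) (hx : orderOf x = r) (hx' : orderOf x' = s) : r = s := by
  by_contra hrs
  have below : ∀ {p : ℕ} {u z : G}, p.Prime → PE p u → u ≠ 1 → cs(u) = c → cs(z) = a →
      Commute u z → 𝒞[u] ≤ 𝒞[z] := fun {p u z} hp hu u1 uc za hc => by
    have key : ∀ {q : ℕ} {y : G}, q.Prime → p ≠ q → cs(y) = a → orderOf y = q → 𝒞[u] ≤ 𝒞[z] :=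
      fun hq hpq ya hy => by
      obtain ⟨w, hw, e⟩ := H.claimA hs XX ya za hq hy
      exact e ▸ H.maxC uc u1 (mem_cent.1 (e.ge (mem_cent.2 hc)))
        (PE.coprime_orderOf hp hq hpq hu (pe_of_prime hw))
    by_cases hpr : p = r
    · exact key hs' (hpr ▸ hrs) xa' hx'
    · exact key hr hpr xa hx
  have P0 : ∀ y z : G, cs(y) = a → cs(z) = a → 𝒞[y] ≠ 𝒞[z] →
      (𝒞[y] ⊓ 𝒞[z] : Subgroup G).index = c := fun y z ya za hne => by
    obtain ⟨y', hy', e1⟩ := H.claimA hs XX xa ya hr hx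
    obtain ⟨z', hz', e2⟩ := H.claimA hs XX xa' za hs' hx'
    have h1 := cent_mul_of_coprime (XX y' z' (e1 ▸ ya) (e2 ▸ za)) (by
      rw [hy', hz']; exact (Nat.coprime_primes hr hs').2 hrs)
    rw [e1, e2] at h1
    rw [← h1]
    exact (H.up (H.neA ya) (h1.le.trans inf_le_left)).resolve_left fun e =>
      hne (eq_of_cs (e.ge.trans (h1.le.trans inf_le_right)) (ya.trans za.symm))
  have P1 : ∀ y z : G, cs(y) = a → cs(z) = a → 𝒞[y] ≠ 𝒞[z] →
      (𝒞[y] ⊓ 𝒞[z] : Subgroup G) ≤ 𝒞[x] := fun y z ya za hne =>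
    le_of_forall_PE fun p hp u hu hpu => by
      by_cases u1 : u = 1
      · rw [u1]; exact one_mem _
      rcases H.all u u1 with e | e | e
      · exact mem_cent.2 (XX _ _ e xa)
      · rw [mem_cent_comm, eq_of_le_of_index_eq (le_inf (below hp hpu u1 e ya (mem_cent.1 hu.1))
          (below hp hpu u1 e za (mem_cent.1 hu.2))) (e.trans (P0 y z ya za hne).symm)]
        exact ⟨mem_cent.2 (XX _ _ xa ya), mem_cent.2 (XX _ _ xa za)⟩
      · exact absurd (mem_cent.1 hu.1).symm (H.nc hs ya e)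
  have P2 : ∀ u ∈ (𝒞[x] : Subgroup G), u ≠ 1 → cs(u) = c → 𝒞[u] ≤ 𝒞[x] := by
    intro u hu u1 uc
    by_contra hn
    have hA : ∀ p : ℕ, p.Prime → ∀ y ∈ zpowers u, PE p y → y ≠ 1 → cs(y) = a := by
      intro p hp y hy hpy y1
      have hyx := mem_cent.1 (zpowers_le.2 hu hy)
      rcases H.all y y1 with e | e | e
      · exact e
      · exact absurd ((cent_le_cent_of_mem_zpowers hy).trans (below hp hpy y1 e xa hyx)) hn
      · exact absurd hyx.symm (H.nc hs xa e)
    obtain ⟨p, hp, y, hy, ho⟩ := exists_prime_pow u1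
    have ya := hA p hp y hy (pe_of_prime ho) (ne_one_of_prime hp ho)
    refine H.nca (uc ▸ ya ▸ index_dvd_of_le fun g hg => mem_cent_comm.1
      (mem_of_forall_PE _ _ fun q hq z hz hqz => ?_))
    by_cases z1 : z = 1
    · rw [z1]; exact one_mem _
    have za := hA q hq z hz hqz z1
    by_cases e : (𝒞[y] : Subgroup G) = 𝒞[z]
    · exact mem_cent_comm.1 (e ▸ hg)
    · exact absurd ((le_inf (cent_le_cent_of_mem_zpowers hy)
        (cent_le_cent_of_mem_zpowers hz)).trans (P1 y z ya za e)) hn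
  have two : ∀ u : (𝒞[x] : Subgroup G), cs(u) = 1 ∨ cs(u) = c / a := fun u => by
    have h1 : cs(u) * a = (𝒞[(u : G)] ⊓ 𝒞[x] : Subgroup G).index := by
      rw [cs_subgroup, ← xa, ← inf_relIndex_right, relIndex_mul_index inf_le_right]
    have h2 : (𝒞[(u : G)] ⊓ 𝒞[x] : Subgroup G).index = a ∨
        (𝒞[(u : G)] ⊓ 𝒞[x] : Subgroup G).index = c := by
      by_cases u1 : (u : G) = 1
      · exact .inl (by rw [inf_eq_right.2 fun g _ => mem_cent.2 (by simp [u1]), xa])
      rcases H.all u u1 with e | e | e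
      · by_cases e' : (𝒞[(u : G)] : Subgroup G) = 𝒞[x]
        · exact .inl (by rw [e', inf_idem, xa])
        · exact .inr (P0 _ _ e xa e')
      · exact .inr (by rw [inf_eq_left.2 (P2 u u.2 u1 e), e])
      · exact absurd (mem_cent.1 u.2).symm (H.nc hs xa e)
    have a0 : 0 < a := xa ▸ cs_pos x
    rcases h2 with e | e <;> rw [← h1] at e
    · exact .inl (Nat.eq_of_mul_eq_mul_right a0 (e.trans (one_mul a).symm))
    · exact .inr (by rw [← e, Nat.mul_div_cancel _ a0])
  refine H.not_nilA hs xa ?_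
  by_cases hex : ∃ u : (𝒞[x] : Subgroup G), u ∉ center _
  · exact (exists_prime_of_two_sizes _ two hex).1
  · push Not at hex
    exact isNilpotent_of_forall_PE hr fun _ _ _ v _ => hex v

theorem false_of_comm : False := by
  obtain ⟨x, -, xa⟩ := H.exa
  obtain ⟨l, hl, x, -, hx, xa, -⟩ := H.primeA xa
  have := Fact.mk hl
  have hla : ¬ l ∣ a := fun h => H.N1 hs xa hl h (dvd_card_cent hx (Commute.refl x))
  have one : ∀ {r : ℕ} {z : G}, r.Prime → orderOf z = r → cs(z) = a → r = l := fun hr hz za =>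
    H.two_primes hs XX za xa hr hl hz hx
  have hX : ∀ z : G, cs(z) = a → PE l z := fun z za => by
    obtain ⟨u, w, -, hw, hu, hwl, e⟩ := H3.exists_p_part (p := l) z
    by_cases w1 : w = 1
    · rw [e, w1, mul_one]; exact hu
    obtain ⟨p, hp, y, hy, ho⟩ := exists_prime_pow w1
    obtain rfl := one hp ho (H.downA za (cent_le_cent_of_mem_zpowers (zpowers_le.2 hw hy))
      (ne_one_of_prime hp ho))
    exact absurd (ho ▸ orderOf_dvd_of_mem_zpowers hy) ((Nat.Prime.coprime_iff_not_dvd hp).1 hwl.symm)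
  obtain ⟨N, hNn, hNc, hNl, hN⟩ : ∃ N : Subgroup G, N.Normal ∧
      (∀ z : G, cs(z) = a → z ∈ centralizer (N : Set G)) ∧ IsPGroup l N ∧ x ∈ N := by
    have h1 : ∀ z : G, cs(z) = a → z ∈ centralizer (closure {z : G | cs(z) = a} : Set G) :=
      fun z za => by rw [centralizer_closure]; exact fun w hw => XX w z hw za
    have h2 : closure {z : G | cs(z) = a} ≤ centralizer (closure {z : G | cs(z) = a} : Set G) :=
      (closure_le _).2 h1
    refine ⟨closure {z : G | cs(z) = a}, ⟨fun n hn g => ?_⟩, h1, fun ⟨n, hn⟩ => PE.coe.1 ?_,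
      subset_closure xa⟩
    · induction hn using closure_induction with
      | mem w hw => exact subset_closure ((cs_conj g w).trans hw)
      | one => simp
      | mul u w _ _ hu hw => simpa [mul_assoc] using mul_mem hu hw
      | inv u _ hu => simpa [mul_assoc] using inv_mem hu
    · change PE l n
      induction hn using closure_induction with
      | mem w hw => exact hX w hw
      | one => exact PE.one
      | mul u w h3 h4 hu hw => exact hu.mul hw (h2 h4 u h3)
      | inv u _ hu => exact hu.inv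
  obtain ⟨s, hs', hsd, hsl⟩ : ∃ s : ℕ, s.Prime ∧ s ∣ Nat.card (𝒞[x] : Subgroup G) ∧ s ≠ l := by
    by_contra c
    push Not at c
    exact H.not_nilA hs xa (IsPGroup.of_card (p := l) (Nat.eq_prime_pow_of_unique_prime_dvd
      Nat.card_pos.ne' fun h1 h2 => c _ h1 h2)).isNilpotent
  have hsa : ¬ s ∣ a := fun h => H.N1 hs xa hs' h hsd
  have hsG := hsd.trans (card_subgroup_dvd_card _)
  have inC : ∀ u : G, orderOf u = s → cs(u) = c := fun u hu => by
    rcases H.all u (ne_one_of_prime hs' hu) with e | e | e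
    · exact absurd (one hs' hu e) hsl
    · exact e
    · exact absurd (H.N3 hs e hs' (dvd_card_cent hu (Commute.refl u))) hsa
  have hsc : ¬ s ∣ c := by
    obtain ⟨w, ho, hw⟩ := exists_central hs' hsG
    exact inC w ho ▸ hw
  have hO : ∀ w : G, PE l w → w ∈ centralizer (N : Set G) := fun w hw => by
    by_cases w1 : w = 1
    · rw [w1]; exact one_mem _
    rcases H.all w w1 with e | e | e
    · exact hNc w e
    · obtain ⟨u, hu, huw⟩ := exists_cent_elt hs' (w := w)
        (((Nat.Prime.coprime_iff_not_dvd hs').2 hsc).dvd_of_dvd_mul_right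
          (by rwa [← e, card_cent_mul_cs]))
      have h1 : (𝒞[w] : Subgroup G) = 𝒞[u] := eq_of_cs (H.maxC e w1 huw.symm
        (PE.coprime_orderOf hl hs' hsl.symm hw (pe_of_prime hu))) (e.trans (inC u hu).symm)
      have cz : ∀ g : G, centralizer (zpowers g : Set G) = 𝒞[g] := fun g => by
        rw [zpowers_eq_closure, centralizer_closure]
      have h2 := S0028.result l (zpowers w) (zpowers u) N hw.isPGroup_zpowers
        (by rw [Nat.card_zpowers, hu]; exact (Nat.coprime_primes hs' hl).2 hsl) hNl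
        (by rw [cz]; exact zpowers_le.2 (mem_cent.2 huw.symm)) le_normalizer_of_normal
        le_normalizer_of_normal (by rw [cz, cz, h1]; exact inf_le_right) (mem_zpowers u)
      exact fun n hn => mem_cent.1 (h1.ge (mem_cent.2 (h2 n hn)))
    · obtain ⟨p, hp, y, hy, ho⟩ := exists_prime_pow w1
      obtain ⟨k, hk⟩ := hw.orderOf_dvd
      obtain rfl := (Nat.prime_dvd_prime_iff_eq hp hl).1 (hp.dvd_of_dvd_pow
        ((ho ▸ orderOf_dvd_of_mem_zpowers hy).trans hk))
      exact absurd (H.N3 hs e hp (dvd_card_cent ho (mem_cent.1 (zpowers_le_cent w hy)))) hla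
  obtain ⟨y, yb, hy⟩ := H.nilB hs
  obtain ⟨U, hU, k, hk⟩ := exists_nilpotent_of_two_sizes hl (H.two hl hx)
  obtain ⟨L⟩ : Nonempty (Sylow l (𝒞[x] : Subgroup G)) := inferInstance
  have := H.solv_cent (H.neA xa)
  refine hs (isSolvable_of_normal_quot (centralizer (N : Set G))
    (Group.isSolvable_of_isSolvable_injective (inclusion_injective
      (centralizer_le (Set.singleton_subset_iff.2 hN))))
    (S0564.result ((𝒞[y] : Subgroup G).map (QuotientGroup.mk' _))
      (U.map ((QuotientGroup.mk' _).comp (Subgroup.subtype _)))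
      (Group.nilpotent_of_surjective _ (MonoidHom.subgroupMap_surjective _ _))
      (Group.nilpotent_of_surjective _ (MonoidHom.subgroupMap_surjective _ _)) fun g => ?_))
  obtain ⟨g, rfl⟩ := QuotientGroup.mk'_surjective _ g
  obtain ⟨h, hh, m, hm, rfl⟩ := H1.mul_eq_of_coprime 𝒞[y] 𝒞[x]
    (by rw [xa, yb]; exact H.cop.symm) g
  obtain ⟨u, hu, t, ht, e⟩ := H1.mul_eq_of_coprime U L
    (hk ▸ ((Nat.Prime.coprime_iff_not_dvd hl).2 L.not_dvd_index).pow_left k) ⟨m, hm⟩
  refine ⟨_, ⟨h, hh, rfl⟩, _, ⟨u, hu, rfl⟩, ?_⟩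
  have e' : m = u * t := congrArg Subtype.val e
  have h1 : QuotientGroup.mk' (centralizer (N : Set G)) t = 1 :=
    (QuotientGroup.eq_one_iff _).2 (hO t (PE.coe.2 (PE.of_mem L.2 ht)))
  rw [e', map_mul, map_mul, h1, mul_one]
  rfl

end CC3

theorem CC3.solv_eq_bot {a c b : ℕ} (H : CC3 G a c b) (hs : ¬ Group.IsSolvable G)
    (N : Subgroup G) (hN : N.Normal) (h : Group.IsSolvable N) : N = ⊥ := by
  by_contra h1
  obtain ⟨V, l, hl, hVn, hV1, -, hVc, hVl, -⟩ := H2.exists_minimal_normal_le_of_solvable N hN h h1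
  exact H.false_of_comm hs fun x x' => H.comm_of_normal hs hV1 hVc hl hVl

theorem CC3.cent_eq_bot {a c b : ℕ} (H : CC3 G a c b) (hs : ¬ Group.IsSolvable G)
    (N : Subgroup G) (hN : N.Normal) (h : N ≠ ⊥) : centralizer (N : Set G) = ⊥ := by
  by_contra h1
  obtain ⟨⟨z, hz⟩, z1⟩ := ne_bot_iff_exists_ne_one.1 h1
  have := H.solv_cent (x := z) fun e => z1 (Subtype.ext e)
  exact h (H.solv_eq_bot hs N hN (Group.isSolvable_of_isSolvable_injective
    (inclusion_injective (show N ≤ 𝒞[z] from fun n hn => mem_cent.2 (hz n hn)))))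

end Cfsg.Agent.H13
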