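import Cfsg.Agent.H13.CC3b
import Cfsg.Agent.H8.Nonsolv

set_option autoImplicit false

/-! Three nontrivial class sizes when nontrivial normal subgroups have trivial centralizer
(the argument for simple groups, with the weaker hypothesis). -/

namespace Cfsg.Agent.H13.CC3c

open Subgroup H83 H8
open S3192 (eq_of_cs mul_ne_one exists_central exists_comm coprime_of_pow)

variable {G : Type*} [Group G] [Finite G]

local notation "𝒞[" x "]" => Subgroup.centralizer {x}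

variable (hG : ∀ N : Subgroup G, N.Normal → N ≠ ⊥ → centralizer (N : Set G) = ⊥)
include hG

omit [Finite G] in
theorem eq_one_of_comm {x y : G} (hy : y ≠ 1) (h : ∀ z, IsConj y z → Commute x z) : x = 1 := by
  have h1 : normalClosure {y} ≤ 𝒞[x] := (closure_le _).2 fun z hz => by
    obtain ⟨a, rfl, ha⟩ := Group.mem_conjugatesOfSet_iff.1 hz
    exact mem_cent.2 (h z ha).eq.symm
  exact mem_bot.1 ((hG (normalClosure {y}) normalClosure_normal fun c => hy (mem_bot.1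
    (c ▸ subset_normalClosure rfl))).le fun g hg => mem_cent.1 (h1 hg))

theorem solv_eq_bot (N : Subgroup G) (hN : N.Normal) (h : Group.IsSolvable N) : N = ⊥ := by
  by_contra h1
  obtain ⟨V, l, -, hVn, hV1, -, hVc, -⟩ := H2.exists_minimal_normal_le_of_solvable N hN h h1
  exact hV1 (eq_bot_iff.2 (hG V hVn hV1 ▸ le_centralizer_iff_isMulCommutative.2 hVc))

theorem not_comm {x y : G} (hx : x ≠ 1) (hy : y ≠ 1) (hc : (cs(x)).Coprime cs(y)) :
    ¬ Commute x y := fun h => hx (eq_one_of_comm hG hy fun z hz => by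
  obtain ⟨g, rfl⟩ := isConj_iff.1 hz
  obtain ⟨a, ha, b, hb, rfl⟩ := H1.mul_eq_of_coprime _ _ hc g
  rw [mul_inv_rev, show a * b * y * (b⁻¹ * a⁻¹) = a * (b * y * b⁻¹) * a⁻¹ by group,
    mem_cent'.1 hb]
  have ha' : Commute x a := (mem_cent.1 ha).symm
  exact (ha'.mul_right h).mul_right ha'.inv_right)

theorem exists_prime_ne {x : G} (hx : x ≠ 1) (p : ℕ) (hp : p.Prime) :
    ∃ r, r.Prime ∧ r ∣ cs(x) ∧ r ≠ p := by
  by_contra c
  push Not at c
  exact hx (mem_bot.1 (solv_eq_bot hG _ inferInstance H44.solRad_isSolvable ▸ H95.kazarin hp G x _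
    (Nat.eq_prime_pow_of_unique_prime_dvd (cs_ne_zero x) fun h1 h2 => c _ h1 h2)))

/-- An abelian TI subgroup of index prime to the class size of `y`. -/
theorem isolated {x y : G} (hx : x ≠ 1) (hH : ∀ h ∈ 𝒞[x], h ≠ 1 → 𝒞[h] = 𝒞[x]) (hy : y ≠ 1)
    (hc : (cs(x)).Coprime cs(y)) {y' : G} (h : IsConj y y') (hc' : Commute y y') : y' = y := by
  let _ : MulAction G {z // IsConj y z} :=
    { smul := fun g z => ⟨g * z * g⁻¹, z.2.trans (isConj_iff.2 ⟨g, rfl⟩)⟩
      one_smul := fun z => Subtype.ext (show 1 * z.1 * 1⁻¹ = z by simp)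
      mul_smul := fun a b z =>
        Subtype.ext (show a * b * z.1 * (a * b)⁻¹ = a * (b * z.1 * b⁻¹) * a⁻¹ by group) }
  have sm : ∀ (g : G) (z w : {z // IsConj y z}), g • z = w ↔ g * z * g⁻¹ = w := fun g z w =>
    Subtype.ext_iff
  have ti : H41.TIK 𝒞[x] (normalizer (𝒞[x] : Subgroup G)) :=
    ⟨fun a ha b hb => by
      by_cases b1 : b = 1
      · simp [b1]
      · exact mem_cent.1 ((hH b hb b1).ge ha), le_normalizer,
    fun g hg k hk => (mem_normalizer_iff.1 hg k).1 hk,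
    fun g k hk k1 h => mem_normalizer_iff.2 fun a => by
      nth_rw 1 [← hH k hk k1]
      rw [← hH _ h (by simpa using k1), mem_cent', mem_cent']
      constructor
      · intro e
        conv_rhs => rw [← e]
        group
      · intro e
        refine (MulAut.conj g).injective (Eq.trans ?_ e)
        simp [mul_assoc],
    fun g _ k hk k1 e => (hH k hk k1).le (mem_cent'.2 e)⟩
  obtain ⟨e, he⟩ := card_dvd_of_le ti.le
  rcases ti.lemZ (X := {z // IsConj y z}) (he.trans (mul_comm _ _)) (fun a b => by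
    obtain ⟨g, hg⟩ := isConj_iff.1 (a.2.symm.trans b.2)
    obtain ⟨k, hk, c, hc, rfl⟩ := H1.mul_eq_of_coprime _ _ (cs_of_isConj a.2 ▸ hc) g
    refine ⟨k, hk, (sm _ _ _).2 ?_⟩
    rw [← hg]
    conv_lhs => rw [← mem_cent'.1 hc]
    group) (fun k hk a e => by_contra fun k1 => not_comm hG k1
      (fun c => hy (isConj_one_left.1 (c ▸ a.2)))
      (by rw [hH k hk k1, ← cs_of_isConj a.2]; exact hc)
      (mul_inv_eq_iff_eq_mul.1 ((sm _ _ _).1 e))) ⟨y, IsConj.refl y⟩ with H | H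
  · by_contra hne
    refine hy (eq_one_of_comm hG hy fun z hz => ?_)
    by_cases e : z = y
    · rw [e]
    obtain ⟨g, g1, g2⟩ := H ⟨y, IsConj.refl y⟩ ⟨y', h⟩ ⟨z, hz⟩ (fun c => hne (congrArg Subtype.val c))
      fun c => e (congrArg Subtype.val c)
    have := hc'.map (MulAut.conj g)
    rwa [MulAut.conj_apply, MulAut.conj_apply, (sm _ _ _).1 g1, (sm _ _ _).1 g2] at this
  · have hn : (𝒞[x] : Subgroup G).Normal := normalizer_eq_top_iff.1 (eq_top_iff.2 fun g _ => by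
      obtain ⟨c, d, hc, hd, rfl⟩ := H g
      rwa [eq_one_of_comm hG hy fun z hz =>
        mul_inv_eq_iff_eq_mul.1 ((sm c _ _).1 (hc ⟨z, hz⟩)), one_mul])
    exact absurd (mem_bot.1 (hG _ hn (fun c => hx (mem_bot.1 (c ▸ self_mem_cent x))) ▸
      fun g hg => mem_cent.1 hg)) hx

theorem abc_of_three {m k n : ℕ} {x₀ y₀ : G} (hx₀ : cs(x₀) = k) (y₀1 : y₀ ≠ 1) (hy₀ : cs(y₀) = m)
    (hmk : m ∣ k) (hne : m ≠ k) (all : ∀ x : G, x ≠ 1 → cs(x) = m ∨ cs(x) = k ∨ cs(x) = n) :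
    AbC G := by
  have o1 : ∀ {p} {x : G}, p.Prime → orderOf x = p → x ≠ 1 := fun hp h c =>
    hp.one_lt.ne (by rw [← h, c, orderOf_one])
  have cj1 : ∀ {x y : G}, x ≠ 1 → IsConj x y → y ≠ 1 := fun h c e => h (isConj_one_left.1 (e ▸ c))
  have hkG : k ∣ Nat.card G := hx₀ ▸ cs_dvd_card x₀
  have k0 : 0 < k := hx₀ ▸ cs_pos x₀
  have cen : ∀ p, p.Prime → p ∣ m → ∃ x : G, orderOf x = p ∧ cs(x) = n ∧ ¬ p ∣ n := fun p hp h => by
    obtain ⟨w, ho, hw⟩ := exists_central hp ((h.trans hmk).trans hkG)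
    rcases all w (o1 hp ho) with e | e | e
    · exact absurd (e ▸ h) hw
    · exact absurd (e ▸ h.trans hmk) hw
    · exact ⟨w, ho, e, e ▸ hw⟩
  have hmn : m.Coprime n := Nat.coprime_of_dvd fun p hp h => (cen p hp h).choose_spec.2.2
  have nc : ∀ {x y : G}, x ≠ 1 → y ≠ 1 → cs(x) = n → cs(y) = m → ¬ Commute x y :=
    fun hx hy e e' => not_comm hG hx hy (by rw [e, e']; exact hmn.symm)
  obtain ⟨p₀, hp₀, hp₀m, -⟩ := exists_prime_ne hG y₀1 2 Nat.prime_two
  obtain ⟨x, xo, xn, hp₀n⟩ := cen p₀ hp₀ (hy₀ ▸ hp₀m)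
  have x1 := o1 hp₀ xo
  have km : ¬ k ∣ m := fun c => hne (Nat.dvd_antisymm hmk c)
  have maxk : ∀ z w : G, cs(z) = k → z ≠ 1 → Commute z w → (orderOf z).Coprime (orderOf w) →
      𝒞[z] ≤ 𝒞[w] := fun z w hz z1 hc ho => by
    have h1 := cent_mul_of_coprime hc ho
    have h2 := hz ▸ cs_dvd_cs_mul_left hc ho
    rcases all _ (mul_ne_one z1 ho) with e | e | e
    · exact absurd (e ▸ h2) km
    · exact (eq_of_cs (h1.le.trans inf_le_left) (e.trans hz.symm)).ge.trans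
        (h1.le.trans inf_le_right)
    · exact absurd (((hy₀ ▸ hp₀m).trans hmk).trans (e ▸ h2)) hp₀n
  have elt : ∀ p (w : G), p.Prime → p ∣ Nat.card (𝒞[w] : Subgroup G) →
      ∃ z, orderOf z = p ∧ Commute z w := fun p w hp h => by
    have := Fact.mk hp
    obtain ⟨z, hz⟩ := exists_prime_orderOf_dvd_card' p h
    exact ⟨z, (orderOf_coe z).trans hz, mem_cent.1 z.2⟩
  obtain ⟨q, hq, hqk, hqn⟩ : ∃ q, q.Prime ∧ q ∣ k ∧ q ∣ n := by
    by_contra c
    have hkn : k.Coprime n := Nat.coprime_of_dvd fun p hp h h' => c ⟨p, hp, h, h'⟩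
    obtain ⟨d, rfl⟩ := hmk
    obtain ⟨p, hp, hpd⟩ := Nat.exists_prime_and_dvd (n := d) fun e => hne (by rw [e, mul_one])
    obtain ⟨z, zo, hz⟩ := elt p y₀ hp (hpd.trans (Nat.dvd_of_mul_dvd_mul_left
      (hy₀ ▸ cs_pos y₀) (by rwa [← card_cent_mul_cs y₀, hy₀, mul_comm _ m] at hkG)))
    obtain ⟨x', h1, h2⟩ := exists_comm hp (w := x) (fun h => c ⟨p, hp, hpd.mul_left m, xn ▸ h⟩) zo
    have h3 := (cs_of_isConj h1).symm.trans xn
    rcases all z (o1 hp zo) with e | e | e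
    · exact nc (cj1 x1 h1) (o1 hp zo) h3 e h2
    · exact not_comm hG (cj1 x1 h1) (o1 hp zo) (by rw [e, h3]; exact hkn.symm) h2
    · exact nc (o1 hp zo) y₀1 e hy₀ hz
  obtain ⟨y, yo, hy⟩ := exists_central hq (hqk.trans hkG)
  have y1 := o1 hq yo
  have ym : cs(y) = m := (all y y1).resolve_right fun c =>
    hy (c.elim (fun e => e ▸ hqk) fun e => e ▸ hqn)
  have P : ∀ p, p.Prime → p ∣ m → ∀ z w : G, orderOf z = p → w ≠ 1 → Commute z w → cs(w) = n := by
    intro p hp hpm z w zo w1 hc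
    by_contra c
    obtain ⟨d, hd⟩ : m ∣ cs(w) := by
      rcases all w w1 with e | e | e
      · rw [e]
      · exact e ▸ hmk
      · exact absurd e c
    obtain ⟨z, zo, hz⟩ := elt p y hp ((zo ▸ Subgroup.orderOf_dvd_natCard 𝒞[w]
      (mem_cent.2 hc)).trans ⟨d, Nat.eq_of_mul_eq_mul_right
        (ym ▸ cs_pos y) (by rw [mul_assoc, mul_comm d, ← hd, card_cent_mul_cs, ← ym,
          card_cent_mul_cs])⟩)
    obtain ⟨x, xo, xn, hpn⟩ := cen p hp hpm
    obtain ⟨x', h1, h2⟩ := exists_comm hp (w := x) (xn ▸ hpn) zo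
    have h3 := (cs_of_isConj h1).symm.trans xn
    have h4 := cj1 (o1 hp xo) h1
    rcases all z (o1 hp zo) with e | e | e
    · exact nc h4 (o1 hp zo) h3 e h2
    · exact nc h4 y1 h3 ym (mem_cent.1 (maxk z y e (o1 hp zo) hz (by
        rw [zo, yo, Nat.coprime_primes hp hq]
        exact fun c => hpn (c ▸ hqn)) (mem_cent.2 h2)))
    · exact nc (o1 hp zo) y1 e ym hz
  have A : ∀ p, p.Prime → p ∣ m → ∀ x a : G, orderOf x = p → Commute x a →
      (orderOf x).Coprime (orderOf a) → 𝒞[x] ≤ 𝒞[a] := fun p hp hpm x a xo hc ho => by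
    have h1 := cent_mul_of_coprime hc ho
    exact (eq_of_cs (h1.le.trans inf_le_left) ((P p hp hpm x _ xo (mul_ne_one (o1 hp xo) ho)
      ((Commute.refl x).mul_right hc)).trans (P p hp hpm x x xo (o1 hp xo) rfl).symm)).ge.trans
      (h1.le.trans inf_le_right)
  have B : ∀ p, p.Prime → p ∣ m → ∀ x : G, orderOf x = p → ∀ h ∈ 𝒞[x], 𝒞[x] ≤ 𝒞[h] := by
    intro p hp hpm x xo h hh
    have := Fact.mk hp
    obtain ⟨r, hr, hrm, hrp⟩ := exists_prime_ne hG y1 p hp
    rw [ym] at hrm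
    have xn := P p hp hpm x x xo (o1 hp xo) rfl
    obtain ⟨x', xo', hx'⟩ := elt r x hr ((hmn.coprime_dvd_left hrm).dvd_of_dvd_mul_right (by
      rw [← xn, card_cent_mul_cs]
      exact (hrm.trans hmk).trans hkG))
    have hrp' : (orderOf x').Coprime p := xo' ▸ (Nat.coprime_primes hr hp).2 hrp
    have h1 := A p hp hpm x x' xo hx'.symm (xo ▸ hrp'.symm)
    obtain ⟨c, d, hc, hd, ⟨i, hi⟩, hdo, rfl⟩ := H3.exists_p_part (p := p) h
    have h2 := zpowers_le.2 hh
    intro g hg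
    exact mem_cent.2 (Commute.mul_right (mem_cent.1 (A r hr hrm x' c xo'
      (mem_cent.1 (h1 (h2 hc))).symm (coprime_of_pow hi hrp') (h1 hg)))
      (mem_cent.1 (A p hp hpm x d xo (mem_cent.1 (h2 hd)).symm (xo ▸ hdo.symm) hg)))
  by_cases m2 : 2 ∣ m
  · exact fun t a b ht ha hb =>
      (mem_cent.1 (B 2 Nat.prime_two m2 t ht a (mem_cent.2 ha) (mem_cent.2 hb))).symm
  exfalso
  have iso : ∀ {y y' : G}, y ≠ 1 → cs(y) = m → IsConj y y' → Commute y y' → y' = y :=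
    fun y1 ym => isolated hG x1 (fun h hh h1 => (eq_of_cs (B p₀ hp₀ (hy₀ ▸ hp₀m) x xo h hh)
      (xn.trans (P p₀ hp₀ (hy₀ ▸ hp₀m) x h xo h1 (mem_cent.1 hh).symm).symm)).symm) y1
      (by rw [xn, ym]; exact hmn.symm)
  have odd : ∀ N : Subgroup G, N.Normal → Odd (Nat.card N) → N = ⊥ := fun N hN ho =>
    solv_eq_bot hG N hN (S0205.result ho)
  have ev : 2 ∣ Nat.card G := by_contra fun c => y₀1 (mem_bot.1 (odd ⊤ inferInstance (by
    rw [card_top]; exact Nat.not_even_iff_odd.1 fun c' => c (even_iff_two_dvd.1 c')) ▸ mem_top y₀))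
  have ik : ∀ t : G, orderOf t = 2 → cs(t) = k := fun t ht => by
    have t1 := ne_one_of_orderOf_two ht
    rcases all t t1 with e | e | e
    · obtain ⟨N, hN, ho, h⟩ := H42.zstar (z := t) ⟨ht, fun g => iso t1 e (isConj_iff.2 ⟨g, rfl⟩)⟩
      obtain rfl := odd N hN ho
      exact absurd (eq_one_of_comm hG t1 fun z _ => mul_inv_eq_iff_eq_mul.1
        (mul_inv_eq_one.1 (mem_bot.1 (h z)))) t1
    · exact e
    · obtain ⟨y', h1, h2⟩ := exists_comm Nat.prime_two (w := y) (ym ▸ m2) ht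
      exact absurd h2.symm (nc t1 (cj1 y1 h1) e ((cs_of_isConj h1).symm.trans ym))
  obtain ⟨u, hu, k2⟩ := exists_central Nat.prime_two ev
  rw [ik u hu] at k2
  have O : ∀ t z : G, orderOf t = 2 → IsConj y z → Commute t z → 𝒞[t] ≤ 𝒞[z] := fun t z ht h hc =>
    maxk t z (ik t ht) (ne_one_of_orderOf_two ht) hc (by
      rw [ht, ← orderOf_eq_of_isConj h, yo, Nat.coprime_primes Nat.prime_two hq]
      exact fun c => k2 (c ▸ hqk))
  have uniq : ∀ t z z' : G, orderOf t = 2 → IsConj y z → IsConj y z' → Commute t z → Commute t z' →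
      z' = z := fun t z z' ht h h' c c' => iso (cj1 y1 h) ((cs_of_isConj h).symm.trans ym)
    (h.symm.trans h') (mem_cent.1 (O t z ht h c (mem_cent.2 c'.symm))).symm
  obtain ⟨z, hz, zu⟩ := exists_comm Nat.prime_two (w := y) (ym ▸ m2) hu
  have zm := (cs_of_isConj hz).symm.trans ym
  obtain ⟨g, hg, hgu⟩ := SetLike.not_le_iff_exists.1 fun c : (𝒞[z] : Subgroup G) ≤ 𝒞[u] =>
    km (by have := index_dvd_of_le c; rwa [ik u hu, zm] at this)
  obtain ⟨v, hv, zv⟩ : ∃ v, IsConj u v ∧ ¬ Commute z v := by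
    by_contra c
    push Not at c
    exact cj1 y1 hz (eq_one_of_comm hG (ne_one_of_orderOf_two hu) c)
  have vo : orderOf v = 2 := (orderOf_eq_of_isConj hv).symm.trans hu
  have sw : ∀ u : G, orderOf u = 2 → Commute z u → ∃ e : G, e * e = 1 ∧ e * u * e⁻¹ = v ∧
      Commute v (e * z * e⁻¹) := fun u hu zu => by
    obtain ⟨e, -, e2, he⟩ := exists_invol_conj_of_odd (mul_self_of_orderOf_two hu)
      (mul_self_of_orderOf_two vo) (Nat.not_even_iff_odd.1 fun c => by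
        obtain ⟨s2, su, sv⟩ := central_involution (mul_self_of_orderOf_two hu)
          (mul_self_of_orderOf_two vo) c
        exact zv (mem_cent.1 (O _ z s2 hz (mem_cent.1 (O u z hu hz zu.symm (mem_cent.2 su)))
          (mem_cent.2 sv.symm))).symm)
    exact ⟨e, e2, he, he ▸ zu.symm.map (MulAut.conj e)⟩
  obtain ⟨e, e2, he, hc⟩ := sw u hu zu
  obtain ⟨f, f2, hf, hc'⟩ := sw (g * u * g⁻¹) ((orderOf_conj' g u).trans hu) (by
    have := zu.map (MulAut.conj g)
    rwa [MulAut.conj_apply, mem_cent'.1 hg] at this)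
  have cz : ∀ a : G, IsConj y (a * z * a⁻¹) := fun a => hz.trans (isConj_iff.2 ⟨a, rfl⟩)
  have h1 := uniq v _ _ vo (cz e) (cz f) hc hc'
  have ei := inv_eq_of_mul_eq_one_left e2
  have fi := inv_eq_of_mul_eq_one_left f2
  have h2 : Commute (f⁻¹ * e) z := mul_inv_eq_iff_eq_mul.1 (by
    rw [show f⁻¹ * e * z * (f⁻¹ * e)⁻¹ = f⁻¹ * (e * z * e⁻¹) * f by group, ← h1]; group)
  have h3 : e * (f⁻¹ * e) * e⁻¹ = (f⁻¹ * e)⁻¹ := by
    rw [mul_inv_rev, inv_inv, mul_assoc, mul_inv_cancel_right, ei, fi]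
  have w1 : f⁻¹ * e ≠ 1 := fun c => hgu (mem_cent'.2 ((MulAut.conj e).injective (by
    rw [inv_mul_eq_one.1 c] at hf
    exact hf.trans he.symm)))
  have h4 : orderOf (f⁻¹ * e) = 2 := orderOf_eq_prime (sq_eq_one_of_isConj_inv (by
    rcases all _ w1 with c | c | c
    · exact c ▸ m2
    · exact c ▸ k2
    · exact absurd h2 (nc w1 (cj1 y1 hz) c zm)) (isConj_iff.2 ⟨e, h3⟩)) w1
  refine zv (uniq _ _ _ h4 hz (cz e) h2 ?_ ▸ hc.symm)
  have := h2.map (MulAut.conj e)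
  rw [MulAut.conj_apply, h3] at this
  exact Commute.inv_left_iff.1 this

end Cfsg.Agent.H13.CC3c
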