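import Cfsg.Agent.H13.CC3a
import Cfsg.Agent.H88.Vanish
import Cfsg.Agent.H72.Isolated
import Cfsg.Agent.S1534
import Cfsg.Agent.S0852
import Cfsg.Agent.S0853
import Cfsg.Agent.S0035

set_option autoImplicit false
set_option linter.style.haveILetI false

/-! A simple permutation group with a regular nilpotent subgroup of odd order containing the
centralizers of its non-trivial elements is doubly transitive. -/

namespace Cfsg.Agent.H13

open Subgroup H83 H8 S3192 H41 H5 H6 MulAction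

variable {G : Type*} [Group G] [Finite G]

local notation "𝒞[" x "]" => Subgroup.centralizer {x}

theorem two_of_coherent {L : Type*} [Group L] [Fintype L] {S : Set (L → ℂ)}
    (hS : ∀ χ ∈ S, IsIrrCharacter L χ) (h : ∃ α ∈ zspanOn S {1}ᶜ, α ≠ 0) :
    ∃ χ ∈ S, ∃ ξ ∈ S, χ ≠ ξ := by
  obtain ⟨α, ⟨h1, h2⟩, h3⟩ := h
  by_contra c
  push Not at c
  rcases S.eq_empty_or_nonempty with rfl | ⟨χ, hχ⟩
  · exact h3 (by simpa [zspan] using h1)
  rw [Set.eq_singleton_iff_unique_mem.2 ⟨hχ, fun ξ hξ => c ξ hξ χ hχ⟩] at h1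
  obtain ⟨n, rfl⟩ := Submodule.mem_span_singleton.1 h1
  have h4 := h2 1 (by simp)
  simp only [Pi.smul_apply, smul_eq_zero, degree_ne_zero (hS χ hχ), or_false] at h4
  exact h3 (by rw [h4, zero_smul])

theorem sum_sub_one {L : Type*} [Group L] [Fintype L] {f g : L → ℂ} {c : ℂ}
    (h : ∀ k, k ≠ 1 → f k = g k + c) :
    ∑ k, f k = ∑ k, g k + f 1 - g 1 + ((Nat.card L : ℂ) - 1) * c := by
  classical
  rw [← Finset.add_sum_erase _ f (Finset.mem_univ 1), ← Finset.add_sum_erase _ g (Finset.mem_univ 1),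
    Finset.sum_congr rfl fun k hk => h k (Finset.ne_of_mem_erase hk), Finset.sum_add_distrib,
    Finset.sum_const, Finset.card_erase_of_mem (Finset.mem_univ _), Finset.card_univ,
    ← Nat.card_eq_fintype_card, nsmul_eq_mul, Nat.cast_sub Nat.card_pos]
  push_cast
  ring

theorem rank_le_two_of_nil [IsSimpleGroup G] {X : Type*} [MulAction G X] [Finite X]
    {K : Subgroup G} (hnil : Group.IsNilpotent K) (hab : ¬ K ≤ centralizer (K : Set G))
    (hodd : Odd (Nat.card K)) (hC : ∀ k ∈ K, k ≠ 1 → 𝒞[k] ≤ K) (hK : K ≠ ⊤)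
    (htr : ∀ x y : X, ∃ k ∈ K, k • x = y) (hfree : ∀ k ∈ K, ∀ x : X, k • x = x → k = 1)
    (x₀ : X) : ∑ ψ : IrrCharacter G, mu X ψ ^ 2 ≤ 2 := by
  classical
  haveI := Fintype.ofFinite G
  haveI : IsPretransitive G X := ⟨fun x y => let ⟨k, _, e⟩ := htr x y; ⟨k, e⟩⟩
  haveI : Nonempty X := ⟨x₀⟩
  have hX := card_eq_of_regular htr hfree x₀
  have K1 : K ≠ ⊥ := fun e => hab (e ▸ bot_le)
  set L := K ⊓ centralizer (K : Set G) with hL
  obtain ⟨z, hz, z1⟩ : ∃ z ∈ L, z ≠ 1 := by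
    haveI := (nontrivial_iff_ne_bot K).2 K1
    obtain ⟨z, hz⟩ := ne_bot_iff_exists_ne_one.1 (Group.IsNilpotent.center_ne_bot K)
    exact ⟨z.1, ⟨z.1.2, fun g hg => congrArg Subtype.val (mem_center_iff.1 z.2 ⟨g, hg⟩)⟩,
      fun e => hz (Subtype.ext (Subtype.ext e))⟩
  have hTI : ∀ g : G, g ∉ normalizer (K : Set G) → ∀ k ∈ K, g * k * g⁻¹ ∈ K → k = 1 := by
    intro g hg k hk h
    by_contra k1
    have h1 : g * z * g⁻¹ ∈ K := hC _ h (by simpa using k1) (mem_cent.2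
      ((show Commute z k from (hz.2 k hk).symm).map (MulAut.conj g)))
    exact hg (H72.mem_normalizer_of_conj_mem fun a ha => hC _ h1 (by simpa using z1) (mem_cent.2
      ((show Commute a z from hz.2 a ha).map (MulAut.conj g))))
  have hlt : K < normalizer (K : Set G) := lt_of_le_of_ne le_normalizer fun e => by
    obtain ⟨N, -, hN, h⟩ := S0035.result K ⟨K1, hK, fun g hg => eq_bot_iff.2 (by
      rintro _ ⟨h1, k, hk, rfl⟩
      rw [hTI g (e ▸ hg) k hk h1]
      exact mem_bot.2 (map_one (MulAut.conj g)))⟩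
    rcases hN.eq_bot_or_eq_top with rfl | rfl
    · exact hK (isComplement'_bot_left.1 h)
    · exact K1 (isComplement'_top_left.1 h)
  set N := normalizer (K : Set G) with hN
  haveI := Fintype.ofFinite N
  haveI := Fintype.ofFinite K
  have hLN : N ≤ normalizer (L : Set G) :=
    H72.le_normalizer_inf le_rfl (H72.normalizer_le_normalizer_centralizer K)
  obtain ⟨e, he⟩ : ∃ e, (K.subgroupOf N).index = e := ⟨_, rfl⟩
  obtain ⟨n, hn⟩ : ∃ n, Nat.card K = n := ⟨_, rfl⟩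
  rw [hn] at hX
  have he2 : 2 * e + 1 < n := by
    have h1 : e ≤ Nat.card L := by
      have h2 := card_isConj (⟨z, hlt.le hz.1⟩ : N)
      rw [cs_subgroup, show (𝒞[z] : Subgroup G) = K from le_antisymm (hC z hz.1 z1)
        fun a ha => mem_cent.2 (hz.2 a ha)] at h2
      refine (he.symm.trans h2.symm).le.trans (Nat.card_le_card_of_injective (fun y => ⟨y.1, ?_⟩)
        fun a b h => Subtype.ext (Subtype.ext (by simpa using h)))
      obtain ⟨g, hg⟩ := isConj_iff.1 y.2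
      exact hg ▸ H72.conj_mem_of_mem_normalizer (hLN g.2) hz
    obtain ⟨j, hj⟩ := card_dvd_of_le (inf_le_left : L ≤ K)
    have h3 : 1 < Nat.card L := (one_lt_card_iff_ne_bot _).2 fun e => z1 (mem_bot.1 (e ▸ hz))
    have h4 : j ≠ 1 := fun e => hab (inf_eq_left.1 (eq_of_le_of_card_ge inf_le_left
      (by rw [hj, e, mul_one])))
    obtain ⟨i, hi⟩ := (Nat.odd_mul.1 (hj ▸ hodd)).2
    have : 3 ≤ j := by omega
    rw [← hn, hj]
    nlinarith
  have e0 : (e : ℂ) ≠ 0 := Nat.cast_ne_zero.2 (he ▸ index_ne_zero_of_finite)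
  rcases S1534.result K K1 hnil hTI hlt hC with ⟨-, -, p, -, h, -⟩ | ⟨h, -⟩ | ⟨h2, star, hs, hx⟩
  · exact absurd (fun a ha b hb => congrArg Subtype.val (h.1.1 ⟨b, hb⟩ ⟨a, ha⟩)) hab
  · exfalso
    generalize (Nat.card G).factorization 2 = k at h
    rcases k with _ | k
    · omega
    · exact (Nat.not_even_iff_odd.2 hodd) (h ▸ by rw [pow_succ]; exact even_two.mul_left _)
  have htwo := two_of_coherent (fun χ hχ => hχ.1) h2
  obtain ⟨m, hm⟩ := S0853.result K hTI hlt hC _ rfl htwo star hs hx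
  rw [he] at hm
  choose d d0 hd using fun ψ : IrrCharacter G => exists_pos_nat_degree ψ.2
  set T := Finset.univ.erase (H25.trivChar G) with hT
  have split : ∀ g : G, (pc X g : ℂ) = 1 + ∑ ψ ∈ T, (mu X ψ : ℂ) * ψ.1 g := fun g => by
    rw [pc_eq_sum_mu, ← Finset.add_sum_erase _ _ (Finset.mem_univ (H25.trivChar G)), mu_triv]
    simp [H25.trivChar, hT]
  have sub : ∀ (M : Subgroup G) [Fintype M], M ≤ K →
      (n : ℂ) = Nat.card M + ∑ ψ ∈ T, (mu X ψ : ℂ) * ∑ k : M, ψ.1 k := fun M _ hM => by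
    have h1 : ∑ k : M, (pc X (k : G) : ℂ) = n := by
      rw [Finset.sum_eq_single 1]
      · simp [pc_one, hX]
      · intro k _ hk
        simp [pc_eq_zero_of_free hfree (hM k.2) fun e => hk (Subtype.ext e)]
      · simp
    rw [← h1, Finset.sum_congr rfl fun (k : M) _ => split k, Finset.sum_add_distrib, Finset.sum_comm]
    simp [Finset.mul_sum, Nat.card_eq_fintype_card]
  have h1 : n = 1 + ∑ ψ ∈ T, mu X ψ * d ψ := by
    have := split 1
    simp only [pc_one, hX, hd] at this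
    exact_mod_cast this
  have h3 : ∀ ψ ∈ T, mu X ψ ≠ 0 → ∑ k : K, ψ.1 k = 0 := fun ψ hψ h0 => by
    have a1 : ∀ φ : IrrCharacter G, ∑ k : K, φ.1 k = n * ml φ (H25.trivChar K) := fun φ => by
      rw [← ml_spec, H25.trivChar, classInner_one_right, ← hn, mul_inv_cancel_left₀ natCard_ne_zero]
    have a2 := sub K le_rfl
    simp only [a1, hn, left_eq_add] at a2
    have a3 : ∑ ψ ∈ T, mu X ψ * (n * ml ψ (H25.trivChar K)) = 0 := by exact_mod_cast a2
    have a4 := (mul_eq_zero.1 (Finset.sum_eq_zero_iff.1 a3 ψ hψ)).resolve_left h0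
    rw [a1]
    exact_mod_cast a4
  by_contra hr
  have h4 : 2 ≤ ∑ ψ ∈ T, mu X ψ := by
    by_contra c
    rw [← Finset.add_sum_erase _ _ (Finset.mem_univ (H25.trivChar G)), mu_triv, ← hT] at hr
    have : ∑ ψ ∈ T, mu X ψ ^ 2 = ∑ ψ ∈ T, mu X ψ := Finset.sum_congr rfl fun ψ hψ => by
      have := Finset.single_le_sum (f := fun ψ => mu X ψ) (fun _ _ => Nat.zero_le _) hψ
      have : mu X ψ = 0 ∨ mu X ψ = 1 := by omega
      rcases this with e | e <;> simp [e]
    omega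
  have h5 : ∀ ψ ∈ T, mu X ψ ≠ 0 → d ψ + 1 < n := fun ψ hψ h0 => by
    have a1 : ∑ ψ ∈ T, mu X ψ * d ψ = ∑ ψ ∈ T, mu X ψ + ∑ ψ ∈ T, mu X ψ * (d ψ - 1) := by
      rw [← Finset.sum_add_distrib]
      exact Finset.sum_congr rfl fun φ _ => by
        rw [← mul_one_add, Nat.add_sub_cancel' (show 1 ≤ d φ from d0 φ)]
    have a2 := Finset.single_le_sum (f := fun ψ => mu X ψ * (d ψ - 1))
      (fun _ _ => Nat.zero_le _) hψ
    have a3 := Nat.le_mul_of_pos_left (d ψ - 1) (Nat.pos_of_ne_zero h0)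
    omega
  obtain ⟨φ, hφ, φ0, h6⟩ : ∃ φ ∈ T, mu X φ ≠ 0 ∧ 2 * d φ < n := by
    by_contra c
    push Not at c
    have a1 : (∑ ψ ∈ T, mu X ψ) * n ≤ 2 * ∑ ψ ∈ T, mu X ψ * d ψ := by
      rw [Finset.sum_mul, Finset.mul_sum]
      refine Finset.sum_le_sum fun ψ hψ => ?_
      by_cases e : mu X ψ = 0
      · simp [e]
      · rw [mul_left_comm]; exact Nat.mul_le_mul_left _ (c ψ hψ e)
    nlinarith
  have z' : (⟨z, hz.1⟩ : K) ≠ 1 := fun e => z1 (congrArg Subtype.val e)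
  have h7 : ∀ ψ ∈ T, mu X ψ ≠ 0 → ∃ χ : N → ℂ, IsIrrCharacter N χ ∧ ∃ (ε t : ℤ) (c : ℕ),
      (ε = 1 ∨ ε = -1) ∧ χ 1 = c ∧ 0 < c ∧ t * e = m * c ∧ ε * d ψ = c - (n - 1) * t ∧
      ∀ k : N, (k : G) ∈ K → k ≠ 1 → ε * ψ.1 k = χ k + t := fun ψ hψ h0 => by
    have a1 := (S0852.result K hTI hlt hC _ rfl htwo star hs hx ψ.1 ψ.2).2 (by
      by_contra c
      push Not at c
      have a2 := sum_sub_one (L := K) (f := fun k => ψ.1 k) (g := 0) (c := ψ.1 z)
        fun k hk => by simpa using c k k.2 z hz.1 (fun e => hk (Subtype.ext e)) z1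
      have a3 : ((n - 1 : ℕ) : ℂ) ≠ 0 := Nat.cast_ne_zero.2 (by omega)
      have a4 := Nat.le_of_dvd (d0 ψ) (dvd_of_isIntegral_div (a := d ψ) (b := n - 1) (by omega) (by
        have : (d ψ : ℂ) / (n - 1 : ℕ) = -ψ.1 z := by
          rw [div_eq_iff a3, Nat.cast_sub (by omega)]
          simp only [h3 ψ hψ h0, Pi.zero_apply, Finset.sum_const_zero, OneMemClass.coe_one,
            hd, hn] at a2
          push_cast
          linear_combination -a2
        exact this ▸ (isIntegral_apply (isCharacter_of_isIrr ψ.2) z).neg))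
      have := h5 ψ hψ h0
      omega)
    obtain ⟨χ, hχ, ε, hε, a2⟩ : ∃ χ, (IsIrrCharacter N χ ∧ ∃ k : N, (k : G) ∈ K ∧ χ k ≠ χ 1) ∧
        ∃ ε : ℤ, (ε = 1 ∨ ε = -1) ∧ ∀ g, star χ g = ε * ψ.1 g := by
      obtain ⟨χ, hχ, a1 | a1⟩ := a1
      · exact ⟨χ, hχ, 1, .inl rfl, fun g => by simp [a1]⟩
      · exact ⟨χ, hχ, -1, .inr rfl, fun g => by simp [a1]⟩
    obtain ⟨c, c0, hc⟩ := exists_pos_nat_degree hχ.1
    have a3 := hm χ hχ
    simp only [a2, hc] at a3
    obtain ⟨t, ht⟩ := int_dvd_of_isIntegral_div (a := m * c) (b := e) (by exact_mod_cast e0) (by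
      push_cast
      rw [← a3 ⟨z, hlt.le hz.1⟩ hz.1 fun e => z1 (congrArg Subtype.val e)]
      exact ((isIntegral_algebraMap (x := ε)).mul (isIntegral_apply (isCharacter_of_isIrr ψ.2) _)).sub
        (isIntegral_apply (isCharacter_of_isIrr hχ.1) _))
    have a4 : (m : ℂ) * c / e = t := by
      rw [div_eq_iff e0, mul_comm (t : ℂ)]
      exact_mod_cast ht
    have a5 : ∀ k : N, (k : G) ∈ K → k ≠ 1 → ε * ψ.1 k = χ k + t := fun k hk k1 => by
      rw [← a4, ← a3 k hk k1]; ring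
    refine ⟨χ, hχ.1, ε, t, c, hε, hc, c0, by rw [ht, mul_comm], ?_, a5⟩
    have a6 := sum_sub_one (L := K) (f := fun k => ε * ψ.1 k) (g := fun k => χ ⟨k, hlt.le k.2⟩)
      fun k hk => a5 ⟨k, hlt.le k.2⟩ k.2 fun e => hk (Subtype.ext (by simpa using e))
    haveI := Fintype.ofFinite (K.subgroupOf N)
    have a7 : ∑ k : K, χ ⟨k, hlt.le k.2⟩ = 0 := by
      rw [← H88.sum_normal_eq_zero hχ.1 (K.subgroupOf N) hχ.2]
      exact (Fintype.sum_equiv (subgroupOfEquivOfLe hlt.le).toEquiv _ _ fun k => rfl).symm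
    rw [← Finset.mul_sum, h3 ψ hψ h0, a7] at a6
    have a8 : χ ⟨(1 : K), hlt.le (1 : K).2⟩ = c := hc
    rw [a8, OneMemClass.coe_one, hd, hn] at a6
    have : (ε : ℂ) * d ψ = c - (n - 1) * t := by linear_combination -a6
    exact_mod_cast this
  have e1 : (0 : ℤ) < e := by exact_mod_cast Nat.pos_of_ne_zero (Nat.cast_ne_zero.1 e0)
  have m0 : m = 0 := by
    obtain ⟨χ, -, ε, t, c, hε, -, c0, a1, a2, -⟩ := h7 φ hφ φ0
    have b1 : 2 * (d φ : ℤ) < n := by exact_mod_cast h6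
    have b2 : 2 * (e : ℤ) + 1 < n := by exact_mod_cast he2
    have b3 : (0 : ℤ) < c := by exact_mod_cast c0
    have b4 : (0 : ℤ) < d φ := by exact_mod_cast d0 φ
    rcases lt_trichotomy m 0 with h | h | h
    · have : t < 0 := by nlinarith
      rcases hε with rfl | rfl <;> nlinarith
    · exact h
    · have b5 : 0 < t := by nlinarith
      have b6 : (c : ℤ) ≤ t * e := by nlinarith
      rcases hε with rfl | rfl <;> nlinarith
  haveI := Fintype.ofFinite L
  obtain ⟨ψ, hψ, h8⟩ : ∃ ψ ∈ T, (mu X ψ : ℂ) * ∑ k : L, ψ.1 k ≠ 0 := by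
    refine Finset.exists_ne_zero_of_sum_ne_zero fun c => hab (inf_eq_left.1
      (eq_of_le_of_card_ge inf_le_left ?_))
    have := sub L inf_le_left
    rw [c, add_zero] at this
    exact hn.trans_le (Nat.cast_injective this).le
  obtain ⟨χ, hχ, ε, t, c, hε, hc, c0, a1, a2, a3⟩ := h7 ψ hψ fun e => h8 (by simp [e])
  obtain rfl : t = 0 := (mul_eq_zero.1 (by rw [a1, m0, zero_mul])).resolve_right e1.ne'
  obtain rfl : ε = 1 := hε.resolve_right fun e => by
    have := d0 ψ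
    rw [e] at a2
    omega
  have a4 : ∀ k : N, (k : G) ∈ K → ψ.1 k = χ k := fun k hk => by
    by_cases k1 : k = 1
    · rw [k1, hc, OneMemClass.coe_one, hd]
      simpa using a2
    · simpa using a3 k hk k1
  have hLK : L ≤ N := inf_le_left.trans hlt.le
  haveI := Fintype.ofFinite (L.subgroupOf N)
  haveI : (L.subgroupOf N).Normal := (normal_subgroupOf_iff_le_normalizer hLK).2 hLN
  have a5 := H88.apply_eq_degree_of_sum_ne_zero hχ (L.subgroupOf N) (fun c => h8 (by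
    rw [← Fintype.sum_equiv (subgroupOfEquivOfLe hLK).toEquiv (fun k => χ k) _
      fun k => (a4 k k.2.1).symm, c, mul_zero])) (n := ⟨z, hLK hz⟩) hz
  rw [← a4 _ hz.1, ← a4 1 (one_mem K)] at a5
  rcases (instNormalCharKer (isCharacter_of_isIrr ψ.2)).eq_bot_or_eq_top with e | e
  · exact z1 (mem_bot.1 (e ▸ a5))
  · exact Finset.ne_of_mem_erase hψ (Subtype.ext (eq_one_of_forall_eq_degree ψ.2
      fun g => (e.ge trivial : g ∈ charKer _)))

theorem isolated_of_nil [IsSimpleGroup G] (hG : ¬ IsMulCommutative G) {K : Subgroup G}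
    (hnil : Group.IsNilpotent K) (hodd : Odd (Nat.card K)) (hC : ∀ k ∈ K, k ≠ 1 → 𝒞[k] ≤ K)
    (K1 : K ≠ ⊥) {y : G} (hy : y ≠ 1) (hc : K.index.Coprime cs(y))
    (hc2 : (Nat.card K).Coprime (Nat.card (𝒞[y] : Subgroup G))) : IsIsolated y := by
  intro g hc'
  have h : IsConj y (g * y * g⁻¹) := isConj_iff.2 ⟨g, rfl⟩
  generalize g * y * g⁻¹ = y' at h hc'
  by_cases hab : K ≤ centralizer (K : Set G)
  · obtain ⟨⟨x, hx⟩, x1⟩ := ne_bot_iff_exists_ne_one.1 K1
    have e : ∀ k ∈ K, k ≠ 1 → 𝒞[k] = K := fun k hk k1 =>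
      le_antisymm (hC k hk k1) fun a ha => mem_cent.2 (hab hk a ha)
    have x1' : x ≠ 1 := fun c => x1 (Subtype.ext c)
    exact isolated hG x1' (fun k hk k1 => by rw [e x hx x1'] at hk ⊢; exact e k hk k1) hy
      (by rwa [e x hx x1']) h hc'
  let _ : MulAction G {z // IsConj y z} :=
    { smul := fun g z => ⟨g * z * g⁻¹, z.2.trans (isConj_iff.2 ⟨g, rfl⟩)⟩
      one_smul := fun z => Subtype.ext (show 1 * z.1 * 1⁻¹ = z by simp)
      mul_smul := fun a b z =>
        Subtype.ext (show a * b * z.1 * (a * b)⁻¹ = a * (b * z.1 * b⁻¹) * a⁻¹ by group) }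
  have sm : ∀ (g : G) (z w : {z // IsConj y z}), g • z = w ↔ g * z * g⁻¹ = w := fun g z w =>
    Subtype.ext_iff
  have htr : ∀ a b : {z // IsConj y z}, ∃ k ∈ K, k • a = b := fun a b => by
    obtain ⟨g, hg⟩ := isConj_iff.1 (a.2.symm.trans b.2)
    obtain ⟨k, hk, c, hc, rfl⟩ := H1.mul_eq_of_coprime _ _ (cs_of_isConj a.2 ▸ hc) g
    refine ⟨k, hk, (sm _ _ _).2 ?_⟩
    rw [← hg]
    conv_lhs => rw [← mem_cent'.1 hc]
    group
  haveI : IsPretransitive G {z // IsConj y z} := ⟨fun x y => let ⟨k, _, e⟩ := htr x y; ⟨k, e⟩⟩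
  have H := rank_le_two_of_nil hnil hab hodd hC (fun e => by
    rw [e, card_top] at hodd
    exact Nat.not_odd_iff_even.2 (even_card_of_simple hG) hodd) htr (fun k hk a e =>
      orderOf_eq_one_iff.1 (Nat.eq_one_of_dvd_coprimes hc2 (K.orderOf_dvd_natCard hk)
        (card_cent_eq (cs_of_isConj a.2) ▸ Subgroup.orderOf_dvd_natCard _
          (mem_cent'.2 ((sm _ _ _).1 e))))) ⟨y, IsConj.refl y⟩
  by_contra hne
  refine hy (eq_one_of_comm hG hy fun z hz => ?_)
  by_cases e : z = y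
  · rw [e]
  obtain ⟨g, g1, g2⟩ := two_trans_of_rank _ H (x := ⟨y, IsConj.refl y⟩) (y := ⟨y', h⟩)
    (z := ⟨z, hz⟩) (fun c => hne (congrArg Subtype.val c)) fun c => e (congrArg Subtype.val c)
  have := hc'.map (MulAut.conj g)
  rwa [MulAut.conj_apply, MulAut.conj_apply, (sm _ _ _).1 g1, (sm _ _ _).1 g2] at this

end Cfsg.Agent.H13
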