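import Cfsg.Agent.H13.CC3a
import Cfsg.Agent.H22.PConstrained
import Cfsg.Agent.S0028

set_option autoImplicit false
set_option linter.style.haveILetI false

/-! A form of the `P × Q` lemma for solvable groups, and centralizers with few class sizes. -/

namespace Cfsg.Agent.H13

open Subgroup H83 H8 S3192

variable {G : Type*} [Group G] [Finite G]

local notation "𝒞[" x "]" => Subgroup.centralizer {x}

omit [Finite G] in
theorem eq_one_of_PE_of_coprime {p : ℕ} {x : G} (h : PE p x) (hc : (orderOf x).Coprime p) :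
    x = 1 := by
  obtain ⟨k, hk⟩ := h.orderOf_dvd
  exact orderOf_eq_one_iff.1 ((hc.pow_right k).eq_one_of_dvd hk)

theorem mem_core_of_pq [Group.IsSolvable G] {p : ℕ} (hp : p.Prime) {R : Subgroup G}
    (hR : IsPGroup p R) {y : G} (hy : (orderOf y).Coprime p) (hyR : y ∈ centralizer (R : Set G))
    (h : ∀ v ∈ centralizer (R : Set G), PE p v → Commute v y) : y ∈ pPrimeCore p G := by
  haveI := Fact.mk hp
  let f := QuotientGroup.mk' (pPrimeCore p G)
  have hf : Function.Surjective f := QuotientGroup.mk'_surjective _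
  have hc : H22.IsCharP p (G ⧸ pPrimeCore p G) :=
    H22.IsPSolvable.isCharP_quotient H22.isPSolvable_of_isSolvable
  have hfy : (orderOf (f y)).Coprime p := hy.coprime_dvd_left (orderOf_map_dvd f y)
  have key := S0028.result p (R.map f) (zpowers (f y)) (pCore p _) (hR.map f)
    (by rwa [Nat.card_zpowers]) H22.isPGroup_pCore
    (by
      rintro _ ⟨r, hr, rfl⟩ _ ⟨k, rfl⟩
      exact ((show Commute y r from (hyR r hr).symm).map f).zpow_left k)
    (by rw [normalizer_eq_top]; exact le_top) (by rw [normalizer_eq_top]; exact le_top)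
    (by
      rintro u ⟨hu, huR⟩ _ ⟨k, rfl⟩
      rw [← H22.map_centralizer_of_ker_coprime f hf H22.coprime_ker_mk' hR] at huR
      obtain ⟨v, hv, rfl⟩ := huR
      obtain ⟨a, b, ha, hb, hk, hbo, e⟩ := H3.exists_p_part (p := p) v
      have h1 : f b = 1 := by
        refine eq_one_of_PE_of_coprime (p := p) ?_ (hbo.coprime_dvd_left (orderOf_map_dvd f b))
        obtain ⟨j, rfl⟩ := hb
        exact PE.of_mem H22.isPGroup_pCore (by rw [map_zpow]; exact (pCore p _).zpow_mem hu j)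
      rw [e, map_mul, h1, mul_one]
      exact (((h a (zpowers_le.2 hv ha) hk).symm.map f).zpow_left k).eq)
  exact (QuotientGroup.eq_one_iff y).1 (eq_one_of_PE_of_coprime
    (PE.of_mem H22.isPGroup_pCore (hc (key (mem_zpowers _)))) hfy)

/-- A `p`-element centralizing a Sylow `p`-subgroup of `C(y)` and having the class size of `y`
centralizes `y`. -/
theorem commute_of_cent_sylow {p : ℕ} [Fact p.Prime] {y v : G} (P : Sylow p (𝒞[y] : Subgroup G))
    (hv : v ∈ centralizer (((P : Subgroup (𝒞[y] : Subgroup G)).map (Subgroup.subtype _) :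
      Subgroup G) : Set G)) (hp : PE p v) (e : Nat.card (𝒞[v] : Subgroup G) ∣
        Nat.card (𝒞[y] : Subgroup G)) : Commute v y := by
  set R : Subgroup G := (P : Subgroup (𝒞[y] : Subgroup G)).map (Subgroup.subtype _) with hRd
  have hR : IsPGroup p R := P.isPGroup'.map _
  have h1 : IsPGroup p (R ⊔ zpowers v : Subgroup G) :=
    hR.to_sup_of_normal_left' hp.isPGroup_zpowers
      (zpowers_le.2 (centralizer_le_normalizer _ hv))
  obtain ⟨k, hk⟩ := h1.exists_card_eq
  have h2 : R ⊔ zpowers v ≤ 𝒞[v] :=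
    sup_le (fun r hr => mem_cent.2 (hv r hr)) (zpowers_le_cent v)
  have h3 := P.pow_dvd_card_of_pow_dvd_card (hk ▸ (card_dvd_of_le h2).trans e)
  have h4 : R = R ⊔ zpowers v := eq_of_le_of_card_ge le_sup_left (by
    rw [hk, hRd, card_map_of_injective (Subgroup.subtype_injective _)]
    exact Nat.le_of_dvd Nat.card_pos h3)
  obtain ⟨r, -, rfl⟩ : v ∈ R := h4 ▸ mem_sup_right (mem_zpowers v)
  exact mem_cent.1 r.2

/-- Below a centralizer there is only one class size of elements with centralizer of even order. -/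
def PC (G : Type*) [Group G] (c : ℕ) : Prop :=
  ∀ x w : G, x ≠ 1 → 2 ∣ Nat.card (𝒞[w] : Subgroup G) → 𝒞[w] ≤ 𝒞[x] → 𝒞[w] = 𝒞[x] ∨ cs(w) = c

omit [Finite G] in
theorem two_dvd_cent {x w : G} (hx : PE 2 x) (x1 : x ≠ 1) (h : Commute x w) :
    2 ∣ Nat.card (𝒞[w] : Subgroup G) := by
  obtain ⟨k, hk⟩ := hx.orderOf_eq Nat.prime_two
  refine dvd_trans ?_ (dvd_card_cent rfl h)
  rw [hk]
  exact dvd_pow_self 2 fun c => x1 (orderOf_eq_one_iff.1 (by rw [hk, c, pow_zero]))

namespace PC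

variable {c : ℕ} (H : PC G c)
include H

theorem two {t : G} (ht : PE 2 t) (t1 : t ≠ 1) (u : (𝒞[t] : Subgroup G))
    (hu : (orderOf u).Coprime 2) : cs(u) = 1 ∨ cs(u) = c / cs(t) := by
  have hc : Commute t u := (mem_cent.1 u.2).symm
  have ho : (orderOf t).Coprime (orderOf (u : G)) := ht.coprime (by rw [orderOf_coe]; exact hu.symm)
  have h1 := cs_mul_cent u ho
  rcases H t (t * u) t1 (two_dvd_cent ht t1 ((Commute.refl t).mul_right hc))
    ((cent_mul_of_coprime hc ho).le.trans inf_le_left) with e | e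
  · rw [e] at h1
    exact .inl (Nat.eq_of_mul_eq_mul_right (cs_pos t) (h1.symm.trans (one_mul _).symm))
  · exact .inr (by rw [← e, h1, Nat.mul_div_cancel _ (cs_pos t)])

theorem solv {t : G} (ht : orderOf t = 2) : Group.IsSolvable (𝒞[t] : Subgroup G) := by
  obtain ⟨U, hU, k, hk⟩ := exists_nilpotent_of_two_sizes Nat.prime_two
    (H.two (pe_of_prime ht) (ne_one_of_orderOf_two ht))
  exact isSolvable_of_nilpotent_index Nat.prime_two hU hk

theorem cent_le {x y : G} (hx : PE 2 x) (x1 : x ≠ 1) (xc : cs(x) = c) (hc : Commute x y)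
    (hy : (orderOf y).Coprime 2) : 𝒞[x] ≤ 𝒞[y] := by
  have ho : (orderOf x).Coprime (orderOf y) := hx.coprime hy.symm
  have h1 := cent_mul_of_coprime hc ho
  have h2 := h1.le.trans inf_le_left
  refine le_trans ?_ (h1.le.trans inf_le_right)
  rcases H x (x * y) x1 (two_dvd_cent hx x1 ((Commute.refl x).mul_right hc)) h2 with e | e
  · exact e.ge
  · exact (eq_of_cs h2 (e.trans xc.symm)).ge

theorem mem_core {x t : G} (hx : PE 2 x) (x1 : x ≠ 1) (xc : cs(x) = c) (ht : orderOf t = 2)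
    (hle : 𝒞[x] ≤ 𝒞[t]) (y : (𝒞[t] : Subgroup G)) (hy : (orderOf y).Coprime 2)
    (hc : Commute x y) : y ∈ pPrimeCore 2 (𝒞[t] : Subgroup G) := by
  haveI := H.solv ht
  refine mem_core_of_pq Nat.prime_two (R := zpowers ⟨x, hle (self_mem_cent x)⟩)
    (PE.coe.1 hx).isPGroup_zpowers hy ?_ fun v hv _ => ?_
  · rintro _ ⟨k, rfl⟩
    exact Commute.zpow_left (a := (⟨x, hle (self_mem_cent x)⟩ : (𝒞[t] : Subgroup G)))
      (Subtype.ext hc.eq) k
  · exact Subtype.ext (mem_cent.1 (H.cent_le hx x1 xc hc (by rwa [orderOf_coe])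
      (mem_cent.2 (congrArg Subtype.val (hv _ (mem_zpowers _))).symm)))

theorem nil {x t : G} (hx : PE 2 x) (x1 : x ≠ 1) (xc : cs(x) = c) (ht : orderOf t = 2)
    (hle : 𝒞[x] ≤ 𝒞[t]) : HasNormalPComplement 2 (𝒞[t] : Subgroup G) := by
  haveI : Fact (Nat.Prime 2) := ⟨Nat.prime_two⟩
  haveI := H.solv ht
  have t1 := ne_one_of_orderOf_two ht
  refine H3.hasNormalPComplement_of_normal (pPrimeCore 2 _) H22.coprime_card_pPrimeCore
    (isPGroup_quotient_of_forall (fun r hr r2 y hy => ?_) Nat.prime_two)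
  have hr2 : r.Coprime 2 := (Nat.coprime_primes hr Nat.prime_two).2 r2
  have he : (𝒞[x] : Subgroup G).relIndex 𝒞[t] = c / cs(t) := by
    rw [← xc, ← relIndex_mul_index hle, Nat.mul_div_cancel _ (cs_pos t)]
  by_cases hre : r ∣ c / cs(t)
  swap
  · obtain ⟨n, hn, h⟩ := exists_conj_mem_of_not_dvd hle hr (he ▸ hre) y.2 (PE.coe.2 hy)
    obtain ⟨m, rfl⟩ : ∃ m : (𝒞[t] : Subgroup G), (m : G) = n := ⟨⟨n, hn⟩, rfl⟩
    have := H.mem_core hx x1 xc ht hle (m * y * m⁻¹) ((hy.conj m).coprime hr2)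
      (mem_cent.1 h).symm
    have h2 := Normal.conj_mem inferInstance _ this m⁻¹
    rwa [show m⁻¹ * (m * y * m⁻¹) * m⁻¹⁻¹ = y by group] at h2
  obtain ⟨u, uo, hu⟩ := exists_central (G := (𝒞[t] : Subgroup G)) hr
    (hre.trans (he ▸ relIndex_dvd_card _ _))
  have uo' : orderOf (u : G) = r := (orderOf_coe u).trans uo
  have u1 := ne_one_of_prime hr uo'
  have hz : u ∈ center (𝒞[t] : Subgroup G) := cs_eq_one_iff.1
    ((H.two (pe_of_prime ht) t1 u (uo ▸ hr2)).resolve_right fun e => hu (e ▸ hre))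
  have htu : 𝒞[t] ≤ 𝒞[(u : G)] := fun g hg =>
    mem_cent.2 (congrArg Subtype.val (mem_center_iff.1 hz ⟨g, hg⟩))
  have hc : Commute t u := (mem_cent.1 u.2).symm
  have e1 : (𝒞[t * u] : Subgroup G) = 𝒞[t] :=
    (cent_mul_of_coprime hc (by rw [ht, uo']; exact hr2.symm)).trans (inf_eq_left.2 htu)
  have e2 : (𝒞[t] : Subgroup G) = 𝒞[(u : G)] := by
    rcases H u (t * u) u1 (dvd_card_cent ht ((Commute.refl t).mul_right hc)) (e1.le.trans htu)
      with e | e
    · exact e1.symm.trans e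
    · rw [e1] at e
      rw [← e, Nat.div_self (cs_pos t)] at hre
      exact absurd hre hr.not_dvd_one
  obtain ⟨P⟩ : Nonempty (Sylow 2 (𝒞[y] : Subgroup (𝒞[t] : Subgroup G))) := inferInstance
  refine mem_core_of_pq Nat.prime_two (P.isPGroup'.map (Subgroup.subtype _)) (hy.coprime hr2)
    ?_ fun v hv hv2 => ?_
  · rintro _ ⟨r, -, rfl⟩
    exact mem_cent.1 r.2
  by_contra hvy
  refine hvy (commute_of_cent_sylow P hv hv2 (card_cent_eq ?_).dvd)
  have ey := (H.two (pe_of_prime ht) t1 y (hy.coprime hr2)).resolve_left fun e =>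
    hvy (mem_center_iff.1 (cs_eq_one_iff.1 e) v)
  have hc' : Commute (u : G) v := (mem_cent.1 (htu v.2)).symm
  have ho : (orderOf (u : G)).Coprime (orderOf (v : G)) :=
    ((PE.coe.2 hv2).coprime (uo' ▸ hr2.symm)).symm
  have h1 := cent_mul_of_coprime hc' ho
  have h2 := cs_mul_of_coprime hc' ho
  rw [← e2, ← cs_subgroup] at h2
  rcases H u (u * v) u1 (two_dvd_cent (PE.coe.2 hv2) (fun e => hvy (by
      rw [show v = 1 from Subtype.ext e]; exact Commute.one_left y))
      (hc'.symm.mul_right (Commute.refl _))) (h1.le.trans inf_le_left) with e | e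
  · exact absurd (Subtype.ext (mem_cent.1 ((e.ge.trans (h1.le.trans inf_le_right))
      (htu y.2))).symm) hvy
  · rw [ey, ← e, h2, Nat.mul_div_cancel _ (cs_pos t)]

end PC

end Cfsg.Agent.H13
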