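import Cfsg.Agent.H13.CC3a
import Cfsg.Agent.H72.Fixed

set_option autoImplicit false
set_option linter.style.haveILetI false

/-! Solvable groups whose non-central elements of prime power order have a single class size. -/

namespace Cfsg.Agent.H13

open Subgroup H83 H8 S3192

variable {G : Type*} [Group G]

local notation "𝒞[" x "]" => Subgroup.centralizer {x}

theorem norm_fix {E Q : Type*} [Group E] [Finite E] [CommGroup Q] (ρ : E →* MulAut Q)
    (T : Subgroup E) [T.Normal] (F : ∀ q : Q, (∀ τ ∈ T, ρ τ q = q) → ∀ g, ρ g q = q) {d : E}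
    {v δ : Q} (hδ : ∀ g, ρ g δ = δ) (hv : ρ d v = δ * v) : δ ^ Nat.card T = 1 := by
  classical
  haveI := Fintype.ofFinite T
  have h1 := F (∏ τ : T, ρ τ v) (fun σ hσ => by
    rw [map_prod]
    exact Fintype.prod_equiv (Equiv.mulLeft ⟨σ, hσ⟩) _ _ fun τ => by simp) d
  rw [map_prod, Fintype.prod_equiv (MulAut.conjNormal d).toEquiv _ (fun τ : T => δ * ρ τ v)
    (fun τ => by
      rw [← hδ (d * τ * d⁻¹), MulEquiv.toEquiv_eq_coe, EquivLike.coe_coe, MulAut.conjNormal_apply,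
        ← map_mul, ← hv]
      simp), Finset.prod_mul_distrib, Finset.prod_const, Finset.card_univ] at h1
  rw [Nat.card_eq_fintype_card]
  exact mul_eq_right.1 h1

/-- Commutation with an element that is central modulo the centre. -/
def cmap (D : Subgroup G) (v : G) (h : ∀ d ∈ D, d * v * d⁻¹ * v⁻¹ ∈ center G) : D →* G :=
  MonoidHom.mk' (fun d => d * v * (d : G)⁻¹ * v⁻¹) fun c d => by
    have := mem_center_iff.1 (h d d.2)
    calc (c : G) * d * v * ((c : G) * d)⁻¹ * v⁻¹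
        = c * (d * v * (d : G)⁻¹ * v⁻¹) * (v * (c : G)⁻¹ * v⁻¹) := by group
      _ = _ := by rw [mul_assoc (c : G), ← this]; group

theorem card_range_cmap (D : Subgroup G) (v : G) (h : ∀ d ∈ D, d * v * d⁻¹ * v⁻¹ ∈ center G) :
    Nat.card (cmap D v h).range = (𝒞[v] : Subgroup G).relIndex D := by
  rw [← index_ker, relIndex]
  congr 1
  ext d
  exact mul_inv_eq_one.trans mem_cent'.symm

theorem normal_of_le_center {Y : Subgroup G} (h : Y ≤ center G) : Y.Normal :=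
  ⟨fun y hy g => by rwa [mem_center_iff.1 (h hy) g, mul_inv_cancel_right]⟩

/-- The elements centralized by `X` modulo `Y`. -/
def cmod (X Y : Subgroup G) [Y.Normal] : Subgroup G :=
  (centralizer (X.map (QuotientGroup.mk' Y) : Set (G ⧸ Y))).comap (QuotientGroup.mk' Y)

theorem mem_cmod {X Y : Subgroup G} [Y.Normal] {u : G} :
    u ∈ cmod X Y ↔ ∀ c ∈ X, c * u * c⁻¹ * u⁻¹ ∈ Y := by
  have key : ∀ c : G, QuotientGroup.mk' Y c * QuotientGroup.mk' Y u =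
      QuotientGroup.mk' Y u * QuotientGroup.mk' Y c ↔ c * u * c⁻¹ * u⁻¹ ∈ Y := fun c => by
    rw [← QuotientGroup.eq_one_iff, ← QuotientGroup.mk'_apply, map_mul, map_mul, map_mul, map_inv,
      map_inv, mul_inv_eq_one, mul_inv_eq_iff_eq_mul]
  exact ⟨fun h c hc => (key c).1 (h _ ⟨c, hc, rfl⟩), by
    rintro h _ ⟨c, hc, rfl⟩
    exact (key c).2 (h c hc)⟩

instance cmod_normal (X Y : Subgroup G) [X.Normal] [Y.Normal] : (cmod X Y).Normal :=
  haveI := Normal.map ‹X.Normal› _ (QuotientGroup.mk'_surjective Y)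
  Normal.comap inferInstance _

theorem center_le_cmod (X Y : Subgroup G) [Y.Normal] : center G ≤ cmod X Y := fun z hz =>
  mem_cmod.2 fun c _ => by simp [mem_center_iff.1 hz c]

theorem pow_eq_one_of_comm {x u : G} (h : Commute x (x * u * x⁻¹ * u⁻¹)) :
    (x * u * x⁻¹ * u⁻¹) ^ orderOf x = 1 := by
  have : ∀ k : ℕ, x ^ k * u * (x ^ k)⁻¹ = (x * u * x⁻¹ * u⁻¹) ^ k * u := fun k => by
    induction k with
    | zero => simp
    | succ k ih =>
      calc x ^ (k + 1) * u * (x ^ (k + 1))⁻¹ = x * (x ^ k * u * (x ^ k)⁻¹) * x⁻¹ := by group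
        _ = _ := by rw [ih, ← mul_assoc, (h.pow_right k).eq, pow_succ]; group
  simpa using (this (orderOf x)).symm

variable [Finite G]

theorem prime_pow_of_primary [Group.IsSolvable G] {e : ℕ}
    (h : ∀ t : ℕ, t.Prime → ∀ x : G, PE t x → x ∉ center G → cs(x) = e) (hZ : center G ≠ ⊤) :
    ∃ p : ℕ, p.Prime ∧ ∃ k, e = p ^ k := by
  obtain ⟨π, hπ, π1⟩ : ∃ f : G →* G ⧸ center G, Function.Surjective f ∧
      ∀ x, f x = 1 ↔ x ∈ center G :=
    ⟨_, QuotientGroup.mk'_surjective _, fun x => QuotientGroup.eq_one_iff x⟩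
  haveI : Nontrivial (G ⧸ center G) := QuotientGroup.nontrivial_iff.2 hZ
  obtain ⟨W, p, hp, hWn, W1, hWc, hWp, hWe, hWm⟩ :=
    H2.exists_minimal_normal_of_solvable (G := G ⧸ center G)
  haveI := Fact.mk hp
  obtain ⟨P⟩ : Nonempty (Sylow p G) := inferInstance
  obtain ⟨V, hV⟩ : ∃ V, V = W.comap π := ⟨_, rfl⟩
  haveI hVn : V.Normal := hV ▸ hWn.comap π
  have mV : ∀ {u}, u ∈ V ↔ π u ∈ W := by simp [hV]
  have πc : ∀ c u : G, c * u * c⁻¹ * u⁻¹ ∈ center G ↔ π c * π u = π u * π c := fun c u => by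
    rw [← π1, map_mul, map_mul, map_mul, map_inv, map_inv, mul_inv_eq_one, mul_inv_eq_iff_eq_mul]
  have Vp : ∀ u ∈ V, u ^ p ∈ center G := fun u hu => (π1 _).1 (by
    rw [map_pow]; exact hWe _ (mV.1 hu))
  have mini : ∀ L : Subgroup G, L.Normal → center G ≤ L → ∀ w ∈ V, w ∉ center G → w ∈ L →
      V ≤ L := fun L hL hZL w wV wZ wL u hu => by
    rcases hWm (W ⊓ L.map π) (by haveI := hL.map π hπ; infer_instance) inf_le_left with c | c
    · exact absurd ((π1 w).1 (mem_bot.1 (c ▸ mem_inf.2 ⟨mV.1 wV, w, wL, rfl⟩))) wZ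
    · obtain ⟨-, l, hl, e⟩ := c.ge (mV.1 hu)
      have := mul_mem hl (hZL ((π1 (l⁻¹ * u)).1 (by rw [map_mul, map_inv, e, inv_mul_cancel])))
      rwa [mul_inv_cancel_left] at this
  have prim : ∀ w ∈ V, ∀ K : Subgroup G, center G ≤ K → w ∉ K →
      ∃ y ∈ zpowers w, PE p y ∧ y ∉ K := fun w hw K hK wK => by
    obtain ⟨q, hq, y, hy, pe, yK⟩ := exists_PE_of_not_mem wK
    refine ⟨y, hy, ?_, yK⟩
    by_contra c
    exact yK (pe.mem_of_pow_mem ((Nat.coprime_primes hq hp).2 fun e => c (e ▸ pe))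
      (hK (Vp y (zpowers_le.2 hw hy))))
  obtain ⟨v, vV, pv, vZ, hv⟩ : ∃ v ∈ V, PE p v ∧ v ∉ center G ∧
      ∀ g ∈ (P : Subgroup G), g * v * g⁻¹ * v⁻¹ ∈ center G := by
    obtain ⟨⟨w, hw⟩, w1⟩ := ne_bot_iff_exists_ne_one.1 (H72.inf_centralizer_ne_bot
      (P.isPGroup'.map π) hWp W1 le_normalizer_of_normal)
    obtain ⟨w, rfl⟩ := hπ w
    obtain ⟨_, ⟨k, rfl⟩, h1, h2⟩ := prim w (mV.2 hw.1) _ le_rfl
      fun c => w1 (Subtype.ext ((π1 w).2 c))
    refine ⟨_, zpow_mem (mV.2 hw.1) k, h1, h2, fun g hg => (πc _ _).2 ?_⟩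
    rw [map_zpow]
    exact Commute.zpow_right (hw.2 _ ⟨g, hg, rfl⟩) k
  have ev := h p hp v pv vZ
  obtain ⟨C, hC⟩ : ∃ C, C = cmod V (center G) := ⟨_, rfl⟩
  haveI hCn : C.Normal := hC ▸ inferInstance
  have mC : ∀ {c}, c ∈ C ↔ ∀ u ∈ V, c * u * c⁻¹ * u⁻¹ ∈ center G := fun {c} => by
    rw [hC, mem_cmod]
    exact forall₂_congr fun u _ => by rw [πc, πc, eq_comm]
  have VC : V ≤ C := fun a ha => mC.2 fun b hb => (πc _ _).2
    (H2.mul_comm_of_mem hWc (mV.1 ha) (mV.1 hb))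
  have hφ : ∀ w ∈ V, ∀ c ∈ C, c * w * c⁻¹ * w⁻¹ ∈ center G := fun w hw c hc => mC.1 hc w hw
  have hφZ : ∀ w hw, (cmap C w (hφ w hw)).range ≤ center G := by
    rintro w hw _ ⟨c, rfl⟩
    exact hφ w hw c c.2
  have A : ∀ w hw, w ∉ center G → ∀ u ∈ V, ∀ c ∈ C,
      c * u * c⁻¹ * u⁻¹ ∈ (cmap C w (hφ w hw)).range := fun w hw wZ u hu => by
    haveI := normal_of_le_center (hφZ w hw)
    exact mem_cmod.1 (mini _ inferInstance (center_le_cmod C _) w hw wZ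
      (mem_cmod.2 fun c hc => MonoidHom.mem_range.2 ⟨⟨c, hc⟩, rfl⟩) hu)
  refine ⟨p, hp, _, Nat.eq_prime_pow_of_unique_prime_dvd (ev ▸ cs_ne_zero v) fun {q} hq hqe => ?_⟩
  by_contra hqp
  obtain ⟨Y, hY⟩ : ∃ Y, Y = (cmap C v (hφ v vV)).range := ⟨_, rfl⟩
  have YZ : Y ≤ center G := hY ▸ hφZ v vV
  haveI := normal_of_le_center YZ
  obtain ⟨f, hf, f1⟩ : ∃ f : G →* G ⧸ Y, Function.Surjective f ∧ ∀ x, f x = 1 ↔ x ∈ Y :=
    ⟨_, QuotientGroup.mk'_surjective _, fun x => QuotientGroup.eq_one_iff x⟩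
  have fc : ∀ c u : G, f c * f u * (f c)⁻¹ = f u ↔ c * u * c⁻¹ * u⁻¹ ∈ Y := fun c u => by
    rw [← f1, map_mul, map_mul, map_mul, map_inv, map_inv, mul_inv_eq_one]
  haveI := hVn.map f hf
  let _ : CommGroup (V.map f) := { (inferInstance : Group (V.map f)) with
    mul_comm := by
      rintro ⟨_, a, ha, rfl⟩ ⟨_, b, hb, rfl⟩
      exact Subtype.ext (mul_inv_eq_iff_eq_mul.1 ((fc a b).2 (hY ▸ A v vV vZ b hb a (VC ha)))) }
  obtain ⟨ρ, hρ⟩ : ∃ ρ : G →* MulAut (V.map f), ∀ g u, ((ρ g u : V.map f) : G ⧸ Y) =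
      f g * u * (f g)⁻¹ := ⟨MulAut.conjNormal.comp f, fun _ _ => rfl⟩
  have ρ1 : ∀ g, ρ.rangeRestrict g = 1 ↔ g ∈ C := fun g => by
    rw [← MonoidHom.mem_ker, MonoidHom.ker_rangeRestrict, MonoidHom.mem_ker]
    refine ⟨fun e => mC.2 fun u hu => YZ ((fc g u).1 ?_), fun hg => MulEquiv.ext ?_⟩
    · rw [← hρ g ⟨f u, u, hu, rfl⟩, e]; rfl
    · rintro ⟨_, u, hu, rfl⟩
      exact Subtype.ext ((hρ _ _).trans ((fc g u).2 (hY ▸ A v vV vZ u hu g hg)))
  have hs := ρ.rangeRestrict_surjective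
  haveI : Group.IsSolvable ρ.range := Group.isSolvable_of_surjective hs
  haveI : Nontrivial ρ.range := by
    obtain ⟨y, -, h1, h2⟩ := exists_PE_of_dvd_relIndex (X := ⊤) (Y := 𝒞[v]) hq
      (by rwa [relIndex_top_right, ev])
    exact ⟨_, 1, fun c => h2 (mem_cent.2 (commute_of_comm_central (hφ v vV y ((ρ1 y).1 c))
      (PE.coprime_orderOf hq hp hqp h1 pv)))⟩
  obtain ⟨T, t, ht, hTn, T1, -, hTt, hTe, -⟩ := H2.exists_minimal_normal_of_solvable (G := ρ.range)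
  haveI := hTn.comap ρ.rangeRestrict
  have nT : ∀ w ∈ V, (∀ g, ρ.rangeRestrict g ∈ T → g * w * g⁻¹ * w⁻¹ ∈ center G) →
      w ∈ center G := fun w hw hT => by
    by_contra c
    refine T1 (eq_bot_iff.2 fun τ hτ => ?_)
    obtain ⟨g, rfl⟩ := hs τ
    exact mem_bot.2 ((ρ1 g).2 (mC.2 fun u hu => mem_cmod.1 (mini (cmod (T.comap ρ.rangeRestrict)
      (center G)) inferInstance (center_le_cmod _ _) w hw c (mem_cmod.2 hT) hu) g hτ))
  obtain ⟨D, mD⟩ : ∃ D : Subgroup G, ∀ {d}, d ∈ D ↔ d * v * d⁻¹ * v⁻¹ ∈ center G :=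
    ⟨(𝒞[π v] : Subgroup _).comap π, fun {d} => mem_cent.trans (πc d v).symm⟩
  have tp : t ≠ p := by
    rintro rfl
    refine vZ (nT v vV fun g hg => ?_)
    obtain ⟨g', h1, h2⟩ := hTt.le_sylow_of_normal (P.mapSurjective hs) hg
    have := mul_mem (mD.2 (hv g' h1)) (mD.2 (hφ v vV _ ((ρ1 (g'⁻¹ * g)).1
      (by rw [map_mul, map_inv, h2, inv_mul_cancel]))))
    rw [mul_inv_cancel_left] at this
    exact mD.1 this
  have fZ : ∀ z ∈ center G, ∀ g, f g * f z * (f g)⁻¹ = f z := fun z hz g =>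
    (fc g z).2 (by simp [mem_center_iff.1 hz g])
  have B : (cmap D v fun d hd => mD.1 hd).range = Y := by
    refine le_antisymm ?_ (by
      rw [hY]
      rintro _ ⟨c, rfl⟩
      exact ⟨⟨c, mD.2 (hφ v vV c c.2)⟩, rfl⟩)
    rintro _ ⟨⟨d, hd⟩, rfl⟩
    have hz := mD.1 hd
    have zV : d * v * d⁻¹ * v⁻¹ ∈ V := mul_mem (hVn.conj_mem v vV d) (inv_mem vV)
    have h1 := norm_fix ρ.range.subtype T (d := ρ.rangeRestrict d) (v := ⟨f v, v, vV, rfl⟩)
      (δ := ⟨f _, _, zV, rfl⟩) (by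
        rintro ⟨_, u, hu, rfl⟩ h1 ⟨_, g, rfl⟩
        exact Subtype.ext ((hρ _ _).trans (fZ u (nT u hu fun g hg => YZ ((fc g u).1
          ((hρ g ⟨f u, u, hu, rfl⟩).symm.trans (congrArg Subtype.val (h1 _ hg))))) g)))
      (by
        rintro ⟨_, g, rfl⟩
        exact Subtype.ext ((hρ _ _).trans (fZ _ hz g)))
      (Subtype.ext ((hρ _ _).trans (by simp)))
    haveI := Fact.mk ht
    obtain ⟨k, hk⟩ := hTt.exists_card_eq
    have h2 : (d * v * d⁻¹ * v⁻¹) ^ p = 1 := by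
      have e1 : (d * v * d⁻¹ * v⁻¹ * v) ^ p = (d * v * d⁻¹ * v⁻¹) ^ p * v ^ p :=
        (show Commute _ v from (mem_center_iff.1 hz v).symm).mul_pow p
      rw [inv_mul_cancel_right, conj_pow, mem_center_iff.1 (Vp v vV) d, mul_inv_cancel_right] at e1
      exact mul_eq_right.1 e1.symm
    exact H82.pow_mem_of_coprime (cop_pow hp ht tp.symm k) (h2 ▸ one_mem _)
      ((f1 _).1 (by rw [map_pow, ← hk]; exact congrArg Subtype.val h1))
  obtain ⟨x, tx, xT, xC⟩ : ∃ x, PE t x ∧ ρ.rangeRestrict x ∈ T ∧ x ∉ C := by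
    obtain ⟨⟨τ, hτ⟩, τ1⟩ := ne_bot_iff_exists_ne_one.1 T1
    obtain ⟨g, rfl⟩ := hs τ
    obtain ⟨s, hs, y, hy, pe, yC⟩ := exists_PE_of_not_mem (H := C) (x := g)
      fun c => τ1 (Subtype.ext ((ρ1 g).2 c))
    have yT : ρ.rangeRestrict y ∈ T := zpowers_le.2 (show g ∈ T.comap _ from hτ) hy
    refine ⟨y, ?_, yT, yC⟩
    by_contra c
    exact yC (pe.mem_of_pow_mem ((Nat.coprime_primes hs ht).2 fun e => c (e ▸ pe))
      ((ρ1 _).1 (by rw [map_pow]; exact hTe _ yT)))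
  have ZC : center G ≤ C := hC ▸ center_le_cmod _ _
  have ex := h t ht x tx fun c => xC (ZC c)
  obtain ⟨u, uV, wZ⟩ : ∃ u ∈ V, x * u * x⁻¹ * u⁻¹ ∉ center G := by
    by_contra c
    push Not at c
    exact xC (mC.2 c)
  obtain ⟨w, hw⟩ : ∃ w, w = x * u * x⁻¹ * u⁻¹ := ⟨_, rfl⟩
  rw [← hw] at wZ
  have wV : w ∈ V := hw ▸ mul_mem (hVn.conj_mem u uV x) (inv_mem uV)
  have h1 : C ⊓ 𝒞[x] ≤ C ⊓ 𝒞[w] := fun c hc => ⟨hc.1, mem_cent'.2 (by
    have e1 := mem_center_iff.1 (hφ u uV c hc.1)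
    have e2 : c * x * c⁻¹ = x := mem_cent'.1 hc.2
    calc c * w * c⁻¹ = (c * x * c⁻¹) * (c * u * c⁻¹ * u⁻¹) * (u * (c * x * c⁻¹)⁻¹ * u⁻¹) *
          (c * u * c⁻¹ * u⁻¹)⁻¹ := by rw [hw]; group
      _ = w := by rw [e2, mul_assoc x, ← e1, hw]; group)⟩
  obtain ⟨y, hy, py, yx⟩ := prim w wV 𝒞[x] (center_le_centralizer _) fun c =>
    wZ (H82.pow_mem_of_coprime (tx.coprime ((Nat.coprime_primes ht hp).2 tp))
      (by rw [hw, pow_eq_one_of_comm (hw ▸ (mem_cent.1 c).symm)]; exact one_mem _) (Vp w wV))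
  have yV := zpowers_le.2 wV hy
  have h2 : p ∣ (C ⊓ 𝒞[x]).relIndex (C ⊓ 𝒞[w] ⊓ normalizer ((C ⊓ 𝒞[x] : Subgroup G) : Set G)) :=
    dvd_relIndex_of_PE inf_le_right hp (mem_inf.2 ⟨mem_inf.2 ⟨VC yV, zpowers_le_cent w hy⟩,
      H23.mem_normalizer_of_conj' fun c hc => by
        have e1 := hφ y⁻¹ (inv_mem yV) c⁻¹ (inv_mem hc.1)
        have e2 := mul_mem hc (mem_inf.2 ⟨ZC e1, center_le_centralizer _ e1⟩)
        convert e2 using 1
        group⟩) py fun c => yx c.2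
  have h3 := h2.trans (Dvd.intro _ (relIndex_mul_relIndex _ _ _ (le_inf h1 le_normalizer)
    inf_le_left))
  have h4 : Nat.card Y = (C ⊓ 𝒞[w]).relIndex C := by
    rw [inf_comm, inf_relIndex_right, ← card_range_cmap C w (hφ w wV), hY]
    congr 2
    refine le_antisymm ?_ ?_ <;> rintro _ ⟨c, rfl⟩
    · exact A w wV wZ v vV c c.2
    · exact A v vV vZ w wV c c.2
  have h5 := (Nat.mul_dvd_mul h3 h4.dvd).trans (relIndex_mul_relIndex _ _ _ h1 inf_le_left).dvd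
  rw [inf_comm, inf_relIndex_right] at h5
  have h6 := h5.trans (H19.relIndex_dvd_index_of_normal_right _ _)
  rw [ex, ← ev, ← relIndex_mul_index (show 𝒞[v] ≤ D from fun d hd => mD.2 (by
    rw [mem_cent'.1 hd, mul_inv_cancel]; exact one_mem _)), ← card_range_cmap D v
      fun d hd => mD.1 hd, B, mul_comm] at h6
  exact not_dvd_index_iff.2 ⟨P, fun g hg => mD.2 (hv g hg)⟩
    (Nat.dvd_of_mul_dvd_mul_left Nat.card_pos h6)

theorem nil_of_two [Group.IsSolvable G] {p s e : ℕ} (hp : p.Prime) (hs : s.Prime) (hps : p ≠ s)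
    (h1 : ∀ x : G, (orderOf x).Coprime p → cs(x) = 1 ∨ cs(x) = e)
    (h2 : ∀ x : G, (orderOf x).Coprime s → cs(x) = 1 ∨ cs(x) = e) : Group.IsNilpotent G := by
  by_cases hZ : center G = ⊤
  · exact isNilpotent_of_forall_PE hp fun _ _ _ v _ => hZ ▸ mem_top v
  have h3 : ∀ t : ℕ, t.Prime → ∀ x : G, PE t x → cs(x) = 1 ∨ cs(x) = e := fun t ht x hx => by
    by_cases c : t = p
    · exact h2 x (hx.coprime ((Nat.coprime_primes ht hs).2 (c ▸ hps)))
    · exact h1 x (hx.coprime ((Nat.coprime_primes ht hp).2 c))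
  obtain ⟨t, ht, k, rfl⟩ := prime_pow_of_primary (fun t ht x hx hz => (h3 t ht x hx).resolve_left
    fun c => hz (cs_eq_one_iff.1 c)) hZ
  have key : ∀ r : ℕ, r.Prime → r ≠ t → (∀ x : G, (orderOf x).Coprime r → cs(x) = 1 ∨
      cs(x) = t ^ k) → Group.IsNilpotent G := fun r hr hrt h => by
    haveI := Fact.mk hr
    have cen : ∀ x : G, PE r x → x ∈ center G := fun x hx => cs_eq_one_iff.1
      (Nat.eq_one_iff_not_exists_prime_dvd.2 fun q hq hd => by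
        obtain ⟨y, -, hy, yx⟩ := exists_PE_of_dvd_relIndex (X := ⊤) (Y := 𝒞[x]) hq
          (by rwa [relIndex_top_right])
        obtain ⟨j, hj⟩ := hx.orderOf_eq hr
        refine yx (mem_cent.2 (commute_of_cs_not_dvd (fun y hy c => ?_) hj
          (hy.coprime ((Nat.coprime_primes hq hr).2 ?_))).symm)
        · rcases h y hy with e | e
          · exact hr.not_dvd_one (e ▸ c)
          · exact hrt ((Nat.prime_dvd_prime_iff_eq hr ht).1 (hr.dvd_of_dvd_pow (e ▸ c)))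
        · rintro rfl
          rcases h3 q hq x hx with e | e
          · exact hr.not_dvd_one (e ▸ hd)
          · exact hrt ((Nat.prime_dvd_prime_iff_eq hr ht).1 (hr.dvd_of_dvd_pow (e ▸ hd))))
    refine (exists_prime_of_two_sizes (t ^ k) (fun x => ?_) ?_).1
    · obtain ⟨c, d, hc, hd, hi, hdo, rfl⟩ := H3.exists_p_part (p := r) x
      rw [← mem_center_iff.1 (cen c hi) d, cent_mul_center (cen c hi)]
      exact h d hdo
    · by_contra c
      push Not at c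
      exact hZ (eq_top_iff.2 fun x _ => c x)
  by_cases c : p = t
  · exact key s hs (c ▸ hps.symm) h2
  · exact key p hp c h1

end Cfsg.Agent.H13
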