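import Cfsg.Agent.H13.CC3a
import Cfsg.Agent.H50.Bender
import Cfsg.Agent.H72.Isolated
import Cfsg.Agent.H81.Misc
import Cfsg.Agent.H89.Real2
import Cfsg.Agent.H8.StrongEmb

set_option autoImplicit false
set_option linter.style.haveILetI false

/-! Isolated elements of odd order centralizing a Sylow `2`-subgroup. -/

namespace Cfsg.Agent.H13

open Subgroup H83 H8 S3192

universe u

variable {G : Type*} [Group G] [Finite G]

local notation "𝒞[" x "]" => Subgroup.centralizer {x}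

omit [Finite G] in
theorem eq_one_of_PE_of_odd {q : G} (h : PE 2 q) (ho : Odd (orderOf q)) : q = 1 := by
  obtain ⟨k, hk⟩ := h.orderOf_dvd
  exact orderOf_eq_one_iff.1 (((Nat.coprime_two_right.2 ho).pow_right k).eq_one_of_dvd hk)

omit [Finite G] in
theorem dvd_orderOf_of_PE {p : ℕ} (hp : p.Prime) {t : G} (ht : PE p t) (t1 : t ≠ 1) :
    p ∣ orderOf t := by
  obtain ⟨k, hk⟩ := ht.orderOf_eq hp
  rw [hk]
  exact dvd_pow_self p fun c => t1 (orderOf_eq_one_iff.1 (by rw [hk, c, pow_zero]))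

/-- With a strongly embedded subgroup, a Sylow `2`-subgroup has no odd centralizer. -/
theorem bender_cent {M : Subgroup G} (hM : IsStronglyEmbedded M) (hO : pPrimeCore 2 G = ⊥)
    (hZ : ∀ t : G, orderOf t = 2 → t ∉ center G) {x : G} (xo : Odd (orderOf x))
    (hx : ¬ 2 ∣ cs(x)) : x = 1 := by
  haveI : Fact (Nat.Prime 2) := ⟨Nat.prime_two⟩
  by_cases r2 : SUZ.Rank2 (⊤ : Subgroup G)
  swap
  · obtain ⟨t, -, ht⟩ := H43.exists_inv_of_even hM.2.1
    have h := H50.rank1_sup_cent r2 (H43.mul_self_of_orderOf ht)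
    rw [hO, bot_sup_eq] at h
    exact absurd (mem_center_iff.2 fun g => mem_cent.1 (h.ge trivial)) (hZ t ht)
  obtain ⟨Q, t, -, -, h, hc⟩ := H50.bender_of_se (H50.se_of_se hM r2 hO)
  have hS := h.setup
  obtain ⟨S, rfl⟩ := H50.setup_sylow hS hc.pgroup
  obtain ⟨g, hg⟩ := exists_conj_mem_cent_sylow S hx
  have ho : Odd (orderOf (g * x * g⁻¹)) := by rwa [H43.orderOf_conj]
  have h1 := h.faithful (g * x * g⁻¹) fun b => by
    have ha := (H50.setup_normalizer hS).le (centralizer_le_normalizer _ hg)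
    by_cases hb : b = ((1 : G) : G ⧸ M)
    · rw [hb]; exact ha
    obtain ⟨q, hq, e⟩ := H41.R1.exists_Q_smul' hS hb (H41.R1.smul_ne_a ha hb)
    have h4 : Odd (orderOf ((g * x * g⁻¹)⁻¹ * q)) := H41.R1.odd_of_fix_two hS hb
      (by rw [mul_smul, e, inv_smul_smul])
      (by rw [mul_smul, H41.R1.Q_fix hS hq]; exact H41.R1.inv_fix ha)
    have hcm : Commute (g * x * g⁻¹) q := (hg q hq).symm
    have h5 := ((Commute.refl _).inv_right.mul_right hcm).orderOf_mul_dvd_mul_orderOf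
    rw [mul_inv_cancel_left] at h5
    rw [← e, eq_one_of_PE_of_odd (PE.of_mem S.isPGroup' hq) ((ho.mul h4).of_dvd_nat h5), one_smul]
  simpa using h1

/-- Real elements of odd prime power order lift. -/
theorem real_lift {H : Type*} [Group H] (f : G →* H) (hf : Function.Surjective f) {s : ℕ}
    (hs : s.Prime) (s2 : s ≠ 2) {y : H} (hy : PE s y) (hr : IsConj y y⁻¹) :
    ∃ g : G, f g = y ∧ PE s g ∧ IsConj g g⁻¹ := by
  classical
  haveI := Fact.mk hs
  haveI : Fact (Nat.Prime 2) := ⟨Nat.prime_two⟩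
  obtain ⟨t', ht⟩ := isConj_iff.1 hr
  obtain ⟨t, rfl⟩ := hf t'
  obtain ⟨g₀, rfl, k, hk⟩ := H81.exists_pElt_lift f hf hs (hy.orderOf_eq hs)
  obtain ⟨R, hR, h0⟩ := H72.exists_isSylowIn_ge (PE.of_orderOf hk).isPGroup_zpowers
    (H := (zpowers (f g₀)).comap f) (zpowers_le.2 (mem_zpowers _))
  obtain ⟨l, ⟨i, hl⟩, n, hn, rfl⟩ := hR.frattini (H := zpowers t) (zpowers_le.2
    (H72.mem_normalizer_of_conj_mem fun x ⟨j, hj⟩ => ⟨-j, by
      simp only [map_mul, map_inv, ← hj]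
      rw [← conj_zpow, ht, inv_zpow']⟩)) (mem_zpowers t)
  have h1 : f n * f g₀ * (f n)⁻¹ = (f g₀)⁻¹ := by
    have : Commute (f l) (f g₀) := by rw [← hl]; exact (Commute.refl _).zpow_left i
    refine (MulAut.conj (f l)).injective ?_
    simp only [MulAut.conj_apply]
    rw [this.inv_right.eq, mul_inv_cancel_right, ← ht, map_mul]
    group
  obtain ⟨j, m, hm, e⟩ := Nat.exists_eq_two_pow_mul_odd (orderOf_pos n).ne'
  have h2 := H89.conj_pow_of_odd h1 hm
  rw [← map_pow] at h2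
  have h3 := pow_mem hn m
  have h4 : (n ^ m) ^ 2 ^ j = 1 := by rw [← pow_mul, mul_comm, ← e, pow_orderOf_eq_one]
  generalize n ^ m = c at h2 h3 h4
  let σ : {u : G // u ∈ R ∧ f u = f g₀} → {u : G // u ∈ R ∧ f u = f g₀} := fun u =>
    ⟨c * u.1⁻¹ * c⁻¹, H72.conj_mem_of_mem_normalizer h3 (inv_mem u.2.1), by
      rw [map_mul, map_mul, map_inv, u.2.2, map_inv, ← conj_inv, h2, inv_inv]⟩
  have hσ : Function.Injective σ := fun a b h => Subtype.ext (by
    simpa [σ] using congrArg Subtype.val h)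
  let τ := Equiv.ofBijective σ (Finite.injective_iff_bijective.1 hσ)
  have h5 : ∀ (i : ℕ) u, (((τ ^ 2) ^ i) u).1 = (c ^ 2) ^ i * u * ((c ^ 2) ^ i)⁻¹ := by
    intro i u
    induction i with
    | zero => simp
    | succ i ih =>
      rw [pow_succ', Equiv.Perm.mul_apply, sq τ, Equiv.Perm.mul_apply]
      change c * (c * _⁻¹ * c⁻¹)⁻¹ * c⁻¹ = _
      rw [← sq, ih]
      group
  haveI := Fintype.ofFinite {u : G // u ∈ R ∧ f u = f g₀}
  obtain ⟨u, hu⟩ := Equiv.Perm.exists_fixed_point_of_prime (p := 2) (n := j + 1) (σ := τ) (by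
    have e : {u : G // u ∈ R ∧ f u = f g₀} ≃ (R ⊓ f.ker : Subgroup G) :=
      ⟨fun u => ⟨g₀⁻¹ * u, R.mul_mem (R.inv_mem (h0 (mem_zpowers _))) u.2.1, by simp [u.2.2]⟩,
        fun v => ⟨g₀ * v, R.mul_mem (h0 (mem_zpowers _)) v.2.1, by
          rw [map_mul, MonoidHom.mem_ker.1 v.2.2, mul_one]⟩, fun u => by simp, fun v => by simp⟩
    obtain ⟨k, hk⟩ := (hR.isPGroup.to_inf_left (K := f.ker)).exists_card_eq
    rw [← Nat.card_eq_fintype_card, Nat.card_congr e, hk]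
    exact fun c => s2 ((Nat.prime_dvd_prime_iff_eq Nat.prime_two hs).1
      (Nat.prime_two.dvd_of_dvd_pow c)).symm) (Equiv.ext fun u => Subtype.ext (by
    rw [pow_succ', pow_mul, h5, ← pow_mul, mul_comm 2, pow_mul, h4]; simp))
  refine ⟨u, u.2.2, PE.of_mem hR.isPGroup u.2.1, isConj_iff.2 ⟨c, ?_⟩⟩
  have := congrArg Subtype.val hu
  change c * u.1⁻¹ * c⁻¹ = u at this
  conv_rhs => rw [← this]
  group

omit [Finite G] in
theorem iso_eq {x a b : G} (h : IsIsolated x) (ha : IsConj x a) (hb : IsConj x b)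
    (hc : Commute a b) : a = b := by
  obtain ⟨g, rfl⟩ := isConj_iff.1 ha
  obtain ⟨k, rfl⟩ := isConj_iff.1 hb
  have h1 := h (g⁻¹ * k) (by
    have := hc.map (MulAut.conj g⁻¹)
    simpa [mul_assoc] using this)
  conv_lhs => rw [← h1]
  group

omit [Finite G] in
theorem iso_conj {x a : G} (h : IsIsolated x) (ha : IsConj x a) : IsIsolated a := fun g hc =>
  (iso_eq h ha (ha.trans (isConj_iff.2 ⟨g, rfl⟩)) hc).symm

omit [Finite G] in
theorem comm_conj {a b : G} (g : G) : Commute (g * a * g⁻¹) b ↔ Commute a (g⁻¹ * b * g) :=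
  ⟨fun h => by simpa [mul_assoc] using h.map (MulAut.conj g⁻¹),
    fun h => by simpa [mul_assoc] using h.map (MulAut.conj g)⟩

theorem false_of_step {x : G} (xo : Odd (orderOf x)) (hx : ¬ 2 ∣ cs(x))
    (hO : pPrimeCore 2 G = ⊥) (hf : ∀ g : G, (∀ w, IsConj x w → Commute g w) → g = 1)
    (he : 2 ∣ Nat.card G)
    (h : ∀ u w t : G, orderOf u = 2 → IsConj x w → Commute u w → orderOf t = 2 → Commute t u →
      Commute t w) : False := by
  haveI : Fact (Nat.Prime 2) := ⟨Nat.prime_two⟩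
  obtain ⟨S, hS⟩ := not_dvd_index_iff.1 hx
  obtain ⟨z, hz, zo, hzc⟩ := H43.exists_central_of_pgroup S.isPGroup' (S.ne_bot_of_dvd_card he)
  have cj : ∀ {w : G} (g : G), IsConj x w → IsConj x (g⁻¹ * w * g) := fun g hw =>
    hw.trans (isConj_iff.2 ⟨g⁻¹, by simp⟩)
  let M : Subgroup G :=
    { carrier := {g | ∀ w, IsConj x w → (Commute z w ↔ Commute (g * z * g⁻¹) w)}
      one_mem' := fun w _ => by simp
      mul_mem' := fun {a b} ha hb w hw => by
        rw [ha w hw, comm_conj, hb _ (cj a hw), ← comm_conj]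
        simp [mul_assoc]
      inv_mem' := fun {a} ha w hw => by
        rw [comm_conj, ha _ (cj a⁻¹ hw), comm_conj]
        simp [mul_assoc] }
  have h1 : 𝒞[z] ≤ M := fun g hg w _ => by rw [mem_cent'.1 hg]
  have h2 : ∀ t ∈ M, orderOf t = 2 → ∀ w, IsConj x w → (Commute z w ↔ Commute t w) := by
    intro t ht to' w hw
    obtain ⟨m, hm, h3⟩ := exists_conj_mem_of_not_dvd h1 Nat.prime_two (fun c =>
      not_dvd_index_iff.2 ⟨S, fun a ha => mem_cent.2 (hzc a ha).symm⟩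
        (c.trans (relIndex_dvd_index_of_le h1))) ht (pe_of_prime to')
    have ho : orderOf (m * t * m⁻¹) = 2 := by rwa [H43.orderOf_conj]
    have h4 : Commute t w ↔ Commute (m * t * m⁻¹) (m⁻¹⁻¹ * w * m⁻¹) := by
      rw [comm_conj]; simp [mul_assoc]
    rw [h4, inv_mem hm w hw, comm_conj]
    exact ⟨fun c => h z _ _ zo (cj _ hw) c ho (mem_cent.1 h3),
      fun c => h _ _ z ho (cj _ hw) c zo (mem_cent.1 h3).symm⟩
  have z1 := ne_one_of_orderOf_two zo
  have h3 : x = 1 := bender_cent (M := M) (isStronglyEmbedded_iff.2 ⟨fun e => z1 (hf z fun w hw => by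
      obtain ⟨g, rfl⟩ := isConj_iff.1 hw
      rw [(e.ge trivial : g ∈ M) _ hw, comm_conj]
      simpa [mul_assoc] using (show Commute z x from mem_cent.1 (hS hz))),
    even_card_of_involution (h1 (self_mem_cent z)) zo, fun t ht to' g hg w hw => by
      rw [h2 _ hg (by rwa [H43.orderOf_conj]) w hw, comm_conj, comm_conj,
        h2 t ht to' _ (cj g hw)]⟩) hO
    (fun t ht c => ne_one_of_orderOf_two ht (hf t fun w _ => (mem_center_iff.1 c w).symm)) xo hx
  exact z1 (hf z fun w hw => by rw [h3, isConj_one_right] at hw; simp [hw])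

/-- The inductive hypothesis on an isolated element. -/
structure Star (q : ℕ) {G : Type*} [Group G] (x : G) : Prop where
  pe : PE q x
  iso : IsIsolated x
  odd : ¬ 2 ∣ cs(x)
  real : ∀ s : ℕ, s.Prime → s ≠ 2 → ∀ g : G, g ≠ 1 → PE s g → IsConj g g⁻¹ →
    ∃! w, IsConj x w ∧ Commute g w

theorem star_cent {q : ℕ} (hq : q.Prime) {x u : G} (pe : PE q x) (iso : IsIsolated x)
    (odd : ¬ 2 ∣ cs(x)) (hu : PE 2 u) (real : ∀ s : ℕ, s.Prime → s ≠ 2 → ∀ g : G, g ≠ 1 →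
      PE s g → IsConj g g⁻¹ → Commute g u → ∃! w, IsConj x w ∧ Commute g w)
    (w : (𝒞[u] : Subgroup G)) (hw : IsConj x w) : Star q w := by
  haveI := Fact.mk hq
  haveI : Fact (Nat.Prime 2) := ⟨Nat.prime_two⟩
  have pw : PE q (w : G) := by
    obtain ⟨g, e⟩ := isConj_iff.1 hw
    exact e ▸ pe.conj g
  have cj : ∀ v : (𝒞[u] : Subgroup G), IsConj x v → IsConj w v := fun v hv => by
    obtain ⟨g, e⟩ := isConj_iff.1 (hw.symm.trans hv)
    obtain ⟨k, hk, e'⟩ := H72.isolated_exists_conj (pw.orderOf_eq hq) (iso_conj iso hw) w.2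
      (e ▸ v.2 : g * w * g⁻¹ ∈ _)
    exact (isConj_iff.2 ⟨⟨k, hk⟩, Subtype.ext (by rw [← e']; simp [e])⟩ : IsConj v w).symm
  refine ⟨PE.coe.1 pw, H72.isolated_subgroup (iso_conj iso hw) w.2, ?_, ?_⟩
  · obtain ⟨T, hT, h1⟩ := H72.exists_isSylowIn_ge hu.isPGroup_zpowers (zpowers_le_cent u)
    obtain ⟨S, hS⟩ := hT.isPGroup.exists_le_sylow
    obtain ⟨g, hg⟩ := exists_conj_mem_cent_sylow S odd
    have h2 : g * x * g⁻¹ ∈ (𝒞[u] : Subgroup G) :=
      mem_cent.2 (hg u (hS (h1 (mem_zpowers u)))).symm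
    rw [cs_of_isConj (cj ⟨_, h2⟩ (isConj_iff.2 ⟨g, rfl⟩)), cs_subgroup]
    exact fun c => hT.not_dvd_relIndex (c.trans (relIndex_dvd_of_le_left _
      fun a ha => mem_cent.2 (hg a (hS ha))))
  · intro s hs s2 g g1 hg hr
    obtain ⟨v, ⟨h1, h2⟩, h3⟩ := real s hs s2 g (fun e => g1 (Subtype.ext e)) (PE.coe.2 hg)
      ((𝒞[u] : Subgroup G).subtype.map_isConj hr) (mem_cent.1 g.2)
    have h4 : v ∈ (𝒞[u] : Subgroup G) := mem_cent_comm.1 (mem_cent'.2 (h3 _
      ⟨h1.trans (isConj_iff.2 ⟨u, rfl⟩), ((comm_conj u).2 (by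
        rw [mul_assoc, mem_cent.1 g.2, inv_mul_cancel_left]; exact h2.symm)).symm⟩))
    exact ⟨⟨v, h4⟩, ⟨cj _ h1, Subtype.ext h2⟩, fun y hy => Subtype.ext (h3 _
      ⟨hw.trans ((𝒞[u] : Subgroup G).subtype.map_isConj hy.1), congrArg Subtype.val hy.2⟩)⟩

theorem Star.comm {q : ℕ} (hq : q.Prime) (q2 : q ≠ 2) (n : ℕ) : ∀ (G : Type u) [Group G]
    [Finite G], Nat.card G = n → ∀ x : G, Star q x → ∀ t : G, PE 2 t → Commute t x := by
  induction n using Nat.strong_induction_on with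
  | _ n ih =>
  intro G _ _ hn x H t ht
  haveI := Fact.mk hq
  haveI : Fact (Nat.Prime 2) := ⟨Nat.prime_two⟩
  have hK : ∀ g : G, g ∈ (𝒞[x] : Subgroup G).normalCore ↔ ∀ w, IsConj x w → Commute g w :=
    fun g => ⟨fun h w hw => by
      obtain ⟨k, rfl⟩ := isConj_iff.1 hw
      exact ((comm_conj k).2 (by simpa [Commute, SemiconjBy] using (mem_cent.1 (h k⁻¹)).symm)).symm,
    fun h k => mem_cent.2 ((comm_conj k).2 (h _ (isConj_iff.2 ⟨k⁻¹, by simp⟩)))⟩
  by_cases hb : (𝒞[x] : Subgroup G).normalCore = ⊥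
  swap
  · let f := QuotientGroup.mk' (𝒞[x] : Subgroup G).normalCore
    have hf : Function.Surjective f := QuotientGroup.mk'_surjective _
    have key : ∀ g w, IsConj x w → Commute (f g) (f w) → Commute g w := fun g w hw hc => by
      have h1 : w⁻¹ * (g * w * g⁻¹) ∈ (𝒞[x] : Subgroup G).normalCore :=
        QuotientGroup.eq.1 (show f w = f (g * w * g⁻¹) by
          rw [map_mul, map_mul, hc.eq, map_inv, mul_inv_cancel_right])
      have h2 := (Commute.refl w).mul_left ((hK _).1 h1 w hw)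
      rw [mul_inv_cancel_left] at h2
      exact mul_inv_eq_iff_eq_mul.1 (iso_eq H.iso (hw.trans (isConj_iff.2 ⟨g, rfl⟩)) hw h2)
    refine key t x (IsConj.refl x) (ih _ (hn ▸ by
      rw [← index_eq_card, ← card_mul_index (𝒞[x] : Subgroup G).normalCore]
      exact lt_mul_left (Nat.pos_of_ne_zero index_ne_zero_of_finite)
        ((one_lt_card_iff_ne_bot _).2 hb)) _ rfl (f x) ⟨H.pe.map f,
      H72.isolated_map (H.pe.orderOf_eq hq) H.iso f hf,
      fun c => H.odd (c.trans (cs_map_dvd f hf x)), fun s hs s2 y y1 hy hr => ?_⟩ _ (ht.map f))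
    obtain ⟨g, rfl, hg, hr⟩ := real_lift f hf hs s2 hy hr
    obtain ⟨w, ⟨h1, h2⟩, h3⟩ := H.real s hs s2 g (fun e => y1 (by rw [e, map_one])) hg hr
    refine ⟨f w, ⟨f.map_isConj h1, h2.map f⟩, fun v hv => ?_⟩
    obtain ⟨k, rfl⟩ := isConj_iff.1 hv.1
    obtain ⟨k, rfl⟩ := hf k
    rw [← h3 (k * x * k⁻¹) ⟨isConj_iff.2 ⟨k, rfl⟩, key _ _ (isConj_iff.2 ⟨k, rfl⟩)
      (by simpa using hv.2)⟩]
    simp
  have hf : ∀ g : G, (∀ w, IsConj x w → Commute g w) → g = 1 := fun g h =>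
    mem_bot.1 (hb ▸ (hK g).2 h)
  by_cases t1 : t = 1
  · simp [t1]
  have he : 2 ∣ Nat.card G := (dvd_orderOf_of_PE Nat.prime_two ht t1).trans (orderOf_dvd_natCard t)
  refine (false_of_step (Nat.coprime_two_right.1 (H.pe.coprime
    ((Nat.coprime_primes hq Nat.prime_two).2 q2))) H.odd ?_ hf he fun u w t hu hw hc ht htu => ?_).elim
  swap
  · refine congrArg Subtype.val (ih _ (hn ▸ ?_) _ rfl _ (star_cent hq H.pe H.iso H.odd
      (pe_of_prime hu) (fun s hs s2 g g1 hg hr _ => H.real s hs s2 g g1 hg hr)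
      ⟨w, mem_cent.2 hc.symm⟩ hw) ⟨t, mem_cent.2 htu⟩ (PE.coe.1 (pe_of_prime ht)))
    refine lt_of_le_of_ne (card_le_card_group _) fun e => ne_one_of_orderOf_two hu
      (hf u fun v _ => (mem_cent.1 ((eq_top_of_card_eq _ e).ge trivial)).symm)
  by_contra hO
  obtain ⟨V, s, hs, hn, V1, hle, hc, hp, -, -⟩ := H2.exists_minimal_normal_le_of_solvable
    (pPrimeCore 2 G) inferInstance
    (S0205.result (Nat.coprime_two_right.1 H22.coprime_card_pPrimeCore)) hO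
  have s2 : s ≠ 2 := by
    rintro rfl
    obtain ⟨k, hk⟩ := hp.exists_card_eq
    refine V1 (card_eq_one.1 (Nat.Coprime.eq_one_of_dvd ?_ (card_dvd_of_le hle)))
    exact hk ▸ (H22.coprime_card_pPrimeCore.symm.pow_left k)
  obtain ⟨r, hr, r2, g, g1, hg, hr', hV⟩ : ∃ r : ℕ, r.Prime ∧ r ≠ 2 ∧ ∃ g : G, g ≠ 1 ∧ PE r g ∧
      IsConj g g⁻¹ ∧ V ≤ 𝒞[g] := by
    by_cases h : ∀ u : G, orderOf u = 2 → V ≤ 𝒞[u]
    · obtain ⟨u, hu⟩ := exists_prime_orderOf_dvd_card' 2 he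
      obtain ⟨g, r, hr, r2, go, e⟩ := H81.exists_inverted_of_not_mem_pCore
        (H43.mul_self_of_orderOf hu) fun c => ne_one_of_orderOf_two hu (hf u fun w hw => by
          obtain ⟨S, hS⟩ := not_dvd_index_iff.1 (cs_of_isConj hw ▸ H.odd)
          exact mem_cent.1 (hS (H72.pCore_le_sylow S c)))
      refine ⟨r, hr, r2, g ^ 2, fun c => r2 ((Nat.prime_dvd_prime_iff_eq hr Nat.prime_two).1
        (go ▸ orderOf_dvd_of_pow_eq_one c)), (pe_of_prime go).pow 2,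
        isConj_iff.2 ⟨u, by rw [← conj_pow, e, inv_pow]⟩, fun v hv => ?_⟩
      have e2 : g ^ 2 = u⁻¹ * (g⁻¹ * u * g⁻¹⁻¹) := by
        rw [inv_inv, ← e, sq]
        group
      rw [e2]
      exact mem_cent.2 ((show Commute v u from mem_cent.1 (h u hu hv)).inv_right.mul_right
        (mem_cent.1 (h _ (by rwa [H43.orderOf_conj]) hv)))
    push Not at h
    obtain ⟨u, hu, h⟩ := h
    obtain ⟨v, hv, h⟩ := SetLike.not_le_iff_exists.1 h
    have h1 : v⁻¹ * (u * v * u⁻¹) ∈ V := mul_mem (inv_mem hv) (hn.conj_mem v hv u)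
    refine ⟨s, hs, s2, _, fun c => h (mem_cent_comm.1 (mem_cent'.2 (inv_mul_eq_one.1 c).symm)),
      PE.of_mem hp h1, isConj_iff.2 ⟨u, ?_⟩,
      fun a ha => mem_cent.2 (congrArg Subtype.val (hc.1.1 ⟨a, ha⟩ ⟨_, h1⟩))⟩
    have h2 := H43.mul_self_of_orderOf hu
    calc _ = u * v⁻¹ * (u * u) * u⁻¹ * v * (u * u)⁻¹ := by group
      _ = _ := by rw [h2]; group
  obtain ⟨w, ⟨h1, h2⟩, h3⟩ := H.real r hr r2 g g1 hg hr'
  refine V1 (eq_bot_iff.2 fun v hv => mem_bot.2 (hf v fun y hy => ?_))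
  obtain ⟨k, rfl⟩ := isConj_iff.1 (h1.symm.trans hy)
  have h4 := hn.conj_mem v hv k⁻¹
  rw [inv_inv] at h4
  refine ((comm_conj k).2 (Commute.symm (mul_inv_eq_iff_eq_mul.1 (h3 _
    ⟨h1.trans (isConj_iff.2 ⟨_, rfl⟩), ((comm_conj _).2 ?_).symm⟩)))).symm
  rw [mul_assoc, ← mem_cent.1 (hV h4), inv_mul_cancel_left]
  exact h2.symm

end Cfsg.Agent.H13
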