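import Cfsg.Agent.H8.PETools
import Cfsg.Agent.H8.ClsSz
import Cfsg.Agent.H95.Kazarin
import Cfsg.Agent.H2.MinNormal
import Cfsg.Agent.H23.Basic
import Cfsg.Agent.H43.Elem
import Cfsg.Agent.H1.Product
import Cfsg.Agent.S4034
import Cfsg.Agent.S0564

set_option autoImplicit false

/-! Groups whose `r`-regular classes have at most two sizes. -/

namespace Cfsg.Agent.H13

open Subgroup H83 H8

variable {G : Type*} [Group G] [Finite G]

local notation "𝒞[" x "]" => Subgroup.centralizer {x}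

omit [Finite G] in
theorem commute_of_comm_central {x w : G} (h : x * w * x⁻¹ * w⁻¹ ∈ center G)
    (hc : (orderOf x).Coprime (orderOf w)) : Commute x w := by
  set z := x * w * x⁻¹ * w⁻¹ with hz
  have c : ∀ g, Commute g z := fun g => mem_center_iff.1 h g
  have e1 : x * w * x⁻¹ = z * w := by rw [hz]; group
  have h1 : z ^ orderOf w = 1 := by
    have := congrArg (· ^ orderOf w) e1
    simp only [conj_pow, pow_orderOf_eq_one, (c w).symm.mul_pow] at this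
    simpa using this.symm
  have h2 : z ^ orderOf x = 1 := by
    have e2 : w * x⁻¹ * w⁻¹ = z * x⁻¹ := by
      rw [← (c x⁻¹).eq, hz]; group
    have := congrArg (· ^ orderOf x) e2
    simp only [conj_pow, inv_pow, pow_orderOf_eq_one, (c x⁻¹).symm.mul_pow] at this
    simpa using this.symm
  have h3 : z = 1 := orderOf_eq_one_iff.1 (Nat.eq_one_of_dvd_coprimes hc
    (orderOf_dvd_of_pow_eq_one h2) (orderOf_dvd_of_pow_eq_one h1))
  rw [h3, one_mul] at e1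
  exact mul_inv_eq_iff_eq_mul.1 e1

/-- The standing hypothesis of the two-sizes analysis. -/
structure RTwo (G : Type*) [Group G] (r e : ℕ) : Prop where
  hr : r.Prime
  h : ∀ x : G, (orderOf x).Coprime r → cs(x) = 1 ∨ cs(x) = e
  two : ∀ q : ℕ, q.Prime → q ≠ r →
    ∃ t : ℕ, t.Prime ∧ t ≠ r ∧ t ≠ q ∧ ∃ v : G, PE t v ∧ v ∉ center G

theorem cop_pow {s t : ℕ} (hs : s.Prime) (ht : t.Prime) (hst : s ≠ t) (k : ℕ) :
    s.Coprime (t ^ k) := ((Nat.coprime_primes hs ht).2 hst).pow_right k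

namespace RTwo

variable {r e : ℕ} (H : RTwo G r e)
include H

omit [Finite G] in
theorem hm {s : ℕ} {x : G} (hs : s.Prime) (hsr : s ≠ r) (hx : PE s x) (hz : x ∉ center G) :
    cs(x) = e := (H.h x (hx.coprime ((Nat.coprime_primes hs H.hr).2 hsr))).resolve_left fun c =>
  hz (cs_eq_one_iff.1 c)

theorem hcp {s t : ℕ} {x y : G} (hs : s.Prime) (ht : t.Prime) (hsr : s ≠ r) (htr : t ≠ r)
    (hst : s ≠ t) (hx : PE s x) (hy : PE t y) (hxz : x ∉ center G) (hc : Commute x y) :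
    𝒞[x] ≤ 𝒞[y] := by
  have hcop := PE.coprime_orderOf hs ht hst hx hy
  have h1 := cent_mul_of_coprime hc hcop
  rw [← eq_of_le_of_index_eq (h1.le.trans inf_le_left) (((H.h _ (by
    rw [hc.orderOf_mul_eq_mul_orderOf_of_coprime hcop]
    exact (hx.coprime ((Nat.coprime_primes hs H.hr).2 hsr)).mul_left
      (hy.coprime ((Nat.coprime_primes ht H.hr).2 htr)))).resolve_left fun c =>
    mul_not_mem_center hc hcop hxz (cs_eq_one_iff.1 c)).trans (H.hm hs hsr hx hxz).symm), h1]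
  exact inf_le_right

theorem F2 {s t : ℕ} {u : G} (hs : s.Prime) (ht : t.Prime) (hsr : s ≠ r) (htr : t ≠ r)
    (hu : PE s u) (huz : u ∉ center G) (hv : ∃ v : G, PE t v ∧ v ∉ center G) :
    ∃ v ∈ (𝒞[u] : Subgroup G), PE t v ∧ v ∉ center G := by
  obtain ⟨v, hv, hvz⟩ := hv
  refine exists_PE_of_dvd_relIndex ht ?_
  rw [← relIndex_eq_of_index_eq (center_le_centralizer _) (center_le_centralizer _)
    ((H.hm ht htr hv hvz).trans (H.hm hs hsr hu huz).symm)]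
  exact dvd_relIndex_center ht (self_mem_cent v) hv hvz

theorem F3 {s p : ℕ} {u w : G} (hs : s.Prime) (hp : p.Prime) (hsr : s ≠ r) (hpr : p ≠ r)
    (hu : PE s u) (huz : u ∉ center G) (hw : w ∈ (𝒞[u] : Subgroup G)) (hpw : PE p w) :
    𝒞[u] ≤ 𝒞[w] := by
  by_cases hsp : s = p
  swap
  · exact H.hcp hs hp hsr hpr hsp hu hpw huz (mem_cent.1 hw).symm
  subst hsp
  obtain ⟨t, ht, htr, hts, hv⟩ := H.two s hs hsr
  obtain ⟨v, hvu, hv, hvz⟩ := H.F2 hs ht hsr htr hu huz hv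
  have h1 := H.hcp hs ht hsr htr hts.symm hu hv huz (mem_cent.1 hvu).symm
  exact h1.trans (H.hcp ht hs htr hsr hts hv hpw hvz (mem_cent.1 (h1 hw)).symm)

theorem F4 {s p : ℕ} {u w : G} (hs : s.Prime) (hp : p.Prime) (hsr : s ≠ r) (hpr : p ≠ r)
    (hu : PE s u) (huz : u ∉ center G) (hw : w ∈ (𝒞[u] : Subgroup G)) (hpw : PE p w)
    (hwz : w ∉ center G) : 𝒞[w] = 𝒞[u] :=
  (eq_of_le_of_index_eq (H.F3 hs hp hsr hpr hu huz hw hpw)
    ((H.hm hs hsr hu huz).trans (H.hm hp hpr hpw hwz).symm)).symm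

theorem nD {q p : ℕ} {u g w : G} (hq : q.Prime) (hp : p.Prime) (hqr : q ≠ r) (hpr : p ≠ r)
    (hu : PE q u) (huz : u ∉ center G) (hw : w ∈ (𝒞[u] : Subgroup G)) (hpw : PE p w)
    (hwz : w ∉ center G) (hg : g * w * g⁻¹ ∈ (𝒞[u] : Subgroup G)) :
    g ∈ normalizer ((𝒞[u] : Subgroup G) : Set G) :=
  mem_normalizer_of_cent (H := ⊤) (le_normalizer (mem_top _))
    (by rw [top_inf_eq, H.F4 hq hp hqr hpr hu huz hw hpw hwz])
    (by rw [top_inf_eq, H.F4 hq hp hqr hpr hu huz hg (hpw.conj _) (conj_not_mem_center hwz _)])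

theorem hE {q : ℕ} {u y : G} (hq : q.Prime) (hqr : q ≠ r) (hu : PE q u) (huz : u ∉ center G)
    (hy : PE q y) (hyN : y ∈ normalizer ((𝒞[u] : Subgroup G) : Set G))
    (hyD : y ∉ (𝒞[u] : Subgroup G)) {x : G}
    (hx : x ∈ normalizer ((𝒞[u] : Subgroup G) : Set G)) :
    ∃ k : ℕ, x ^ q ^ k ∈ (𝒞[u] : Subgroup G) := by
  obtain ⟨K, hK⟩ : ∃ K : Subgroup G, K = 𝒞[u] ⊓ centralizer ((𝒞[u] : Subgroup G) : Set G) :=
    ⟨_, rfl⟩
  have inK : ∀ {p : ℕ} {w : G}, p.Prime → p ≠ r → w ∈ (𝒞[u] : Subgroup G) → PE p w → w ∈ K :=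
    fun hp hpr hw hpw => hK ▸ ⟨hw, fun d hd => mem_cent.1 (H.F3 hq hp hqr hpr hu huz hw hpw hd)⟩
  have K1 : K ≤ 𝒞[u] := hK ▸ inf_le_left
  have K2 : K ≤ centralizer ((𝒞[u] : Subgroup G) : Set G) := hK ▸ inf_le_right
  have hCK : centralizer (K : Set G) = 𝒞[u] :=
    le_antisymm (centralizer_le (Set.singleton_subset_iff.2
      (inK hq hqr (self_mem_cent u) hu))) fun d hd k hk => (K2 hk d hd).symm
  have hfix : ∀ {p : ℕ}, p.Prime → p ≠ r → ∀ x, x ∉ centralizer (K : Set G) →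
      ∀ w ∈ K, PE p w → Commute x w → w ∈ center G := by
    intro p hp hpr x hx w hw hpw hc
    by_contra hwz
    rw [hCK, ← H.F4 hq hp hqr hpr hu huz (K1 hw) hpw hwz] at hx
    exact hx (mem_cent.2 hc)
  obtain ⟨t, ht, htr, htq, hv⟩ := H.two q hq hqr
  obtain ⟨v, hvu, hv, hvz⟩ := H.F2 hq ht hqr htr hu huz hv
  have hN : normalizer ((𝒞[u] : Subgroup G) : Set G) ≤ normalizer (K : Set G) := hK ▸
    (le_inf le_rfl (H23.normalizer_le_normalizer_centralizer _)).trans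
      inf_normalizer_le_normalizer_inf
  rw [← hCK]
  exact pow_mem_cent_of_few_fixed (fun a ha b hb => K2 hb a (K1 ha)) hN hq
    ⟨u, inK hq hqr (self_mem_cent u) hu, hu, huz⟩ (fun e _ he => hfix hq hqr e he)
    (fun e _ he => ⟨t, ht, htq, ⟨v, inK ht htr hvu hv, hv, hvz⟩, hfix ht htr e he,
      fun g _ hg _ => hfix ht htr g hg⟩) hyN hy (hCK.symm ▸ hyD) hx

/-- The final contradiction, from a normal section `V/M` over `M/Z(G) = O_r(G/Z(G))`. -/
theorem section_false {q s : ℕ} {u y g : G} (hq : q.Prime) (hqr : q ≠ r) (hu : PE q u)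
    (huz : u ∉ center G) (hy : PE q y) (hyN : y ∈ normalizer ((𝒞[u] : Subgroup G) : Set G))
    (hyD : y ∉ (𝒞[u] : Subgroup G)) (hg : g * y * g⁻¹ ∈ (𝒞[u] : Subgroup G))
    {M V : Subgroup G} [hMn : M.Normal] (hVn : V.Normal) (hZM : center G ≤ M)
    (hM : ∀ x ∈ M, ∃ k : ℕ, x ^ r ^ k ∈ center G) [hs : Fact s.Prime] (hsr : s ≠ r)
    (hVs : ∀ x ∈ V, x ^ s ∈ M) (hVM : ¬ V ≤ M) (hVc : ∀ a ∈ V, ∀ b ∈ V, a * b⁻¹ * a⁻¹ * b ∈ M)
    (S : Sylow s G) (hS : (S : Subgroup G) ≤ normalizer ((𝒞[u] : Subgroup G) : Set G)) :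
    False := by
  have hMz : ∀ {p : ℕ} {w : G}, p.Prime → p ≠ r → PE p w → w ∈ M → w ∈ center G :=
    fun hp hpr hpw hw => (hM _ hw).elim fun k hk =>
      hpw.mem_of_pow_mem (cop_pow hp H.hr hpr k) hk
  have hVz : ∀ {p : ℕ} {w : G}, p.Prime → p ≠ s → PE p w → w ∈ V → w ∈ M :=
    fun hp hps hpw hw => hpw.mem_of_pow_mem ((Nat.coprime_primes hp hs.out).2 hps) (hVs _ hw)
  have hSD : (S : Subgroup G) ⊓ V ≤ 𝒞[u] := fun x hx => by
    obtain ⟨t, ht, htr, hts, hw⟩ := H.two s hs.out hsr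
    obtain ⟨w, hwD, hw, hwz⟩ := H.F2 hq ht hqr htr hu huz hw
    have h1 : x * w * x⁻¹ ∈ (𝒞[u] : Subgroup G) := (mem_normalizer_iff.1 (hS hx.1) w).1 hwD
    rw [← H.F4 hq ht hqr htr hu huz hwD hw hwz]
    have h2 : PE t (x * w * x⁻¹ * w⁻¹) := (hw.conj x).mul hw.inv
      (Commute.inv_right (mem_cent.1 (H.F3 hq ht hqr htr hu huz hwD hw h1)))
    refine mem_cent.2 (commute_of_comm_central (hMz ht htr h2 (hVz ht hts h2 ?_))
      (PE.coprime_orderOf hs.out ht hts.symm (PE.of_mem S.2 hx.1) hw))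
    rw [mul_assoc, mul_assoc, ← mul_assoc w]
    exact mul_mem hx.2 (hVn.conj_mem _ (inv_mem hx.2) w)
  have cV : ∀ v ∈ V, PE s v → ∃ n ∈ V, n * v * n⁻¹ ∈ (𝒞[u] : Subgroup G) := fun v hv hsv => by
    obtain ⟨n, hn, h1⟩ := exists_conj_mem_of_not_dvd (inf_le_right : (S : Subgroup G) ⊓ V ≤ V)
      hs.out (by
        rw [inf_relIndex_right]
        exact fun c => S.not_dvd_index (c.trans (H19.relIndex_dvd_index_of_normal_right _ _))) hv hsv
    exact ⟨n, hn, hSD h1⟩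
  have hVY : V ≤ 𝒞[u] ⊔ M := le_of_forall_PE fun p hp v hv hpv => by
    by_cases hps : p = s
    · subst hps
      obtain ⟨n, hn, h1⟩ := cV v hv hpv
      rw [show v = n * v * n⁻¹ * (n * v⁻¹ * n⁻¹ * v) by group]
      exact mul_mem_sup h1 (hVc n hn v hv)
    · exact mem_sup_right (hVz hp hps hpv hv)
  obtain ⟨v, hvV, hv, hvM⟩ : ∃ v ∈ V, PE s v ∧ v ∉ M := by
    by_contra c
    push Not at c
    exact hVM (le_of_forall_PE fun p hp v hv hpv =>
      if hps : p = s then c v hv (hps ▸ hpv) else hVz hp hps hpv hv)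
  have hvz : v ∉ center G := fun c => hvM (hZM c)
  obtain ⟨m, hmV, hmv⟩ := cV v hvV hv
  obtain ⟨n, hn, hnv⟩ := cV _ (hVn.conj_mem _ (hVn.conj_mem v hvV m) g) ((hv.conj m).conj g)
  have ha : n * g ∈ normalizer ((𝒞[u] : Subgroup G) : Set G) :=
    H.nD hq hs.out hqr hsr hu huz hmv (hv.conj m) (conj_not_mem_center hvz m) (by
      rwa [show n * g * (m * v * m⁻¹) * (n * g)⁻¹ = n * (g * (m * v * m⁻¹) * g⁻¹) * n⁻¹ by group])
  have h1 : n * (g * y * g⁻¹) * n⁻¹ ∈ ((𝒞[u] ⊔ M : Subgroup G) : Set G) :=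
    mul_mem (mul_mem (hVY hn) (mem_sup_left hg)) (inv_mem (hVY hn))
  rw [mul_normal] at h1
  obtain ⟨d, hd, c, hc, e1⟩ := h1
  have hd' : (n * g)⁻¹ * d * (n * g) ∈ (𝒞[u] : Subgroup G) :=
    H2.inv_conj_mem_of_mem_normalizer ha hd
  have e2 : y = (n * g)⁻¹ * d * (n * g) * ((n * g)⁻¹ * c * (n * g)) := by
    have e1 : d * c = _ := e1
    rw [show y = (n * g)⁻¹ * (n * (g * y * g⁻¹) * n⁻¹) * (n * g) by group, ← e1]
    group
  have hc' : (n * g)⁻¹ * c * (n * g) ∈ M := hMn.conj_mem' c hc _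
  refine hyD (e2 ▸ mul_mem hd' (mem_of_forall_PE _ _ fun p hp x hx hpx => ?_))
  by_cases hpq : p = q
  · exact center_le_centralizer _ (hMz hp (hpq ▸ hqr) hpx (zpowers_le.2 hc' hx))
  · obtain ⟨k, hk⟩ := H.hE hq hqr hu huz hy hyN hyD (x := x) (zpowers_le.2 (by
      rw [← inv_mul_cancel_left ((n * g)⁻¹ * d * (n * g)) ((n * g)⁻¹ * c * (n * g)), ← e2]
      exact mul_mem (inv_mem (le_normalizer hd')) hyN) hx)
    exact hpx.mem_of_pow_mem (cop_pow hp hq hpq k) hk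

theorem not_dvd {q : ℕ} (hq : q.Prime) (hqr : q ≠ r) : ¬ q ∣ e := by
  intro hqe
  have := Fact.mk hq
  have hr := H.hr
  obtain ⟨Q⟩ : Nonempty (Sylow q G) := inferInstance
  obtain ⟨u, huQ, huz, huc⟩ : ∃ u ∈ (Q : Subgroup G), u ∉ center G ∧
      ∀ g ∈ (Q : Subgroup G), g * u * g⁻¹ * u⁻¹ ∈ center G := by
    obtain ⟨t, ht, htr, -, v, hv, hvz⟩ := H.two q hq hqr
    obtain ⟨_, ⟨u, hu, rfl⟩, ho, hz⟩ := H43.exists_central_of_pgroup
      (Q.isPGroup'.map (QuotientGroup.mk' (center G))) fun c => by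
        rw [Subgroup.map_eq_bot_iff, QuotientGroup.ker_mk'] at c
        exact not_dvd_index_iff.2 ⟨Q, c.trans (center_le_centralizer {v})⟩
          (by rw [H.hm ht htr hv hvz]; exact hqe)
    refine ⟨u, hu, fun c => hq.one_lt.ne ?_, fun g hg => ?_⟩
    · rw [← ho, eq_comm, orderOf_eq_one_iff]
      exact (QuotientGroup.eq_one_iff u).2 c
    · rw [← QuotientGroup.eq_one_iff]
      have := hz _ ⟨g, hg, rfl⟩
      simp only [QuotientGroup.mk'_apply] at this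
      simp only [QuotientGroup.mk_mul, QuotientGroup.mk_inv, ← this]
      group
  have hu : PE q u := PE.of_mem Q.2 huQ
  have hDe := H.hm hq hqr hu huz
  have hQN : (Q : Subgroup G) ≤ normalizer ((𝒞[u] : Subgroup G) : Set G) := fun g hg =>
    H.nD hq hq hqr hqr hu huz (self_mem_cent u) hu huz (by
      rw [← inv_mul_cancel_right (g * u * g⁻¹) u]
      exact mul_mem (center_le_centralizer _ (huc g hg)) (self_mem_cent u))
  obtain ⟨y, hyQ, hyD⟩ : ∃ y ∈ (Q : Subgroup G), y ∉ (𝒞[u] : Subgroup G) :=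
    SetLike.not_le_iff_exists.1 fun c => not_dvd_index_iff.2 ⟨Q, c⟩ (hDe ▸ hqe)
  have hy : PE q y := PE.of_mem Q.2 hyQ
  have nd : ∀ s : ℕ, s.Prime → s ≠ r → s ≠ q → ¬ s ∣ (𝒞[u] : Subgroup G).relIndex ⊤ :=
    fun s hs hsr hsq hd => by
    obtain ⟨v, -, hv, hvD⟩ := exists_PE_of_dvd_relIndex hs hd
    obtain ⟨g, -, hgD, hg, hgN⟩ := exists_PE_mem_normalizer le_top hs hd
      (fun a ha b hb _ h2 => mem_cent.1 (H.F3 hq hs hqr hsr hu huz hb h2 ha))
      (H.F2 hq hs hqr hsr hu huz ⟨v, hv, fun c => hvD (center_le_centralizer _ c)⟩)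
      (fun w hw h1 h2 => by rw [top_inf_eq, H.F4 hq hs hqr hsr hu huz hw h1 h2])
    obtain ⟨k, hk⟩ := H.hE hq hqr hu huz hy (hQN hyQ) hyD hgN
    exact hgD (hg.mem_of_pow_mem (cop_pow hs hq hsq k) hk)
  obtain ⟨g, hg⟩ : ∃ g : G, g * y * g⁻¹ ∈ (𝒞[u] : Subgroup G) := by
    have hyz : y ∉ center G := fun c => hyD (center_le_centralizer _ c)
    obtain ⟨t, ht, htr, htq, hv⟩ := H.two q hq hqr
    obtain ⟨v, hvy, hv, hvz⟩ := H.F2 hq ht hqr htr hy hyz hv
    obtain ⟨n, -, hn⟩ := exists_conj_mem_of_not_dvd le_top ht (nd t ht htr htq) (mem_top v) hv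
    refine ⟨n, ?_⟩
    rw [← H.F4 hq ht hqr htr hu huz hn (hv.conj n) (conj_not_mem_center hvz n)]
    exact mem_cent.2 ((show Commute y v from (mem_cent.1 hvy).symm).map (MulAut.conj n))
  obtain ⟨M, ⟨hMn, hZM, hM⟩, hmax⟩ := Set.Finite.exists_maximal
    (s := {M : Subgroup G | M.Normal ∧ center G ≤ M ∧ ∀ x ∈ M, ∃ k : ℕ, x ^ r ^ k ∈ center G})
    (Set.toFinite _) ⟨center G, inferInstance, le_rfl, fun x hx => ⟨0, by simpa using hx⟩⟩
  obtain ⟨f, hf, f1⟩ : ∃ f : G →* G ⧸ M, Function.Surjective f ∧ ∀ x, f x = 1 ↔ x ∈ M :=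
    ⟨_, QuotientGroup.mk'_surjective M, fun x => QuotientGroup.eq_one_iff x⟩
  have hk : f u ∈ H44.solRad (G ⧸ M) := by
    refine H95.kazarin hr (G ⧸ M) (f u) _
      (Nat.eq_prime_pow_of_unique_prime_dvd (cs_ne_zero _) fun {p} hp hd => ?_)
    by_contra hpr
    by_cases hpq : p = q
    · rw [hpq, ← index_comap_of_surjective _ hf] at hd
      refine not_dvd_index_iff.2 ⟨Q, fun x hx => mem_comap.2 (mem_cent'.2 ?_)⟩ hd
      rw [← mul_inv_eq_one, ← map_mul, ← map_inv, ← map_inv, ← map_mul, ← map_mul, f1]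
      exact hZM (huc x hx)
    · exact nd p hp hpr hpq (by rw [relIndex_top_right]; exact hd.trans (cs_map_dvd f hf u))
  obtain ⟨V, s, hs, hVn, hV1, -, hVc, -, hVs, -⟩ := H2.exists_minimal_normal_le_of_solvable
    (H44.solRad (G ⧸ M)) inferInstance H44.solRad_isSolvable fun c => by
      obtain ⟨k, hk⟩ := hM u ((f1 u).1 (mem_bot.1 (c ▸ hk)))
      exact huz (hu.mem_of_pow_mem (cop_pow hq hr hqr k) hk)
  have hVs' : ∀ x ∈ V.comap f, x ^ s ∈ M := fun x hx =>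
    (f1 _).1 (by rw [map_pow]; exact hVs _ hx)
  have hMV : M ≤ V.comap f := fun x hx => by
    rw [mem_comap, (f1 x).2 hx]; exact one_mem _
  have hVM : ¬ V.comap f ≤ M := fun c => hV1 (eq_bot_iff.2 fun x hx => by
    obtain ⟨x, rfl⟩ := hf x
    exact mem_bot.2 ((f1 x).2 (c hx)))
  have hsr : s ≠ r := fun c => hVM (hmax ⟨hVn.comap f, hZM.trans hMV, fun x hx => by
    obtain ⟨k, hk⟩ := hM _ (hVs' x hx)
    exact ⟨k + 1, by rw [pow_succ', pow_mul]; rwa [c] at hk⟩⟩ hMV)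
  have := Fact.mk hs
  obtain ⟨S, hS⟩ : ∃ S : Sylow s G,
      (S : Subgroup G) ≤ normalizer ((𝒞[u] : Subgroup G) : Set G) := by
    by_cases hsq : s = q
    · subst hsq
      exact ⟨Q, hQN⟩
    · obtain ⟨S, hS⟩ := not_dvd_index_iff.1 (relIndex_top_right (𝒞[u] : Subgroup G) ▸
        nd s hs hsr hsq)
      exact ⟨S, hS.trans le_normalizer⟩
  refine H.section_false hq hqr hu huz hy (hQN hyQ) hyD hg (hVn.comap f) hZM hM hsr hVs' hVM
    (fun a ha b hb => (f1 _).1 ?_) S hS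
  simp only [map_mul, map_inv]
  rw [H2.mul_comm_of_mem hVc ha (inv_mem hb)]
  group

end RTwo

/-- If the `r`-regular classes have size `1` or `e`, their sizes are powers of `r`, or
`G/Z(G)` is an `{r, q}`-group. -/
theorem r2 {r e : ℕ} (hr : r.Prime)
    (h : ∀ x : G, (orderOf x).Coprime r → cs(x) = 1 ∨ cs(x) = e) :
    (∀ x : G, (orderOf x).Coprime r → ∃ k : ℕ, cs(x) = r ^ k) ∨
      ∃ q : ℕ, q.Prime ∧ q ≠ r ∧
        ∀ t : ℕ, t.Prime → t ≠ r → t ≠ q → ∀ v : G, PE t v → v ∈ center G := by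
  by_contra c
  push Not at c
  obtain ⟨⟨x, hx, hk⟩, two⟩ := c
  rcases h x hx with e1 | e1
  · exact hk 0 e1
  refine hk _ (Nat.eq_prime_pow_of_unique_prime_dvd (cs_ne_zero x) fun {q} hq hd => ?_)
  by_contra hqr
  exact RTwo.not_dvd ⟨hr, h, two⟩ hq hqr (e1 ▸ hd)

theorem isNilpotent_of_forall_PE {p : ℕ} (hp : p.Prime)
    (h : ∀ t : ℕ, t.Prime → t ≠ p → ∀ v : G, PE t v → v ∈ center G) : Group.IsNilpotent G := by
  have := Fact.mk hp
  have := (isPGroup_quotient_of_forall (N := center G) h hp).isNilpotent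
  exact Subgroup.isNilpotent_of_ker_le_center (QuotientGroup.mk' (center G))
    (QuotientGroup.ker_mk' _).le

theorem exists_nilpotent_of_two_sizes {r e : ℕ} (hr : r.Prime)
    (h : ∀ x : G, (orderOf x).Coprime r → cs(x) = 1 ∨ cs(x) = e) :
    ∃ U : Subgroup G, Group.IsNilpotent U ∧ ∃ k : ℕ, U.index = r ^ k := by
  rcases r2 hr h with H | ⟨q, hq, hqr, H⟩
  · obtain ⟨U, hU, -, hk⟩ := (S4034.result (G := G) hr).1 fun x hx => by
      rw [H82.ncard_carrier_mk]; exact H x hx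
    let _ : CommGroup U := { (inferInstance : Group U) with mul_comm := hU.is_comm.comm }
    exact ⟨U, CommGroup.isNilpotent, hk⟩
  have := Fact.mk hq
  obtain ⟨Q⟩ : Nonempty (Sylow q G) := inferInstance
  refine ⟨Q ⊔ center G, isNilpotent_of_forall_PE hq fun t ht htq v hv => ?_, _,
    Nat.eq_prime_pow_of_unique_prime_dvd FiniteIndex.index_ne_zero fun {t} ht hd => ?_⟩
  · have h1 : (v : G) ∈ (((Q : Subgroup G) ⊔ center G : Subgroup G) : Set G) := v.2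
    rw [mul_normal] at h1
    obtain ⟨y, hy, z, hz, e1⟩ := h1
    obtain ⟨k, hk⟩ := PE.of_mem Q.2 hy
    have h2 : (v : G) ∈ center G := (PE.coe.2 hv).mem_of_pow_mem (cop_pow ht hq htq k) (by
      rw [← e1, (show Commute y z from mem_center_iff.1 hz y).mul_pow, hk, one_mul]
      exact pow_mem hz _)
    exact mem_center_iff.2 fun g => Subtype.ext (mem_center_iff.1 h2 g)
  · by_contra htr
    by_cases htq : t = q
    · exact not_dvd_index_iff.2 ⟨Q, le_sup_left⟩ (htq ▸ hd)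
    · obtain ⟨v, -, hv, hvU⟩ := exists_PE_of_dvd_relIndex (X := ⊤)
        (Y := (Q : Subgroup G) ⊔ center G) ht (by rwa [relIndex_top_right])
      exact hvU (mem_sup_right (H t ht htr htq v hv))

theorem isSolvable_of_nilpotent_index {r k : ℕ} (hr : r.Prime) {U : Subgroup G}
    (hU : Group.IsNilpotent U) (hk : U.index = r ^ k) : Group.IsSolvable G := by
  have := Fact.mk hr
  obtain ⟨R⟩ : Nonempty (Sylow r G) := inferInstance
  exact S0564.result U R hU R.isPGroup'.isNilpotent (H1.mul_eq_of_coprime _ _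
    (hk ▸ ((Nat.Prime.coprime_iff_not_dvd hr).2 R.not_dvd_index).pow_left k))

end Cfsg.Agent.H13
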