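import Cfsg.Agent.H13.SzGroup
import Cfsg.Agent.H72.Core

/-! Automorphisms of the Sylow 2-subgroup of a Suzuki group. -/

set_option autoImplicit false
set_option linter.unusedSectionVars false

namespace Cfsg.Agent.H13.AutS

open Finset

section Ded

variable {K F : Type*} [Field K] [Field F] [Algebra K F] [Fintype (F ≃ₐ[K] F)]

theorem ded {c : (F ≃ₐ[K] F) → F} (h : ∀ a, ∑ σ, c σ * σ a = 0) (σ : F ≃ₐ[K] F) : c σ = 0 := by
  have li := (linearIndependent_monoidHom F F).comp (fun σ : F ≃ₐ[K] F => (σ : F →* F))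
    (fun σ τ e => AlgEquiv.ext fun a => DFunLike.congr_fun e a)
  refine Fintype.linearIndependent_iff.1 li c ?_ σ
  ext a
  simpa using h a

theorem ded2 {M : (F ≃ₐ[K] F) → (F ≃ₐ[K] F) → F} (h : ∀ a b, ∑ σ, ∑ τ, M σ τ * (σ a * τ b) = 0)
    (σ τ : F ≃ₐ[K] F) : M σ τ = 0 := by
  refine ded (c := M σ) (fun b => ?_) τ
  refine ded (c := fun σ => ∑ τ, M σ τ * τ b) (fun a => ?_) σ
  rw [← h a b]
  refine sum_congr rfl fun σ _ => ?_
  rw [sum_mul]
  exact sum_congr rfl fun τ _ => by ring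

theorem quad (hsq : ∀ b : F, ∃ a, a ^ 2 = b) {M : (F ≃ₐ[K] F) → (F ≃ₐ[K] F) → F}
    (h : ∀ a, ∑ σ, ∑ τ, M σ τ * (σ a * τ a) = 0) :
    (∀ σ τ, M σ τ + M τ σ = 0) ∧ ∀ σ, M σ σ = 0 := by
  classical
  have h1 : ∀ σ τ, M σ τ + M τ σ = 0 := by
    refine ded2 (M := fun σ τ => M σ τ + M τ σ) fun a b => ?_
    have e := h (a + b)
    simp only [map_add, add_mul, mul_add, sum_add_distrib, h a, h b] at e ⊢
    rw [sum_comm (f := fun σ τ => M τ σ * (σ a * τ b))]
    simp only [mul_comm (_ : F) ((_ : F ≃ₐ[K] F) b)] at e ⊢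
    linear_combination e
  refine ⟨h1, ded fun b => ?_⟩
  obtain ⟨a, rfl⟩ := hsq b
  have e := h a
  rw [← sum_product'] at e
  have e0 : ∑ p ∈ (univ ×ˢ univ : Finset ((F ≃ₐ[K] F) × (F ≃ₐ[K] F))),
      (if p.1 = p.2 then 0 else M p.1 p.2 * (p.1 a * p.2 a)) = 0 := by
    refine sum_ninvolution Prod.swap (fun p => ?_) (fun p hp e => hp ?_) (by simp) (by simp)
    · by_cases n : p.1 = p.2
      · simp [n]
      · simp only [n, Prod.fst_swap, Prod.snd_swap, Ne.symm n, if_false]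
        linear_combination p.1 a * p.2 a * h1 p.1 p.2
    · rw [if_pos (show p.1 = p.2 from congrArg Prod.snd e)]
  have e1 : ∑ p ∈ (univ ×ˢ univ : Finset ((F ≃ₐ[K] F) × (F ≃ₐ[K] F))),
      (if p.1 = p.2 then M p.1 p.2 * (p.1 a * p.2 a) else 0) = 0 := by
    refine (add_zero _).symm.trans ?_
    nth_rewrite 2 [← e0]
    rw [← sum_add_distrib]
    exact (sum_congr rfl fun p _ => by split_ifs <;> simp).trans e
  rw [sum_product] at e1
  simp only [sum_ite_eq, mem_univ, if_true] at e1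
  rw [← e1]
  exact sum_congr rfl fun σ _ => by rw [map_pow, sq]

theorem key (hsq : ∀ b : F, ∃ a, a ^ 2 = b) (t : F ≃ₐ[K] F) (ht : ∀ σ, σ * t = t * σ)
    (h4 : t * t * (t * t) ≠ 1) {f g : (F ≃ₐ[K] F) → F}
    (h : ∀ a, ∑ σ, g σ * σ (t a * a) = t (∑ σ, f σ * σ a) * ∑ σ, f σ * σ a)
    {σ ρ : F ≃ₐ[K] F} (hσ : f σ ≠ 0) (hρ : f ρ ≠ 0) : σ = ρ := by
  classical
  have t1 : t ≠ 1 := by rintro rfl; simp at h4
  obtain ⟨h1, h2⟩ := quad hsq
    (M := fun σ τ => f σ * t (f (t⁻¹ * τ)) - if τ = t * σ then g σ else 0) fun a => by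
      simp only [sub_mul, sum_sub_distrib, ite_mul, zero_mul, sum_ite_eq', mem_univ, if_true]
      rw [sub_eq_zero]
      calc _ = (∑ σ, f σ * σ a) * ∑ τ, t (f (t⁻¹ * τ)) * τ a := by
            rw [sum_mul_sum]
            exact sum_congr rfl fun σ _ => sum_congr rfl fun τ _ => by ring
        _ = ∑ σ, g σ * σ (t a * a) := by
            rw [h, mul_comm, map_sum, ← Equiv.sum_comp (Equiv.mulLeft t)]
            simp
        _ = _ := sum_congr rfl fun σ _ => by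
            rw [← ht σ, map_mul, mul_comm (σ (t a))]; rfl
  have ne : ∀ σ : F ≃ₐ[K] F, σ ≠ t * σ := fun σ e => t1 (by simpa using e)
  have d1 : ∀ σ, f σ ≠ 0 → f (t * σ) = 0 := fun σ hσ => by
    have := h2 (t * σ)
    rw [if_neg (ne _), sub_zero, inv_mul_cancel_left, mul_eq_zero] at this
    exact this.resolve_right (by simpa using hσ)
  have d2 : ∀ σ ρ, f σ ≠ 0 → f ρ ≠ 0 → σ ≠ ρ → σ = t * (t * ρ) := fun σ ρ hσ hρ n => by
    by_contra n'
    have := h1 σ (t * ρ)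
    rw [if_neg (fun e => n (mul_left_cancel e).symm), if_neg n', d1 ρ hρ, inv_mul_cancel_left] at this
    simp [hσ, hρ] at this
  by_contra n
  have e1 := d2 σ ρ hσ hρ n
  have e2 := d2 ρ σ hρ hσ (Ne.symm n)
  rw [e2] at e1
  refine h4 (mul_right_cancel (b := σ) ?_)
  rw [one_mul]
  nth_rewrite 2 [e1]
  simp only [mul_assoc]

end Ded

section Two

variable {F : Type*} [Field F] [Finite F] [Algebra (ZMod 2) F]

theorem card_hom {n : ℕ} (hF : Nat.card F = 2 ^ n) : Nat.card (F →+ F) = 2 ^ n ^ 2 := by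
  haveI : Fact (Nat.Prime 2) := ⟨Nat.prime_two⟩
  have hn : Module.finrank (ZMod 2) F = n := by
    have := Module.natCard_eq_pow_finrank (K := ZMod 2) (V := F)
    rw [hF, Nat.card_zmod] at this
    exact (Nat.pow_right_injective le_rfl this).symm
  rw [Nat.card_congr (AddMonoidHom.toZModLinearMapEquiv 2).toEquiv,
    Module.natCard_eq_pow_finrank (K := ZMod 2), Nat.card_zmod, Module.finrank_linearMap, hn, sq]

theorem card_gal {n : ℕ} (hF : Nat.card F = 2 ^ n) : Nat.card (F ≃ₐ[ZMod 2] F) = n := by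
  haveI : Fact (Nat.Prime 2) := ⟨Nat.prime_two⟩
  have := Module.natCard_eq_pow_finrank (K := ZMod 2) (V := F)
  rw [hF, Nat.card_zmod] at this
  rw [IsGalois.card_aut_eq_finrank]
  exact (Nat.pow_right_injective le_rfl this).symm

theorem exists_coef [Fintype (F ≃ₐ[ZMod 2] F)] {n : ℕ} (hF : Nat.card F = 2 ^ n) (f : F →+ F) :
    ∃ c : (F ≃ₐ[ZMod 2] F) → F, ∀ a, f a = ∑ σ, c σ * σ a := by
  let Φ : ((F ≃ₐ[ZMod 2] F) → F) → (F →+ F) := fun c =>
    AddMonoidHom.mk' (fun a => ∑ σ, c σ * σ a) fun a b => by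
      simp only [map_add, mul_add, sum_add_distrib]
  have inj : Function.Injective Φ := fun c d e => by
    ext σ
    rw [← sub_eq_zero]
    refine ded (c := fun σ => c σ - d σ) (fun a => ?_) σ
    simp only [sub_mul, sum_sub_distrib]
    exact sub_eq_zero.2 (DFunLike.congr_fun e a)
  haveI : Finite (F →+ F) := Finite.of_injective _ DFunLike.coe_injective
  have bij := (Nat.bijective_iff_injective_and_card Φ).2 ⟨inj, by
    rw [Nat.card_fun, card_hom hF, card_gal hF, hF, ← pow_mul, sq]⟩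
  obtain ⟨c, rfl⟩ := bij.2 f
  exact ⟨c, fun a => rfl⟩

end Two

variable {F : Type*} [Field F] [Finite F] [Tits F] [Algebra (ZMod 2) F]

/-- additive maps compatible with the squaring map are semilinear -/
theorem semi {n e : ℕ} (hF : Nat.card F = 2 ^ n) (hn : 3 ≤ n) (hθ : ∀ x : F, θ x = x ^ e)
    (f g : F →+ F) (hf : f 1 ≠ 0) (h : ∀ a, g (θ a * a) = θ (f a) * f a) :
    ∃ (l : Fˣ) (σ : F ≃ₐ[ZMod 2] F), (∀ a, f a = l * σ a) ∧ ∀ b, g b = θ (l : F) * l * σ b := by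
  classical
  haveI : Fact (Nat.Prime 2) := ⟨Nat.prime_two⟩
  haveI := Fintype.ofFinite (F ≃ₐ[ZMod 2] F)
  haveI := Fintype.ofFinite F
  let t : F ≃ₐ[ZMod 2] F := AlgEquiv.ofBijective
    { (θ : F →+* F) with
      commutes' := fun r => DFunLike.congr_fun
        (RingHom.ext_zmod ((θ : F →+* F).comp (algebraMap (ZMod 2) F)) (algebraMap (ZMod 2) F)) r }
    (Finite.injective_iff_bijective.1 θ_inj)
  have tθ : ∀ a, t a = θ a := fun a => rfl
  have comm : ∀ (σ : F ≃ₐ[ZMod 2] F) a, σ (θ a) = θ (σ a) := fun σ a => by rw [hθ, hθ, map_pow]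
  have h4 : t * t * (t * t) ≠ 1 := fun e => by
    have := (FiniteField.forall_pow_eq_one_iff F 3).1 fun x => by
      have e1 : θ (θ (θ (θ (x : F)))) = x := DFunLike.congr_fun e (x : F)
      rw [θθ, θθ] at e1
      ext
      refine mul_right_cancel₀ x.ne_zero ?_
      push_cast
      linear_combination e1
    have h3 := Nat.le_of_dvd (by norm_num) this
    rw [← Nat.card_eq_fintype_card, hF] at h3
    have : 2 ^ 3 ≤ 2 ^ n := Nat.pow_le_pow_right (by norm_num) hn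
    omega
  obtain ⟨c, hc⟩ := exists_coef hF f
  obtain ⟨d, hd⟩ := exists_coef hF g
  have hk := fun σ ρ => key (f := c) (g := d) (σ := σ) (ρ := ρ) sq_surj t
    (fun σ => AlgEquiv.ext fun a => comm σ a) h4 fun a => by rw [← hc, ← hd, tθ, tθ, h]
  obtain ⟨σ, -, hσ⟩ := exists_ne_zero_of_sum_ne_zero (hc 1 ▸ hf)
  have hσ' : c σ ≠ 0 := left_ne_zero_of_mul hσ
  have e : ∀ a, f a = c σ * σ a := fun a => by
    rw [hc, sum_eq_single σ (fun ρ _ n => by
      rw [not_not.1 fun e => n (hk ρ σ e hσ'), zero_mul]) (by simp)]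
  refine ⟨Units.mk0 _ hσ', σ, e, fun b => ?_⟩
  obtain ⟨a, rfl⟩ := mul_θ_surj b
  rw [mul_comm a, h, e, map_mul, map_mul, comm, Units.val_mk0]
  ring

variable {S : Type*} [Group S] [Finite S]

/-- coordinates on `S` -/
structure Co (F : Type*) [Field F] [Tits F] (S : Type*) [Group S] where
  U : F → F → S
  c1 : S → F
  c2 : S → F
  mul : ∀ a b c d, U a b * U c d = U (a + c) (b + d + θ a * c)
  eta : ∀ s, U (c1 s) (c2 s) = s
  c1U : ∀ a b, c1 (U a b) = a
  c2U : ∀ a b, c2 (U a b) = b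

namespace Co

variable (C : Co F S)

theorem inj {a b c d : F} (h : C.U a b = C.U c d) : a = c ∧ b = d :=
  ⟨by rw [← C.c1U a b, h, C.c1U], by rw [← C.c2U a b, h, C.c2U]⟩

theorem surj (s : S) : ∃ a b, s = C.U a b := ⟨_, _, (C.eta s).symm⟩

theorem U_zero : C.U 0 0 = 1 := by
  have := C.mul 0 0 0 0
  simpa using this

theorem sq_eq_one {a b : F} : C.U a b * C.U a b = 1 ↔ a = 0 := by
  rw [C.mul, ← C.U_zero]
  constructor
  · intro e
    have := (C.inj e).2
    rw [CharTwo.add_self_eq_zero, zero_add, mul_eq_zero] at this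
    exact this.elim (fun h => θ_inj (by rw [h, map_zero])) id
  · rintro rfl
    simp [CharTwo.add_self_eq_zero]

variable {e : ℕ} (hθ : ∀ x : F, θ x = x ^ e)

/-- the automorphism with the given parameters -/
noncomputable def mk' (p : (Fˣ × (F ≃ₐ[ZMod 2] F)) × (F →+ F)) : MulAut S :=
  MulEquiv.ofBijective (MonoidHom.mk'
    (fun s => C.U (p.1.1 * p.1.2 (C.c1 s)) (θ (p.1.1 : F) * p.1.1 * p.1.2 (C.c2 s) + p.2 (C.c1 s)))
    fun s t => by
      obtain ⟨a, b, rfl⟩ := C.surj s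
      obtain ⟨c, d, rfl⟩ := C.surj t
      simp only [C.mul, C.c1U, C.c2U, map_add, map_mul]
      rw [show p.1.2 (θ a) = θ (p.1.2 a) by rw [hθ, hθ, map_pow]]
      congr 1 <;> ring)
    (Finite.injective_iff_bijective.1 ((injective_iff_map_eq_one _).2 fun s hs => by
      obtain ⟨a, b, rfl⟩ := C.surj s
      simp only [MonoidHom.mk'_apply, C.c1U, C.c2U] at hs
      obtain ⟨h1, h2⟩ := C.inj (hs.trans C.U_zero.symm)
      have ha : a = 0 := by simpa using h1
      subst ha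
      have hb : b = 0 := by simpa using h2
      rw [hb, C.U_zero]))

theorem mk'_U (p : (Fˣ × (F ≃ₐ[ZMod 2] F)) × (F →+ F)) (a b : F) :
    C.mk' hθ p (C.U a b) = C.U (p.1.1 * p.1.2 a) (θ (p.1.1 : F) * p.1.1 * p.1.2 b + p.2 a) := by
  simp [mk', C.c1U, C.c2U]

theorem mk'_inj : Function.Injective (C.mk' hθ) := by
  rintro ⟨⟨l, σ⟩, h⟩ ⟨⟨l', σ'⟩, h'⟩ e
  have e1 : ∀ a, (l : F) * σ a = l' * σ' a ∧ h a = h' a := fun a => by
    have := DFunLike.congr_fun e (C.U a 0)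
    rw [mk'_U, mk'_U] at this
    simpa using C.inj this
  have e2 : l = l' := Units.ext (by simpa using (e1 1).1)
  subst e2
  rw [show σ = σ' from AlgEquiv.ext fun a => mul_left_cancel₀ l.ne_zero (e1 a).1,
    show h = h' from AddMonoidHom.ext fun a => (e1 a).2]

theorem mk'_surj {n : ℕ} (hF : Nat.card F = 2 ^ n) (hn : 3 ≤ n) :
    Function.Surjective (C.mk' hθ) := by
  intro φ
  have z : ∀ b, C.c1 (φ (C.U 0 b)) = 0 := fun b => by
    rw [← C.sq_eq_one (b := C.c2 (φ (C.U 0 b))), C.eta, ← map_mul, C.sq_eq_one.2 rfl, map_one]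
  have hz : ∀ b, φ (C.U 0 b) = C.U 0 (C.c2 (φ (C.U 0 b))) := fun b => by
    conv_lhs => rw [← C.eta (φ _), z]
  let g : F →+ F := AddMonoidHom.mk' (fun b => C.c2 (φ (C.U 0 b))) fun b d => by
    have := C.mul 0 b 0 d
    simp only [add_zero, mul_zero] at this
    rw [← this, map_mul, hz b, hz d, C.mul, C.c2U, C.c2U, C.c2U]
    simp
  have hg : ∀ b, φ (C.U 0 b) = C.U 0 (g b) := hz
  have hU : ∀ a b, φ (C.U a b) = C.U (C.c1 (φ (C.U a 0))) (C.c2 (φ (C.U a 0)) + g b) := fun a b => by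
    have := C.mul a 0 0 b
    simp only [add_zero, mul_zero, zero_add] at this
    rw [← this, map_mul, hg, ← C.eta (φ (C.U a 0)), C.mul, C.c1U, C.c2U]
    simp
  have rel : ∀ a c, C.c1 (φ (C.U (a + c) 0)) = C.c1 (φ (C.U a 0)) + C.c1 (φ (C.U c 0)) ∧
      C.c2 (φ (C.U (a + c) 0)) + g (θ a * c) = C.c2 (φ (C.U a 0)) + C.c2 (φ (C.U c 0)) +
        θ (C.c1 (φ (C.U a 0))) * C.c1 (φ (C.U c 0)) := fun a c => by
    have := congrArg φ (C.mul a 0 c 0)
    rw [map_mul, ← C.eta (φ (C.U a 0)), ← C.eta (φ (C.U c 0)), C.mul, hU (a + c)] at this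
    simpa using C.inj this.symm
  let f : F →+ F := AddMonoidHom.mk' (fun a => C.c1 (φ (C.U a 0))) fun a c => (rel a c).1
  have f1 : f 1 ≠ 0 := fun e => by
    have : φ (C.U 1 0) * φ (C.U 1 0) = 1 := by
      rw [← C.eta (φ (C.U 1 0))]; exact C.sq_eq_one.2 e
    rw [← map_mul, map_eq_one_iff _ φ.injective, C.sq_eq_one] at this
    exact one_ne_zero this
  have h0 : C.c2 (φ (C.U 0 0)) = 0 := by rw [hg, C.c2U, map_zero]
  obtain ⟨l, σ, hf, hg'⟩ := semi hF hn hθ f g f1 fun a => by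
    have := (rel a a).2
    rwa [CharTwo.add_self_eq_zero, CharTwo.add_self_eq_zero, h0, zero_add, zero_add] at this
  let h : F →+ F := AddMonoidHom.mk' (fun a => C.c2 (φ (C.U a 0))) fun a c => by
    have := (rel a c).2
    have e1 : C.c1 (φ (C.U a 0)) = l * σ a := hf a
    have e2 : C.c1 (φ (C.U c 0)) = l * σ c := hf c
    rw [e1, e2, hg', map_mul, map_mul, show σ (θ a) = θ (σ a) by rw [hθ, hθ, map_pow]] at this
    linear_combination this
  refine ⟨((l, σ), h), MulEquiv.ext fun s => ?_⟩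
  obtain ⟨a, b, rfl⟩ := C.surj s
  rw [mk'_U, hU, ← hf, ← hg', add_comm]
  rfl

include C hθ in
theorem main {n : ℕ} (hF : Nat.card F = 2 ^ n) (hn : 3 ≤ n) (ho : Odd n) :
    Cfsg.IsElementaryAbelian 2 (Cfsg.pCore 2 (MulAut S)) ∧
      Nat.card ↥(Cfsg.pCore 2 (MulAut S)) = 2 ^ n ^ 2 ∧
      Nat.card (MulAut S) = 2 ^ n ^ 2 * (n * (2 ^ n - 1)) := by
  haveI : Fact (Nat.Prime 2) := ⟨Nat.prime_two⟩
  have hs := C.mk'_surj hθ hF hn
  have tot : Nat.card (MulAut S) = 2 ^ n ^ 2 * (n * (2 ^ n - 1)) := by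
    rw [← Nat.card_eq_of_bijective _ ⟨C.mk'_inj hθ, hs⟩, Nat.card_prod, Nat.card_prod,
      Nat.card_units, card_hom hF, card_gal hF, hF]
    ring
  have c1φ : ∀ (φ : MulAut S) s t, C.c1 s = C.c1 t → C.c1 (φ s) = C.c1 (φ t) := fun φ s t e => by
    obtain ⟨p, rfl⟩ := hs φ
    rw [← C.eta s, ← C.eta t, mk'_U, mk'_U, C.c1U, C.c1U, e]
  let K : Subgroup (MulAut S) :=
    { carrier := {φ | ∀ s, C.c1 (φ s) = C.c1 s}
      one_mem' := fun s => rfl
      mul_mem' := fun {φ ψ} h1 h2 s => by rw [MulAut.mul_apply, h1, h2]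
      inv_mem' := fun {φ} h s => by rw [← h (φ⁻¹ s)]; simp }
  have Kn : K.Normal := ⟨fun k hk φ s => by
    rw [MulAut.mul_apply, MulAut.mul_apply, c1φ φ _ _ (hk _)]; simp⟩
  let ι : (F →+ F) → K := fun h => ⟨C.mk' hθ ((1, 1), h), fun s => by
    conv_lhs => rw [← C.eta s, mk'_U, C.c1U]
    simp⟩
  have ιs : Function.Surjective ι := by
    rintro ⟨φ, hφ⟩
    obtain ⟨⟨⟨l, σ⟩, h⟩, rfl⟩ := hs φ
    have e1 : ∀ a, (l : F) * σ a = a := fun a => by
      have := hφ (C.U a 0)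
      rwa [mk'_U, C.c1U, C.c1U] at this
    have e2 : l = 1 := Units.ext (by simpa using e1 1)
    subst e2
    have e3 : σ = 1 := AlgEquiv.ext fun a => by simpa using e1 a
    subst e3
    exact ⟨h, rfl⟩
  have cK : Nat.card K = 2 ^ n ^ 2 := by
    rw [← Nat.card_eq_of_bijective ι ⟨fun h h' e => ?_, ιs⟩, card_hom hF]
    exact (Prod.ext_iff.1 (C.mk'_inj hθ (congrArg Subtype.val e))).2
  have ιm : ∀ h h', ι h * ι h' = ι (h + h') := fun h h' => Subtype.ext (MulEquiv.ext fun s => by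
    obtain ⟨a, b, rfl⟩ := C.surj s
    simp only [ι, Subgroup.coe_mul, MulAut.mul_apply, mk'_U]
    congr 1 <;> simp
    ring)
  have pK : IsPGroup 2 K := IsPGroup.of_card cK
  have idx : K.index = n * (2 ^ n - 1) := by
    have := K.card_mul_index
    rw [tot, cK] at this
    exact Nat.eq_of_mul_eq_mul_left (by positivity) this
  have e : Cfsg.pCore 2 (MulAut S) = K := by
    refine le_antisymm (H72.pCore_le_sylow (pK.toSylow ?_)) (H72.le_pCore Kn pK)
    rw [idx, ← even_iff_two_dvd, Nat.not_even_iff_odd]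
    exact ho.mul (Nat.Even.sub_odd (Nat.one_le_two_pow) (Nat.even_pow.2 ⟨even_two, by omega⟩) odd_one)
  rw [e]
  refine ⟨⟨⟨⟨fun x y => ?_⟩⟩, fun φ hφ => ?_⟩, cK, tot⟩
  · obtain ⟨h, rfl⟩ := ιs x
    obtain ⟨h', rfl⟩ := ιs y
    rw [ιm, ιm, add_comm]
  · obtain ⟨h, e⟩ := ιs ⟨φ, hφ⟩
    have e1 := congrArg Subtype.val (ιm h h)
    rw [e] at e1
    rw [sq]
    refine e1.trans (MulEquiv.ext fun s => ?_)
    obtain ⟨a, b, rfl⟩ := C.surj s
    simp [ι, mk'_U, CharTwo.add_self_eq_zero]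

end Co

end Cfsg.Agent.H13.AutS
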