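import Cfsg.Agent.H13.SzConj
import Cfsg.Agent.H5.Linear
import Cfsg.Agent.H6.IndRep
import Cfsg.Agent.H53.Virtual

/-!
Class sums and induced characters for a Suzuki group.
-/

set_option autoImplicit false

namespace Cfsg.Agent.H13

open Matrix Cfsg
open scoped ComplexConjugate Classical

set_option linter.style.haveILetI false
set_option linter.unusedSectionVars false

section General
variable {G : Type*} [Group G] [Fintype G]

theorem indFun_eq_sum (K : Subgroup G) {φ : K → ℂ} (hφ : IsClassFunction K φ) (x : G) {ι : Type*}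
    [Fintype ι] (t : ι → G) (h2 : ∀ i j, t i * (t j)⁻¹ ∈ K → i = j)
    (h3 : ∀ g, g * x * g⁻¹ ∈ K → ∃ i, g * (t i)⁻¹ ∈ K) :
    indFun K φ x = ∑ i, extendByZero K φ (t i * x * (t i)⁻¹) := by
  rw [H6.indFun_apply', ← Fintype.sum_of_injective (fun p : ι × K => (p.2 : G) * t p.1) ?_
    (fun p => extendByZero K φ (t p.1 * x * (t p.1)⁻¹))]
  · rw [Fintype.sum_prod_type]
    simp only [Finset.sum_const, Finset.card_univ, nsmul_eq_mul, ← Finset.mul_sum,
      ← Nat.card_eq_fintype_card]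
    rw [inv_mul_cancel_left₀ (H6.card_ne_zero_complex K)]
  · intro g hg
    refine H6.extendByZero_of_notMem _ _ fun h => hg ?_
    obtain ⟨i, hi⟩ := h3 g h
    exact ⟨(i, ⟨_, hi⟩), by simp⟩
  · rintro ⟨i, k⟩
    rw [← H6.extendByZero_conj_mem K hφ k.2]; congr 1; group
  · rintro ⟨i, k⟩ ⟨j, l⟩ h
    have e : (k : G) * t i = l * t j := h
    obtain rfl : i = j := h2 _ _ (by
      convert K.mul_mem (K.inv_mem k.2) l.2 using 1
      calc _ = (k : G)⁻¹ * (k * t i) * (t j)⁻¹ := by group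
        _ = _ := by rw [e]; group)
    rw [Subtype.ext (mul_right_cancel e)]

theorem indFun_eq_zero_of_coprime {K L : Subgroup G} (h : (Nat.card L).Coprime (Nat.card K))
    (φ : K → ℂ) {x : G} (hx : x ∈ L) (h1 : x ≠ 1) : indFun K φ x = 0 :=
  H6.indFun_eq_zero_of_forall_conj_notMem K φ fun g hg => h1 (orderOf_eq_one_iff.1
    (Nat.eq_one_of_dvd_coprimes h (L.orderOf_dvd_natCard hx)
      (orderOf_conj'' g x ▸ K.orderOf_dvd_natCard hg)))

theorem sum_hom_mul_conj {ι : Type*} [Fintype ι] (θ : ι → G →* ℂˣ) (h : Function.Injective θ) :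
    ∑ a, (∑ i, (θ i a : ℂ)) * conj (∑ i, (θ i a : ℂ)) = Fintype.card ι * Nat.card G := by
  have key : ∀ i j, ∑ a, (θ i a : ℂ) * conj (θ j a : ℂ) = if i = j then (Nat.card G : ℂ) else 0 := by
    intro i j
    have := H5.classInner_monoidHom (θ i) (θ j)
    rw [classInner, inv_mul_eq_iff_eq_mul₀ (H6.card_ne_zero_complex G)] at this
    rw [this]; simp [h.eq_iff]
  simp only [map_sum, Finset.sum_mul_sum]
  rw [Finset.sum_comm]
  simp only [Finset.sum_comm (s := (Finset.univ : Finset G)), key]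
  simp

theorem irr_of_sum {χ : G → ℂ} (h : IsGeneralizedCharacter G χ)
    (h1 : ∑ g, χ g * conj (χ g) = Nat.card G) {d : ℕ} (hd : χ 1 = d) : IsIrrCharacter G χ :=
  H53.irr_of_virt_norm_one h (H53.ip_of_ci (r := 1) (by
    rw [classInner, h1, inv_mul_cancel₀ (H6.card_ne_zero_complex G)]; simp)) (by simp [hd])

/-- The function that is `0` at the identity and `1` elsewhere. -/
noncomputable def punct (K : Type*) [Group K] : K → ℂ := fun k => if k = 1 then 0 else 1

omit [Fintype G] in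
theorem punct_class : IsClassFunction G (punct G) := fun g h => by simp [punct]

theorem sum_indFun_punct (K : Subgroup G) {f : G → ℂ} (hf : IsClassFunction G f) :
    Nat.card K * ∑ g, indFun K (punct K) g * f g = Nat.card G * (∑ k : K, f k - f 1) := by
  have := H6.sum_indFun_mul K (punct K) hf
  have e : ∑ k : K, punct K k * f k = ∑ k : K, f k - f 1 := by
    rw [eq_sub_iff_add_eq, ← Finset.add_sum_erase _ _ (Finset.mem_univ (1 : K)),
      ← Finset.add_sum_erase _ (fun k : K => f k) (Finset.mem_univ (1 : K)), add_comm,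
      Finset.sum_congr rfl (g := fun k : K => f k) fun k hk => by
        simp [punct, Finset.ne_of_mem_erase hk]]
    simp [punct]
  rw [e] at this
  have h1 := H6.card_ne_zero_complex G
  have h2 := H6.card_ne_zero_complex K
  field_simp at this
  linear_combination this

theorem indFun_punct (K : Subgroup G) {x : G} (hx : x ≠ 1) {ι : Type*}
    [Fintype ι] (t : ι → G) (h1 : ∀ i, t i * x * (t i)⁻¹ ∈ K) (h2 : ∀ i j, t i * (t j)⁻¹ ∈ K → i = j)
    (h3 : ∀ g, g * x * g⁻¹ ∈ K → ∃ i, g * (t i)⁻¹ ∈ K) :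
    indFun K (punct K) x = Fintype.card ι := by
  rw [indFun_eq_sum K punct_class x t h2 h3, Finset.sum_congr rfl (g := fun _ => 1) fun i _ => by
    rw [H6.extendByZero_of_mem _ _ (h1 i)]; simp [punct, hx]]
  simp

theorem indFun_punct_one (K : Subgroup G) : indFun K (punct K) 1 = 0 := by
  rw [H6.indFun_apply_one]; simp [punct]

end General

namespace Model

namespace IsTorus
variable {G : Type*} [Group G] {m n : ℕ} {A : Subgroup G} {x c : G} (T : IsTorus m n A x c)
include T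

theorem tr_inj (i j : Fin 4) (h : c ^ (i : ℕ) * (c ^ (j : ℕ))⁻¹ ∈ A) : i = j := by
  rcases lt_trichotomy (i : ℕ) j with h1 | h1 | h1
  · refine absurd ?_ (T.c_pow_not_mem (i := j - i) (by omega) (by omega))
    rw [pow_sub _ h1.le]; simpa using A.inv_mem h
  · exact Fin.ext h1
  · refine absurd ?_ (T.c_pow_not_mem (i := i - j) (by omega) (by omega))
    rwa [pow_sub _ h1.le]

theorem tr_surj {y : G} (hy : y ∈ A) (h1 : y ≠ 1) (g : G) (hg : g * y * g⁻¹ ∈ A) :
    ∃ i : Fin 4, g * (c ^ (i : ℕ))⁻¹ ∈ A := by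
  obtain ⟨i, a, ha, rfl⟩ := T.mem_normalizer_iff.1 (T.isCC.mem_normalizer hy h1 hg)
  exact ⟨i, T.c_conj_mem i ha⟩

end IsTorus

variable {G F : Type*} [Group G] [Field F] [Tits F] (M : Model G F) [Fintype G] [Fintype F]

theorem sum_U (f : G → ℂ) : ∑ x : M.U, f x = ∑ a, ∑ b, f (M.u a b) := by
  rw [← Fintype.sum_prod_type']
  refine (Fintype.sum_bijective (fun p : F × F => (⟨M.u p.1 p.2, M.u_mem_U _ _⟩ : M.U))
    ⟨fun p q h => ?_, ?_⟩ _ _ fun _ => rfl).symm
  · exact Prod.ext_iff.2 (M.u_inj.1 (Subtype.mk.inj h))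
  · rintro ⟨_, a, b, rfl⟩; exact ⟨(a, b), rfl⟩

theorem sum_H (f : G → ℂ) : ∑ x : M.H, f x = ∑ s, f (M.h s) := by
  refine (Fintype.sum_bijective (fun s => (⟨M.h s, M.h_mem_H _⟩ : M.H))
    ⟨fun p q h => M.h_inj.1 (Subtype.mk.inj h), ?_⟩ _ _ fun _ => rfl).symm
  rintro ⟨_, s, rfl⟩; exact ⟨s, rfl⟩

theorem sum_B (f : M.B → ℂ) : ∑ x : M.B, f x =
    ∑ s, ∑ a, ∑ b, f ⟨M.u a b * M.h s, M.B.mul_mem (M.u_mem_B _ _) (M.h_mem_B _)⟩ := by
  simp only [← Fintype.sum_prod_type']
  refine (Fintype.sum_bijective (fun p : Fˣ × F × F => (⟨M.u p.2.1 p.2.2 * M.h p.1,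
    M.B.mul_mem (M.u_mem_B _ _) (M.h_mem_B _)⟩ : M.B)) ⟨fun p q h => ?_, ?_⟩ _ _ fun _ => rfl).symm
  · obtain ⟨h1, h2, h3⟩ := M.u_mul_h_inj (Subtype.mk.inj h)
    exact Prod.ext h3 (Prod.ext h1 h2)
  · rintro ⟨x, hx⟩
    obtain ⟨a, b, s, rfl⟩ := M.mem_B'.1 hx
    exact ⟨(s, a, b), rfl⟩

theorem U_tr_inj (s t : Fˣ) (h : M.h s * (M.h t)⁻¹ ∈ M.U) : s = t := by
  obtain ⟨a, b, e⟩ := h
  rw [← h_inv, ← h_mul] at e
  have := M.u_mul_h_inj (a := 0) (b := 0) (c := a) (d := b) (s := s * t⁻¹) (t := 1) (by simp [e])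
  exact mul_inv_eq_one.1 this.2.2

theorem U_tr_surj {x : G} (hx : x ∈ M.U) (h1 : x ≠ 1) (g : G) (hg : g * x * g⁻¹ ∈ M.U) :
    ∃ s, g * (M.h s)⁻¹ ∈ M.U := by
  obtain ⟨a, b, s, rfl⟩ := M.mem_B'.1 (M.mem_B_of_conj_mem_B hx h1 (M.U_le_B hg))
  exact ⟨s, by simpa using M.u_mem_U a b⟩

theorem indFun_U {φ : M.U → ℂ} (hφ : IsClassFunction _ φ) {a b : F} (h1 : M.u a b ≠ 1) :
    indFun M.U φ (M.u a b) =
      ∑ s : Fˣ, φ ⟨M.u (θ (s : F) * a) ((s : F) ^ 2 * θ (s : F) * b), M.u_mem_U _ _⟩ := by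
  rw [indFun_eq_sum M.U hφ _ M.h M.U_tr_inj (M.U_tr_surj (M.u_mem_U a b) h1)]
  exact Finset.sum_congr rfl fun s _ => by rw [h_u_conj, H6.extendByZero_of_mem]

variable {m : ℕ} (Q : Par F m)
include Q

theorem sum_U_class {f : G → ℂ} (hf : IsClassFunction G f) :
    2 * ∑ a, ∑ b, f (M.u a b) = 2 * f 1 + 2 * ((Fintype.card F : ℂ) - 1) * f (M.u 0 1) +
      ((Fintype.card F : ℂ) - 1) * Fintype.card F * (f (M.u 1 0) + f (M.u 1 1)) := by
  have hc : ∀ {x y}, IsConj x y → f x = f y := H5.isClassFunction_apply_of_isConj hf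
  have h0 : ∑ b, f (M.u 0 b) = f 1 + ((Fintype.card F : ℂ) - 1) * f (M.u 0 1) := by
    rw [← Finset.add_sum_erase _ _ (Finset.mem_univ 0), u_zero,
      Finset.sum_congr rfl (g := fun _ => f (M.u 0 1)) fun b hb => by
        obtain ⟨g, hg⟩ := M.exists_conj_u01 (x := M.u 0 b)
          (by simp [M.u_eq_one, Finset.ne_of_mem_erase hb]) (by simp [M.u_sq])
        rw [hg, hf]]
    simp [Nat.cast_pred Fintype.card_pos]
  have h1 : ∀ a, a ≠ 0 → 2 * ∑ b, f (M.u a b) = Fintype.card F * (f (M.u 1 0) + f (M.u 1 1)) := by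
    intro a ha
    rw [← Equiv.sum_comp (Equiv.mulLeft₀ (a * θ a) (mul_ne_zero ha (θ_ne_zero ha))), Finset.mul_sum,
      Finset.sum_congr rfl (g := fun e => f (M.u 1 0) + f (M.u 1 1) +
        sgn m e * (f (M.u 1 0) - f (M.u 1 1))) fun e _ => by
        rw [Equiv.mulLeft₀_apply, ← hc (M.isConj_u_scale ha e)]
        rcases Q.absTr_mem e with h | h
        · rw [sgn_of_zero h, hc (M.isConj_u_of_absTr Q (e' := 0) (by rw [h, absTr_zero]))]; ring
        · rw [sgn_of_one h, hc (M.isConj_u_of_absTr Q (e' := 1) (by rw [h, absTr_one]))]; ring,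
      Finset.sum_add_distrib, ← Finset.sum_mul, Q.sum_sgn]
    simp [mul_add]
  rw [← Finset.add_sum_erase _ _ (Finset.mem_univ 0), mul_add, h0, Finset.mul_sum,
    Finset.sum_congr rfl fun a ha => h1 a (Finset.ne_of_mem_erase ha)]
  simp [Nat.cast_pred Fintype.card_pos]
  ring

theorem coprime_U {A : Subgroup G} (hA : Part m A) : (Nat.card A).Coprime (Nat.card M.U) := by
  rw [M.card_U, Q.card]
  exact ((hA.odd Q).coprime_two_right.pow_right _).pow_right _

theorem coprime_H {n : ℕ} (hn : n = np m ∨ n = nm m) : n.Coprime (Nat.card M.H) := by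
  rw [M.card_H, Q.card]
  rcases hn with rfl | rfl
  · exact (Model.coprime_H_np Q).symm
  · exact (Model.coprime_H_nm Q).symm

theorem coprime_B {n : ℕ} (hn : n = np m ∨ n = nm m) : n.Coprime (Nat.card M.B) := by
  rw [M.card_B, ← M.card_H, Q.card]
  exact (((odd_of_n hn).coprime_two_right.pow_right _).pow_right _).mul_right (M.coprime_H Q hn)

omit Q in
theorem H_tr_inj (i j : Bool) (h : (cond i M.w 1) * (cond j M.w 1)⁻¹ ∈ M.B) : i = j := by
  cases i <;> cases j <;> simp [M.w_not_mem_B] at h ⊢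

omit Q in
theorem H_tr_surj {x : G} (hx : x ∈ M.H) (h1 : x ≠ 1) (g : G) (hg : g * x * g⁻¹ ∈ M.H) :
    ∃ i : Bool, g * (cond i M.w 1)⁻¹ ∈ M.H := by
  obtain ⟨s, rfl⟩ := M.mem_H.1 hx
  rcases M.mem_H_or_of_conj (by simpa [h_eq_one] using h1) hg with h | h
  · exact ⟨false, by simpa using h⟩
  · refine ⟨true, ?_⟩
    simpa [mul_assoc] using (Subgroup.mem_normalizer_iff.1 M.w_mem_normalizer_H _).1 h

/-- Summation of a class function over the partition. -/
theorem sum_class {A A' : Subgroup G} {x c x' c' : G} (T : IsTorus m (np m) A x c)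
    (T' : IsTorus m (nm m) A' x' c') {f : G → ℂ} (hf : IsClassFunction G f) :
    4 * ∑ g, f g = 4 * f 1 + 2 * (np m * nm m) * (2 * ((Fintype.card F : ℂ) - 1) * f (M.u 0 1) +
      ((Fintype.card F : ℂ) - 1) * Fintype.card F * (f (M.u 1 0) + f (M.u 1 1))) +
      2 * (Fintype.card F : ℂ) ^ 2 * (np m * nm m) * (∑ s, f (M.h s) - f 1) +
      (Fintype.card F : ℂ) ^ 2 * ((Fintype.card F : ℂ) - 1) * nm m * (∑ a : A, f a - f 1) +
      (Fintype.card F : ℂ) ^ 2 * ((Fintype.card F : ℂ) - 1) * np m * (∑ a : A', f a - f 1) := by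
  have p := part_T (Or.inl rfl) T
  have p' := part_T (Or.inr rfl) T'
  have pH := part_H M Q
  have cH := T.card ▸ M.coprime_H Q (Or.inl rfl)
  have cH' := T'.card ▸ M.coprime_H Q (Or.inr rfl)
  have cA : (Nat.card A).Coprime (Nat.card A') := by rw [T.card, T'.card]; exact coprime_np_nm m
  have hq : ((Fintype.card Fˣ : ℕ) : ℂ) = (Fintype.card F : ℂ) - 1 := by
    rw [Fintype.card_units, Nat.cast_pred Fintype.card_pos]
  have key : ∀ g, 4 * ((Fintype.card F : ℂ) - 1) = 4 * ((Fintype.card F : ℂ) - 1) * (if g = 1 then 1 else 0) +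
      4 * indFun M.U (punct _) g + ((Fintype.card F : ℂ) - 1) * (2 * indFun M.H (punct _) g +
      indFun A (punct _) g + indFun A' (punct _) g) := by
    intro g
    by_cases h1 : g = 1
    · simp [h1, indFun_punct_one]
    obtain ⟨k, hk⟩ := M.classify Q T T' g
    rw [if_neg h1, ← H6.indFun_isClassFunction M.U _ g k, ← H6.indFun_isClassFunction M.H _ g k,
      ← H6.indFun_isClassFunction A _ g k, ← H6.indFun_isClassFunction A' _ g k]
    have h2 : k * g * k⁻¹ ≠ 1 := by simpa using h1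
    generalize k * g * k⁻¹ = y at hk h2
    rcases hk with h | h | h | h
    · rw [indFun_punct M.U h2 M.h (fun s => M.conj_mem_U (M.h_mem_B s) h) M.U_tr_inj (M.U_tr_surj h h2),
        indFun_eq_zero_of_coprime (M.coprime_U Q pH).symm _ h h2,
        indFun_eq_zero_of_coprime (M.coprime_U Q p).symm _ h h2,
        indFun_eq_zero_of_coprime (M.coprime_U Q p').symm _ h h2, hq]
      ring
    · rw [indFun_punct M.H h2 (fun i : Bool => cond i M.w 1) (fun i => by
          cases i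
          · simpa using h
          · exact (Subgroup.mem_normalizer_iff.1 M.w_mem_normalizer_H _).1 h)
          (fun i j hij => M.H_tr_inj i j (M.H_le_B hij)) (M.H_tr_surj h h2),
        indFun_eq_zero_of_coprime (M.coprime_U Q pH) _ h h2,
        indFun_eq_zero_of_coprime cH.symm _ h h2, indFun_eq_zero_of_coprime cH'.symm _ h h2]
      simp; ring
    · rw [indFun_punct A h2 (fun i : Fin 4 => c ^ (i : ℕ)) (fun i => T.c_conj_mem i h) T.tr_inj
          (T.tr_surj h h2), indFun_eq_zero_of_coprime (M.coprime_U Q p) _ h h2,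
        indFun_eq_zero_of_coprime cH _ h h2, indFun_eq_zero_of_coprime cA _ h h2]
      simp; ring
    · rw [indFun_punct A' h2 (fun i : Fin 4 => c' ^ (i : ℕ)) (fun i => T'.c_conj_mem i h) T'.tr_inj
          (T'.tr_surj h h2), indFun_eq_zero_of_coprime (M.coprime_U Q p') _ h h2,
        indFun_eq_zero_of_coprime cH' _ h h2, indFun_eq_zero_of_coprime cA.symm _ h h2]
      simp; ring
  have e0 : 4 * ((Fintype.card F : ℂ) - 1) * ∑ g, f g = 4 * ((Fintype.card F : ℂ) - 1) * f 1 +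
      4 * ∑ g, indFun M.U (punct _) g * f g + ((Fintype.card F : ℂ) - 1) *
      (2 * ∑ g, indFun M.H (punct _) g * f g + ∑ g, indFun A (punct _) g * f g +
        ∑ g, indFun A' (punct _) g * f g) := by
    rw [Finset.mul_sum, Finset.sum_congr rfl fun g _ => by rw [key g]]
    simp only [add_mul, mul_add, mul_assoc, Finset.sum_add_distrib, ← Finset.mul_sum]
    simp
  have e1 := sum_indFun_punct M.U hf
  have e2 := sum_indFun_punct M.H hf
  have e3 := sum_indFun_punct A hf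
  have e4 := sum_indFun_punct A' hf
  have e5 := M.sum_U_class Q hf
  have h8 := Q.eight_le
  have hG : (Nat.card G : ℂ) = (Fintype.card F : ℂ) ^ 2 * ((Fintype.card F : ℂ) - 1) * np m * nm m := by
    rw [M.card_G' Q, ← Q.card, Nat.card_eq_fintype_card]
    push_cast [Nat.cast_pred Fintype.card_pos]; rfl
  rw [hG] at e1 e2 e3 e4
  rw [M.sum_U, M.card_U, Nat.card_eq_fintype_card, Nat.cast_pow] at e1
  rw [M.sum_H, M.card_H, Nat.card_eq_fintype_card, Nat.cast_pred Fintype.card_pos] at e2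
  rw [T.card] at e3
  rw [T'.card] at e4
  have n0 : (Fintype.card F : ℂ) ≠ 0 := by simp
  have n1 : (Fintype.card F : ℂ) - 1 ≠ 0 := by rw [← hq]; simp
  have n2 : (np m : ℂ) ≠ 0 := by have := nm_lt_np m; norm_cast; omega
  have n3 : (nm m : ℂ) ≠ 0 := by have := five_le_nm Q.hm; norm_cast; omega
  rw [mul_assoc, mul_assoc, mul_assoc, mul_right_inj' (pow_ne_zero 2 n0)] at e1
  rw [mul_comm (_ ^ 2), mul_assoc, mul_assoc, mul_assoc, mul_right_inj' n1] at e2
  rw [mul_comm _ (np m : ℂ), mul_assoc, mul_assoc, mul_right_inj' n2] at e3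
  rw [mul_comm _ (nm m : ℂ), mul_assoc, mul_right_inj' n3] at e4
  rw [e1, e2, e3, e4] at e0
  apply mul_left_cancel₀ n1
  linear_combination e0 + 2 * ((Fintype.card F : ℂ) - 1) * np m * nm m * e5

end Model

end Cfsg.Agent.H13
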