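import Cfsg.Agent.H13.SzChar

/-!
The irreducible characters of a Suzuki group.
-/

set_option autoImplicit false

namespace Cfsg.Agent.H13

open Matrix Cfsg
open scoped ComplexConjugate Classical

set_option linter.style.haveILetI false
set_option linter.unusedSectionVars false

section General
variable {G : Type*} [Group G] [Fintype G]

theorem sum_sub_congr (g g' : G → ℂ) (h : ∀ a, a ≠ 1 → g a = g' a) :
    ∑ a, g a - g 1 = ∑ a, g' a - g' 1 := by
  rw [← Finset.add_sum_erase _ g (Finset.mem_univ 1), ← Finset.add_sum_erase _ g' (Finset.mem_univ 1),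
    Finset.sum_congr rfl fun a ha => h a (Finset.ne_of_mem_erase ha)]
  ring

theorem exists_hom_ne_one (hc : ∀ a b : G, a * b = b * a) {a : G} (ha : a ≠ 1) :
    ∃ l : G →* ℂˣ, l ≠ 1 := by
  by_contra h
  push Not at h
  refine ha (H5.eq_one_of_forall_irr fun χ hχ => ?_)
  obtain ⟨l, rfl⟩ := H5.exists_monoidHom_of_comm hc hχ
  simp [h l]

theorem eq_zero_of_forall_hom (hc : ∀ a b : G, a * b = b * a) {f : G → ℂ}
    (h : ∀ l : G →* ℂˣ, ∑ a, f a * conj (l a : ℂ) = 0) : f = 0 := by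
  refine H5.eq_zero_of_forall_classInner_irr (fun a b => by rw [hc b]; simp) fun χ hχ => ?_
  obtain ⟨l, rfl⟩ := H5.exists_monoidHom_of_comm hc hχ
  rw [classInner, h, mul_zero]

theorem sum_conj_hom {l : G →* ℂˣ} (h : l ≠ 1) : ∑ a, conj (l a : ℂ) = 0 := by
  have := H5.classInner_monoidHom 1 l
  simpa [classInner, h.symm] using this

/-- A character of an abelian group with constant multiplicities on the non-trivial linear
characters. -/
theorem const_of_inner (hc : ∀ a b : G, a * b = b * a) {χ : G → ℂ} (hχ : IsCharacter G χ) {c : ℤ}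
    (h : ∀ l : G →* ℂˣ, l ≠ 1 → classInner χ (fun a => (l a : ℂ)) = c) :
    ∃ y : ℤ, χ 1 = c * Nat.card G + y ∧ ∀ a, a ≠ 1 → χ a = y := by
  obtain ⟨k, hk⟩ := H5.exists_nat_classInner hχ H5.isCharacter_one
  have n0 := H6.card_ne_zero_complex G
  have := eq_zero_of_forall_hom hc
    (f := fun a => χ a - (if a = 1 then (c : ℂ) * Nat.card G else 0) - (k - c)) fun l => by
      simp only [sub_mul, Finset.sum_sub_distrib, ite_mul, zero_mul, Finset.sum_ite_eq',
        Finset.mem_univ, if_true, ← Finset.mul_sum]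
      by_cases hl : l = 1
      · subst hl
        rw [classInner, inv_mul_eq_iff_eq_mul₀ n0] at hk
        simp at hk ⊢
        rw [hk]; ring
      · have h2 := h l hl
        rw [classInner, inv_mul_eq_iff_eq_mul₀ n0] at h2
        rw [h2, sum_conj_hom hl]; simp; ring
  refine ⟨k - c, ?_, fun a ha => ?_⟩
  · have := congrFun this 1
    simp at this ⊢
    linear_combination this
  · have := congrFun this a
    simp [ha] at this ⊢
    linear_combination this

end General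

theorem conj_sgn {F : Type*} [Field F] [Tits F] (m : ℕ) (x : F) : conj (sgn m x) = sgn m x := by
  unfold sgn; split_ifs <;> simp

theorem Par.sum_sgn_units {F : Type*} [Field F] [Tits F] [Fintype F] {m : ℕ} (Q : Par F m)
    (φ : F → F) (h : Function.Injective φ) (h0 : φ 0 = 0) : ∑ s : Fˣ, sgn m (φ s) = -1 := by
  have h1 := Q.sum_sgn
  rw [← Fintype.sum_bijective φ (Finite.injective_iff_bijective.1 h) (fun x => sgn m (φ x)) _
    fun _ => rfl, Fintype.sum_eq_add_sum_subtype_ne _ 0, h0, sgn_zero,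
    ← Equiv.sum_comp unitsEquivNeZero] at h1
  exact eq_neg_of_add_eq_zero_right h1

/-- The two choices of sign for the tori. -/
def SP (m n n' : ℕ) (s : ℂ) : Prop :=
  (n = np m ∧ n' = nm m ∧ s = 2 ^ m) ∨ (n = nm m ∧ n' = np m ∧ s = -2 ^ m)

namespace SP
variable {m n n' : ℕ} {s : ℂ} (h : SP m n n' s)
include h

theorem symm : SP m n' n (-s) := by
  rcases h with ⟨a, b, c⟩ | ⟨a, b, c⟩
  · exact Or.inr ⟨b, a, by rw [c]⟩
  · exact Or.inl ⟨b, a, by rw [c, neg_neg]⟩

theorem left : n = np m ∨ n = nm m := h.imp (·.1) (·.1)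

theorem cast : (n : ℂ) = 2 * s ^ 2 + 2 * s + 1 := by
  rcases h with ⟨rfl, -, rfl⟩ | ⟨rfl, -, rfl⟩
  · rw [np]; push_cast; ring
  · have := congrArg (Nat.cast : ℕ → ℂ) (nm_add m)
    push_cast at this; linear_combination this

theorem cast' : (n' : ℂ) = 2 * s ^ 2 - 2 * s + 1 := by rw [h.symm.cast]; ring

theorem conj_eq : conj s = s := by rcases h with ⟨-, -, rfl⟩ | ⟨-, -, rfl⟩ <;> simp [map_ofNat]

theorem q_eq {F : Type*} [Field F] [Tits F] [Fintype F] (Q : Par F m) :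
    (Fintype.card F : ℂ) = 2 * s ^ 2 := by
  rw [← Nat.card_eq_fintype_card, Q.card]
  rcases h with ⟨-, -, rfl⟩ | ⟨-, -, rfl⟩ <;> push_cast <;> ring

theorem coprime : n.Coprime n' := by
  rcases h with ⟨rfl, rfl, -⟩ | ⟨rfl, rfl, -⟩
  · exact coprime_np_nm m
  · exact (coprime_np_nm m).symm

end SP

namespace Model

variable {G F : Type*} [Group G] [Field F] [Tits F] (M : Model G F)

theorem ρ_B (a b : F) (s : Fˣ) : M.ρ (M.u a b * M.h s) 1 1 = s := by
  simp [uM, hM, Matrix.mul_apply, Fin.sum_univ_four]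

/-- The projection of the Borel subgroup onto the torus. -/
noncomputable def δ : M.B →* Fˣ := MonoidHom.toHomUnits
  { toFun := fun g => M.ρ g 1 1
    map_one' := by simp
    map_mul' := by
      rintro ⟨x, hx⟩ ⟨y, hy⟩
      obtain ⟨a, b, s, rfl⟩ := M.mem_B'.1 hx
      obtain ⟨c, d, t, rfl⟩ := M.mem_B'.1 hy
      simp only [Subgroup.coe_mul]
      rw [ρ_B, ρ_B, mul_assoc, ← mul_assoc (M.h s), h_mul_u, mul_assoc, ← h_mul, ← mul_assoc, u_mul_u,
        ρ_B, Units.val_mul] }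

theorem δ_apply {x : M.B} {a b : F} {s : Fˣ} (h : (x : G) = M.u a b * M.h s) : M.δ x = s :=
  Units.ext (by rw [← M.ρ_B a b s, ← h]; rfl)

variable [Fintype G] [Fintype F]

/-- The principal series. -/
noncomputable def prin (l : Fˣ →* ℂˣ) : G → ℂ := indFun M.B fun b => ((l.comp M.δ) b : ℂ)

theorem prin_char (l : Fˣ →* ℂˣ) : IsCharacter G (M.prin l) :=
  H6.isCharacter_indFun _ (H5.isCharacter_monoidHom _)

theorem prin_one (l : Fˣ →* ℂˣ) : M.prin l 1 = (Fintype.card F : ℂ) ^ 2 + 1 := by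
  rw [prin, H6.indFun_apply_one, index_B]; simp

theorem prin_u (l : Fˣ →* ℂˣ) {a b : F} (h : M.u a b ≠ 1) : M.prin l (M.u a b) = 1 := by
  rw [prin, indFun_eq_sum M.B (H5.isClassFunction_of_isCharacter (H5.isCharacter_monoidHom _)) _
    (fun _ : Unit => 1) (fun _ _ _ => rfl)
    (fun g hg => ⟨(), by simpa using M.mem_B_of_conj_mem_B (M.u_mem_U a b) h hg⟩)]
  simp [H6.extendByZero_of_mem _ _ (M.u_mem_B a b),
    M.δ_apply (x := ⟨_, M.u_mem_B a b⟩) (a := a) (b := b) (s := 1) (by simp)]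

theorem prin_h (l : Fˣ →* ℂˣ) {s : Fˣ} (h : s ≠ 1) : M.prin l (M.h s) = l s + l⁻¹ s := by
  have hδ : ∀ s, M.δ ⟨_, M.h_mem_B s⟩ = s := fun s => M.δ_apply (a := 0) (b := 0) (by simp)
  rw [prin, indFun_eq_sum M.B (H5.isClassFunction_of_isCharacter (H5.isCharacter_monoidHom _)) _
    (fun i : Bool => cond i M.w 1) M.H_tr_inj]
  · simp [w_h_w, ← h_inv, H6.extendByZero_of_mem _ _ (M.h_mem_B _), hδ, add_comm]
  · intro g hg
    rw [mem_B, mul_smul, mul_smul, ← eq_inv_smul_iff] at hg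
    rcases M.h_fix h hg with h1 | h1
    · exact ⟨false, by simpa using M.B.inv_mem (M.mem_B.2 h1)⟩
    · refine ⟨true, ?_⟩
      rw [inv_smul_eq_iff] at h1
      simp [mem_B, mul_smul, ← h1]

variable {m : ℕ} (Q : Par F m)
include Q

theorem prin_T (l : Fˣ →* ℂˣ) {n : ℕ} (hn : n = np m ∨ n = nm m) {A : Subgroup G} {x c : G}
    (T : IsTorus m n A x c) {a : G} (ha : a ∈ A) (h1 : a ≠ 1) : M.prin l a = 0 :=
  indFun_eq_zero_of_coprime (T.card ▸ M.coprime_B Q hn) _ ha h1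

theorem exists_beta : ∃ β : M.U → ℂ, IsCharacter M.U β ∧
    (∀ b, β ⟨M.u 0 b, M.u_mem_U _ _⟩ = 2 ^ (m + 1) * sgn m b) ∧
    ∀ a b, a ≠ 0 → β ⟨M.u a b, M.u_mem_U _ _⟩ = 0 := by
  let v : F → F → M.U := fun a b => ⟨M.u a b, M.u_mem_U _ _⟩
  have hv : ∀ x : M.U, ∃ a b, x = v a b := fun ⟨_, a, b, h⟩ => ⟨a, b, Subtype.ext h⟩
  have vm : ∀ a b c d, v a b * v c d = v (a + c) (b + d + θ a * c) := fun a b c d =>
    Subtype.ext (M.u_mul_u a b c d)
  have vc : ∀ a b c d, v a b * v c d * (v a b)⁻¹ = v c (d + θ a * c + θ c * a) := fun a b c d =>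
    Subtype.ext (M.u_conj_u a b c d)
  have vi : ∀ a b, (v a b)⁻¹ = v a (b + θ a * a) := fun a b => Subtype.ext (M.u_inv a b)
  have v1 : v 0 0 = 1 := Subtype.ext M.u_zero
  have sv : ∀ f : M.U → ℂ, ∑ x, f x = ∑ a, ∑ b, f (v a b) := fun f => by
    have := M.sum_U (extendByZero M.U f)
    simpa [H6.extendByZero_of_mem _ _ (M.u_mem_U _ _)] using this
  let f : M.U → ℂ := fun x => if M.ρ x 0 1 = 0 then sgn m (M.ρ x 1 3) else 0
  have fv : ∀ a b, f (v a b) = if a = 0 then sgn m b else 0 := fun a b => by simp [f, v, uM]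
  obtain ⟨φ, hφ, hne⟩ : ∃ φ, IsIrrCharacter M.U φ ∧ classInner f φ ≠ 0 := by
    by_contra h
    push Not at h
    have := congrFun (H5.eq_zero_of_forall_classInner_irr (f := f) (fun x y => by
      obtain ⟨a, b, rfl⟩ := hv x
      obtain ⟨c, d, rfl⟩ := hv y
      rw [vc, fv, fv]
      split_ifs with h
      · simp [h]
      · rfl) h) (v 0 0)
    simp [fv] at this
  have hφc := H5.isCharacter_of_isIrr hφ
  have hcl := H5.isClassFunction_of_isIrr hφ
  have hS : ∑ b, sgn m b * conj (φ (v 0 b)) ≠ 0 := by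
    intro h
    apply hne
    rw [classInner, sv, Finset.sum_eq_single 0]
    · simp [fv, h]
    · intro a _ ha; simp [fv, ha]
    · simp
  have hz : ∀ c g, φ (v 0 c * g) = sgn m c * φ g := by
    intro c
    obtain ⟨ω, -, -, hω⟩ := H5.exists_apply_mul_eq_of_norm_eq hφc
      (H5.norm_apply_of_mem_center hφ (z := v 0 c) (Subgroup.mem_center_iff.2 fun g => by
        obtain ⟨a, b, rfl⟩ := hv g
        exact Subtype.ext (M.u_zero_comm _ _ _).symm))
    have e := Equiv.sum_comp (Equiv.addLeft c) fun b => sgn m b * conj (φ (v 0 b))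
    have e2 : ∀ b, sgn m (c + b) * conj (φ (v 0 (c + b))) =
        sgn m c * conj ω * (sgn m b * conj (φ (v 0 b))) := fun b => by
      have := vm 0 c 0 b
      simp only [add_zero, mul_zero] at this
      rw [← this, hω, Q.sgn_add, map_mul]; ring
    simp only [Equiv.coe_addLeft, e2, ← Finset.mul_sum] at e
    have e3 := congrArg conj (mul_left_eq_self₀.1 e |>.resolve_right hS)
    rw [map_mul, conj_sgn, Complex.conj_conj, map_one] at e3
    have e4 := Q.sgn_add c c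
    rw [CharTwo.add_self_eq_zero, sgn_zero] at e4
    intro g
    rw [hω]; congr 1
    linear_combination sgn m c * e3 + ω * e4
  have hz1 : ∀ c, φ (v 0 c) = sgn m c * φ 1 := fun c => by rw [← hz, mul_one]
  have hz2 : ∀ a b e, φ (v a (b + e)) = sgn m e * φ (v a b) := fun a b e => by
    rw [← hz, vm]; simp [add_comm]
  have h0 : ∀ a b, a ≠ 0 → a ≠ 1 → φ (v a b) = 0 := by
    intro a b h0 h1
    obtain ⟨c, hc⟩ := Q.exists_comm_absTr h0 h1
    have := hcl (v a b) (v c 0)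
    rw [vc, add_assoc, hz2, sgn_of_one hc] at this
    linear_combination (-1 / 2 : ℂ) * this
  obtain ⟨d, d0, hd⟩ := H5.exists_pos_nat_degree hφ
  have d0' : (d : ℂ) ≠ 0 := by norm_cast; omega
  have n0 := H6.card_ne_zero_complex M.U
  have h1 : ∀ b, φ (v 1 b) * conj (φ (v 1 b)) = d ^ 2 := by
    intro b
    have := H5.sum_irr_mul_conj_eq hφ (v 1 b)⁻¹ (v 1 b)
    rw [Finset.sum_congr rfl (g := fun _ => (d : ℂ)) fun x _ => by
      obtain ⟨c, e, rfl⟩ := hv x
      rw [vc, vi, vm, CharTwo.add_self_eq_zero, hz1, hd, sgn_of_zero, one_mul]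
      rw [show b + θ 1 * 1 + (b + θ c * 1 + θ 1 * c) + θ 1 * 1 = θ c + c by rw [map_one]; grind,
        absTr_add, Q.absTr_θ, CharTwo.add_self_eq_zero], H5.isIrr_apply_inv hφ, hd] at this
    simp only [Finset.sum_const, Finset.card_univ, nsmul_eq_mul, ← Nat.card_eq_fintype_card] at this
    field_simp at this
    linear_combination -this
  have hd2 : d = 2 ^ m := by
    have := H5.classInner_irr_self hφ
    rw [classInner, inv_mul_eq_one₀ n0, sv, Fintype.sum_eq_add 0 1 zero_ne_one (fun a ha => by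
      simp [h0 a _ ha.1 ha.2]), M.card_U, Nat.card_eq_fintype_card] at this
    have e : ∀ b, φ (v 0 b) * conj (φ (v 0 b)) = d ^ 2 := fun b => by
      have e4 := Q.sgn_add b b
      rw [CharTwo.add_self_eq_zero, sgn_zero] at e4
      rw [hz1, hd, map_mul, conj_sgn, map_natCast]
      linear_combination -(d : ℂ) ^ 2 * e4
    simp only [e, h1, Finset.sum_const, Finset.card_univ, nsmul_eq_mul] at this
    rw [← Nat.card_eq_fintype_card, Q.card, q_eq] at this
    norm_cast at this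
    have h2 : 0 < 2 ^ m := by positivity
    generalize 2 ^ m = t at this h2
    refine Nat.pow_left_injective two_ne_zero (Nat.eq_of_mul_eq_mul_left (by positivity : 0 < 4 * t ^ 2) ?_)
    simp only
    nlinarith
  refine ⟨φ + fun x => conj (φ x), H5.isCharacter_add hφc (H5.isCharacter_conj hφc), fun b => ?_,
    fun a b ha => ?_⟩
  · change φ (v 0 b) + conj (φ (v 0 b)) = _
    rw [hz1, hd, map_mul, conj_sgn, map_natCast, hd2]; push_cast; ring
  · change φ (v a b) + conj (φ (v a b)) = _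
    by_cases h : a = 1
    · subst h
      rw [← H5.isIrr_apply_inv hφ, vi, hz2, sgn_of_one (by simpa using absTr_one m)]; ring
    · simp [h0 a b ha h]

theorem exists_Phi {n n' : ℕ} {s : ℂ} (hs : SP m n n' s) : ∃ Φ : G → ℂ,
    IsGeneralizedCharacter G Φ ∧
    Φ 1 = (4 * s ^ 4 + 1) * (2 * s ^ 2 - 1) * (2 * s ^ 2 - 2 * s + 1) ∧ Φ (M.u 0 1) = 2 * s - 1 ∧
    (∀ e, Φ (M.u 1 e) = -1) ∧ ∀ A, Part m A → ∀ x ∈ A, x ≠ 1 → Φ x = 0 := by
  obtain ⟨β, hβ, β1, β2⟩ := M.exists_beta Q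
  let ψ : M.U →* ℂˣ := MonoidHom.toHomUnits
    { toFun := fun g => sgn m (M.ρ g 0 1)
      map_one' := by simp
      map_mul' := by
        rintro ⟨_, a, b, rfl⟩ ⟨_, c, d, rfl⟩
        simp only [Subgroup.coe_mul, u_mul_u]
        simp [uM, Q.sgn_add] }
  have hψ : ∀ a b, (ψ ⟨M.u a b, M.u_mem_U _ _⟩ : ℂ) = sgn m a := fun a b => by simp [ψ, uM]
  obtain ⟨k, hk⟩ : ∃ k : ℤ, (k : ℂ) * 2 ^ (m + 1) = 2 * s ^ 2 - 2 * s := by
    rcases hs with ⟨-, -, rfl⟩ | ⟨-, -, rfl⟩
    · exact ⟨2 ^ m - 1, by push_cast; ring⟩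
    · exact ⟨2 ^ m + 1, by push_cast; ring⟩
  have hv : IsGeneralizedCharacter M.U ((fun x => (ψ x : ℂ)) + k • β) :=
    H53.virt_add (H53.virt_of_char (H5.isCharacter_monoidHom ψ)) (H53.virt_zsmul k (H53.virt_of_char hβ))
  have hq := hs.q_eq Q
  have hq' : ((Fintype.card Fˣ : ℕ) : ℂ) = 2 * s ^ 2 - 1 := by
    rw [Fintype.card_units, Nat.cast_pred Fintype.card_pos, hq]
  refine ⟨_, H6.isGeneralizedCharacter_indFun _ hv, ?_, ?_, fun e => ?_, fun A hA x hx h1 =>
    indFun_eq_zero_of_coprime (M.coprime_U Q hA) _ hx h1⟩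
  · have := β1 0
    simp only [u_zero, sgn_zero] at this
    rw [H6.indFun_apply_one, index_U, Nat.card_eq_fintype_card]
    push_cast [Nat.cast_pred Fintype.card_pos]
    rw [hq]
    change _ * ((ψ 1 : ℂ) + k • β ⟨1, _⟩) = _
    rw [this, map_one, zsmul_eq_mul, Units.val_one]
    linear_combination ((2 * s ^ 2) ^ 2 + 1) * (2 * s ^ 2 - 1) * hk
  · rw [M.indFun_U (H53.virt_classFun hv) (by simp [u_eq_one])]
    simp only [Pi.add_apply, Pi.smul_apply, mul_zero, mul_one, hψ, β1]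
    simp only [zsmul_eq_mul, sgn_zero, Finset.sum_add_distrib, ← Finset.mul_sum]
    rw [Q.sum_sgn_units (fun t => t ^ 2 * θ t) (fun _ _ => sq_mul_θ_inj) (by simp)]
    simp only [Finset.sum_const, Finset.card_univ, nsmul_eq_mul, hq']
    linear_combination -hk
  · rw [M.indFun_U (H53.virt_classFun hv) (by simp [u_eq_one])]
    simp only [Pi.add_apply, Pi.smul_apply, mul_one, hψ, β2 _ _ (θ_ne_zero (Units.ne_zero _)),
      smul_zero, add_zero]
    exact Q.sum_sgn_units θ θ_inj (by simp)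

theorem sum_class' {n n' : ℕ} {s : ℂ} (hs : SP m n n' s) {A A' : Subgroup G} {x c x' c' : G}
    (T : IsTorus m n A x c) (T' : IsTorus m n' A' x' c') {f : G → ℂ} (hf : IsClassFunction G f)
    {a1 a2 a3 : ℂ} (g1 : Fˣ → ℂ) (g2 : A → ℂ) (g3 : A' → ℂ) (h1 : ∀ t, t ≠ 1 → f (M.h t) = g1 t)
    (h2 : ∀ a : A, a ≠ 1 → f a = g2 a) (h3 : ∀ a : A', a ≠ 1 → f a = g3 a)
    (e1 : ∑ t, g1 t - g1 1 = a1) (e2 : ∑ t, g2 t - g2 1 = a2) (e3 : ∑ t, g3 t - g3 1 = a3) :
    4 * ∑ g, f g = 4 * f 1 + 4 * (4 * s ^ 4 + 1) * (2 * s ^ 2 - 1) * (f (M.u 0 1) +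
      s ^ 2 * (f (M.u 1 0) + f (M.u 1 1))) + 8 * s ^ 4 * (4 * s ^ 4 + 1) * a1 +
      4 * s ^ 4 * (2 * s ^ 2 - 1) * ((2 * s ^ 2 - 2 * s + 1) * a2 + (2 * s ^ 2 + 2 * s + 1) * a3) := by
  have f1 := sum_sub_congr (fun t => f (M.h t)) g1 h1
  have f2 := sum_sub_congr (fun a : A => f a) g2 h2
  have f3 := sum_sub_congr (fun a : A' => f a) g3 h3
  simp only [h_one, Subgroup.coe_one] at f1 f2 f3
  have c1 := hs.cast
  have c2 := hs.cast'
  have c3 := hs.q_eq Q
  rcases hs with ⟨rfl, rfl, -⟩ | ⟨rfl, rfl, -⟩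
  · rw [M.sum_class Q T T' hf, f1, f2, f3, e1, e2, e3, c1, c2, c3]; ring
  · rw [M.sum_class Q T' T hf, f1, f2, f3, e1, e2, e3, c1, c2, c3]; ring

include M in
theorem card_G_cast {n n' : ℕ} {s : ℂ} (hs : SP m n n' s) :
    (Nat.card G : ℂ) = 4 * s ^ 4 * (2 * s ^ 2 - 1) * (4 * s ^ 4 + 1) := by
  rw [M.card_G, Nat.card_eq_fintype_card]
  push_cast [Nat.cast_pred Fintype.card_pos]
  rw [hs.q_eq Q]; ring

end Model

end Cfsg.Agent.H13
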