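import Cfsg.Agent.H13.SzChar2

/-!
The degrees of the irreducible characters of a Suzuki group.
-/

set_option autoImplicit false

namespace Cfsg.Agent.H13

open Matrix Cfsg
open scoped ComplexConjugate Classical

set_option linter.style.haveILetI false
set_option linter.unusedSectionVars false

theorem SP.ne_zero {m n n' : ℕ} {s : ℂ} (h : SP m n n' s) : s ≠ 0 := by
  rcases h with ⟨-, -, rfl⟩ | ⟨-, -, rfl⟩ <;> simp

theorem SP.n_ne {m n n' : ℕ} {s : ℂ} (h : SP m n n' s) : 2 * s ^ 2 + 2 * s + 1 ≠ 0 := by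
  rw [← h.cast]
  have := (odd_of_n h.left).pos
  norm_cast; omega

theorem SP.nn_ne {m n n' : ℕ} {s : ℂ} (h : SP m n n' s) : 4 * s ^ 4 + 1 ≠ 0 := by
  have := mul_ne_zero h.n_ne h.symm.n_ne
  convert this using 1; ring

namespace Model

namespace IsTorus
variable {G : Type*} [Group G] {m n : ℕ} {A : Subgroup G} {x c : G} (T : IsTorus m n A x c)

/-- Conjugation by a power of `c` on the torus. -/
def cj (i : Fin 4) : A →* A where
  toFun a := ⟨c ^ (i : ℕ) * a * (c ^ (i : ℕ))⁻¹, T.c_conj_mem i a.2⟩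
  map_one' := by simp
  map_mul' a b := Subtype.ext (by simp)

variable [Fintype G]

theorem ind_apply (l : A →* ℂˣ) {a : A} (ha : a ≠ 1) :
    indFun A (fun a => (l a : ℂ)) a = ∑ i, (l.comp (T.cj i) a : ℂ) := by
  rw [indFun_eq_sum A (H5.isClassFunction_of_isCharacter (H5.isCharacter_monoidHom _)) _
    (fun i : Fin 4 => c ^ (i : ℕ)) T.tr_inj (T.tr_surj a.2 (by simpa using ha))]
  exact Finset.sum_congr rfl fun i _ => H6.extendByZero_of_mem _ _ (T.c_conj_mem i a.2)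

theorem cj_inj {l : A →* ℂˣ} (hl : l ≠ 1) : Function.Injective fun i => l.comp (T.cj i) := by
  intro i j h
  by_contra hij
  apply hl
  ext ⟨e, he⟩
  have hy := Subgroup.mul_mem _ (Subgroup.pow_mem _ T.c_mem j)
    (Subgroup.inv_mem _ (Subgroup.pow_mem _ T.c_mem i))
  obtain ⟨b, hb, e1⟩ := T.isCC.exists_conj hy (fun h => hij (T.tr_inj _ _ h).symm) he
  have hb' : (c ^ (j : ℕ))⁻¹ * b * c ^ (j : ℕ) ∈ A := by
    simpa using (Subgroup.mem_normalizer_iff.1
      (Subgroup.inv_mem _ (Subgroup.pow_mem _ T.c_mem j)) b).1 hb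
  have e2 := DFunLike.congr_fun h ⟨_, hb'⟩
  have e3 : (⟨e, he⟩ : A) = T.cj i ⟨_, hb'⟩ * (T.cj j ⟨_, hb'⟩)⁻¹ := Subtype.ext (by
    simp only [cj, MonoidHom.coe_mk, OneHom.coe_mk, Subgroup.coe_mul, Subgroup.coe_inv]
    calc e = (c ^ (j : ℕ) * (c ^ (i : ℕ))⁻¹)⁻¹ * (c ^ (j : ℕ) * (c ^ (i : ℕ))⁻¹ * e) := by group
      _ = _ := by rw [← e1]; group)
  simp only [MonoidHom.comp_apply] at e2
  rw [e3, map_mul, map_inv, e2]; simp

end IsTorus

variable {G F : Type*} [Group G] [Field F] [Tits F] (M : Model G F) [Fintype G] [Fintype F]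

/-- The unipotently supported virtual characters. -/
structure IsPhi (m : ℕ) (s : ℂ) (Φ : G → ℂ) : Prop where
  virt : IsGeneralizedCharacter G Φ
  one : Φ 1 = (4 * s ^ 4 + 1) * (2 * s ^ 2 - 1) * (2 * s ^ 2 - 2 * s + 1)
  z : Φ (M.u 0 1) = 2 * s - 1
  u : ∀ e, Φ (M.u 1 e) = -1
  part : ∀ A, Part m A → ∀ x ∈ A, x ≠ 1 → Φ x = 0

variable {m : ℕ} (Q : Par F m) {n n' : ℕ} {s : ℂ} (hs : SP m n n' s) {A A' : Subgroup G}
  {x c x' c' : G} (T : IsTorus m n A x c) (T' : IsTorus m n' A' x' c')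
include Q

include hs in
theorem exists_isPhi : ∃ Φ, M.IsPhi m s Φ := by
  obtain ⟨Φ, a, b, c, d, e⟩ := M.exists_Phi Q hs
  exact ⟨Φ, a, b, c, d, e⟩

include hs in
theorem q_ne : 2 * s ^ 2 - 1 ≠ 0 := by
  rw [← hs.q_eq Q, ← Nat.cast_pred Fintype.card_pos, ← Fintype.card_units]; simp

include hs in
theorem card_units_cast : (Fintype.card Fˣ : ℂ) = 2 * s ^ 2 - 1 := by
  rw [Fintype.card_units, Nat.cast_pred Fintype.card_pos, hs.q_eq Q]

omit Q in
theorem u01_ne : M.u 0 1 ≠ 1 := by simp [u_eq_one]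

omit Q in
theorem u1_ne (e : F) : M.u 1 e ≠ 1 := by simp [u_eq_one]

include hs T T'

theorem prin_irr {l : Fˣ →* ℂˣ} (hl : l ≠ 1) : IsIrrCharacter G (M.prin l) := by
  have hinj : Function.Injective fun i : Bool => cond i l l⁻¹ := by
    have : l ≠ l⁻¹ := fun h => hl (by
      ext t
      obtain ⟨r, hr⟩ := sq_surj (t : F)
      have r0 : r ≠ 0 := by rintro rfl; exact t.ne_zero (by simpa using hr.symm)
      obtain rfl : t = Units.mk0 r r0 * Units.mk0 r r0 := Units.ext (by simp [← hr, sq])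
      rw [map_mul]; nth_rw 1 [h]; simp)
    rintro (_ | _) (_ | _) h <;> simp [this, this.symm] at h ⊢
  have e := sum_hom_mul_conj _ hinj
  refine irr_of_sum (H53.virt_of_char (M.prin_char l)) ?_ (d := Fintype.card F ^ 2 + 1)
    (by rw [prin_one]; simp)
  have hc := H5.isClassFunction_of_isCharacter (M.prin_char l)
  have := M.sum_class' Q hs T T' (f := fun g => M.prin l g * conj (M.prin l g))
    (fun a b => by simp only [hc a b]) _ 0 0 (fun t ht => by rw [M.prin_h l ht])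
    (fun a ha => by simp [M.prin_T Q l hs.left T a.2 (by simpa using ha)])
    (fun a ha => by simp [M.prin_T Q l hs.symm.left T' a.2 (by simpa using ha)]) rfl rfl rfl
  simp only [Fintype.sum_bool, cond_true, cond_false, Fintype.card_bool, Nat.card_eq_fintype_card,
    card_units_cast Q hs] at e
  rw [e, prin_one, prin_u _ _ M.u01_ne, prin_u _ _ (M.u1_ne _), prin_u _ _ (M.u1_ne _), hs.q_eq Q] at this
  simp [hs.conj_eq, map_ofNat] at this
  rw [M.card_G_cast Q hs]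
  linear_combination this / 4

theorem st_irr : IsIrrCharacter G (M.prin 1 - fun _ => 1) := by
  refine irr_of_sum (H53.virt_sub (H53.virt_of_char (M.prin_char 1)) H53.virt_one) ?_
    (d := Fintype.card F ^ 2) (by simp [prin_one])
  have hc := H5.isClassFunction_of_isCharacter (M.prin_char 1)
  have := M.sum_class' Q hs T T' (f := fun g => (M.prin 1 g - 1) * conj (M.prin 1 g - 1))
    (fun a b => by simp only [hc a b]) 1 1 1 (fun t ht => by simp [M.prin_h 1 ht])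
    (fun a ha => by simp [M.prin_T Q 1 hs.left T a.2 (by simpa using ha)])
    (fun a ha => by simp [M.prin_T Q 1 hs.symm.left T' a.2 (by simpa using ha)]) rfl rfl rfl
  rw [prin_one, prin_u _ _ M.u01_ne, prin_u _ _ (M.u1_ne _), prin_u _ _ (M.u1_ne _), hs.q_eq Q] at this
  simp only [Pi.one_apply, Finset.sum_const, Finset.card_univ, nsmul_eq_mul, card_units_cast Q hs,
    ← Nat.card_eq_fintype_card (α := A), ← Nat.card_eq_fintype_card (α := A'), T.card, T'.card,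
    hs.cast, hs.cast'] at this
  simp [hs.conj_eq, map_ofNat] at this
  rw [M.card_G_cast Q hs]
  simp only [Pi.sub_apply, map_sub, map_one]
  linear_combination this / 4

omit T' in
theorem cusp_apply {Φ : G → ℂ} (hΦ : M.IsPhi m s Φ) (l : A →* ℂˣ) :
    (Φ - indFun A fun a => (l a : ℂ)) 1 = (2 * s ^ 2 - 1) * (2 * s ^ 2 - 2 * s + 1) ∧
    (Φ - indFun A fun a => (l a : ℂ)) (M.u 0 1) = 2 * s - 1 ∧
    ∀ e, (Φ - indFun A fun a => (l a : ℂ)) (M.u 1 e) = -1 := by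
  have cU := (M.coprime_U Q (part_T hs.left T)).symm
  refine ⟨?_, ?_, fun e => ?_⟩
  · have := congrArg (Nat.cast : ℕ → ℂ) A.card_mul_index
    rw [Nat.cast_mul, T.card, hs.cast, M.card_G_cast Q hs] at this
    apply mul_left_cancel₀ hs.n_ne
    rw [Pi.sub_apply, hΦ.one, H6.indFun_apply_one, map_one, Units.val_one]
    linear_combination -this
  · rw [Pi.sub_apply, hΦ.z, indFun_eq_zero_of_coprime cU _ (M.u_mem_U _ _) M.u01_ne, sub_zero]
  · rw [Pi.sub_apply, hΦ.u, indFun_eq_zero_of_coprime cU _ (M.u_mem_U _ _) (M.u1_ne e), sub_zero]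

theorem cusp_irr {Φ : G → ℂ} (hΦ : M.IsPhi m s Φ) {l : A →* ℂˣ} (hl : l ≠ 1) :
    IsIrrCharacter G (Φ - indFun A fun a => (l a : ℂ)) := by
  obtain ⟨v1, v2, v3⟩ := M.cusp_apply Q hs T hΦ l
  have hv := H53.virt_sub hΦ.virt
    (H53.virt_of_char (H6.isCharacter_indFun A (H5.isCharacter_monoidHom l)))
  have hc := H53.virt_classFun hv
  have e := sum_hom_mul_conj _ (T.cj_inj hl)
  refine irr_of_sum hv ?_ (d := Fintype.card Fˣ * n')
    (by rw [v1, Nat.cast_mul, card_units_cast Q hs, hs.cast'])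
  have := M.sum_class' Q hs T T' (f := fun g => (Φ - indFun A fun a => (l a : ℂ)) g *
      conj ((Φ - indFun A fun a => (l a : ℂ)) g))
    (fun a b => by simp only [hc a b]) 0
    (fun a => (∑ i, (l.comp (T.cj i) a : ℂ)) * conj (∑ i, (l.comp (T.cj i) a : ℂ))) 0
    (fun t ht => by
      have h1 : M.h t ≠ 1 := by simpa [h_eq_one] using ht
      simp [hΦ.part _ (part_H M Q) _ (M.h_mem_H t) h1, indFun_eq_zero_of_coprime
        (T.card ▸ M.coprime_H Q hs.left).symm _ (M.h_mem_H t) h1])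
    (fun a ha => by
      rw [Pi.sub_apply, hΦ.part _ (part_T hs.left T) _ a.2 (by simpa using ha), T.ind_apply l ha,
        zero_sub, map_neg, neg_mul_neg])
    (fun a ha => by
      have h1 : (a : G) ≠ 1 := by simpa using ha
      simp [hΦ.part _ (part_T hs.symm.left T') _ a.2 h1, indFun_eq_zero_of_coprime
        (T.card ▸ T'.card ▸ hs.coprime.symm) _ a.2 h1]) rfl rfl rfl
  rw [e, v1, v2, v3, v3, T.card, hs.cast] at this
  simp [hs.conj_eq, map_ofNat, -Pi.sub_apply] at this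
  rw [M.card_G_cast Q hs]
  linear_combination this / 4

theorem torus_eq {Φ : G → ℂ} (hΦ : M.IsPhi m s Φ) {χ : G → ℂ} (hχ : IsIrrCharacter G χ)
    (h : ∀ l : A →* ℂˣ, l ≠ 1 → χ ≠ Φ - indFun A fun a => (l a : ℂ)) :
    ∃ y : ℤ, (∀ a : A, a ≠ 1 → χ a = y) ∧ (χ 1 - y) * (4 * s ^ 4) = (2 * s ^ 2 + 2 * s + 1) *
      (χ 1 * (2 * s ^ 2 - 2 * s + 1) + (2 * s - 1) * χ (M.u 0 1) -
        s ^ 2 * (χ (M.u 1 0) + χ (M.u 1 1))) := by
  obtain ⟨k, hk⟩ := H53.virt_ci_int (H53.virt_of_irr hχ) hΦ.virt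
  have hc := H5.isClassFunction_of_isIrr hχ
  have hc' := H53.virt_classFun hΦ.virt
  obtain ⟨y, h1, h2⟩ := const_of_inner (G := A) (fun a b => Subtype.ext (T.isCC.comm b.2 a.2))
    (H5.isCharacter_restrict (H5.isCharacter_of_isIrr hχ) A) (c := k) fun l hl => by
      have := H5.classInner_irr_ne hχ (M.cusp_irr Q hs T T' hΦ hl) (h l hl)
      rw [H5.classInner_sub_right, H6.classInner_indFun_right _ _ hc, hk] at this
      linear_combination -this
  refine ⟨y, h2, ?_⟩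
  have := M.sum_class' Q hs T T' (f := fun g => χ g * conj (Φ g))
    (fun a b => by simp only [hc a b, hc' a b]) 0 0 0
    (fun t ht => by simp [hΦ.part _ (part_H M Q) _ (M.h_mem_H t) (by simpa [h_eq_one] using ht)])
    (fun a ha => by simp [hΦ.part _ (part_T hs.left T) _ a.2 (by simpa using ha)])
    (fun a ha => by simp [hΦ.part _ (part_T hs.symm.left T') _ a.2 (by simpa using ha)]) rfl rfl rfl
  rw [classInner, inv_mul_eq_iff_eq_mul₀ (H6.card_ne_zero_complex G)] at hk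
  rw [hk, hΦ.one, hΦ.z, hΦ.u, hΦ.u, M.card_G_cast Q hs] at this
  simp [hs.conj_eq, map_ofNat] at this
  rw [T.card, hs.cast, Subgroup.coe_one] at h1
  apply mul_left_cancel₀ (mul_ne_zero hs.nn_ne (q_ne Q hs))
  linear_combination (2 * s ^ 2 + 2 * s + 1) / 4 * this +
    (4 * s ^ 4 + 1) * (2 * s ^ 2 - 1) * (4 * s ^ 4) * h1

omit hs T T' in
theorem sum_coset_eq_zero {χ : G → ℂ} (hc : IsClassFunction G χ)
    (h : ∀ l, classInner χ (M.prin l) = 0) (t : Fˣ) : ∑ a, ∑ b, χ (M.u a b * M.h t) = 0 := by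
  refine congrFun (eq_zero_of_forall_hom (G := Fˣ) mul_comm
    (f := fun t => ∑ a, ∑ b, χ (M.u a b * M.h t)) fun l => ?_) t
  have := h l
  rw [prin, H6.classInner_indFun_right _ _ hc, classInner, mul_eq_zero, M.sum_B] at this
  rw [← this.resolve_left (inv_ne_zero (H6.card_ne_zero_complex _))]
  simp only [Finset.sum_mul]
  refine Finset.sum_congr rfl fun t _ => Finset.sum_congr rfl fun a _ =>
    Finset.sum_congr rfl fun b _ => ?_
  rw [MonoidHom.comp_apply, M.δ_apply rfl]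

omit hs T T' in
theorem degree_cases {χ : G → ℂ} (hχ : IsIrrCharacter G χ) :
    (χ (M.u 1 0) = χ (M.u 1 1) ∧ ∃ d : ℕ, χ 1 = d ∧ (d = 1 ∨ d = Fintype.card F ^ 2 ∨
      d = Fintype.card F ^ 2 + 1 ∨ d = (Fintype.card F - 1) * nm m ∨ d = (Fintype.card F - 1) * np m)) ∨
    χ 1 = (2 ^ m * (Fintype.card F - 1) : ℕ) := by
  obtain ⟨A, _, c, T⟩ := M.exists_torus Q (Or.inl rfl)
  obtain ⟨A', _, c', T'⟩ := M.exists_torus Q (Or.inr rfl)
  have hs : SP m (np m) (nm m) ((2 ^ m : ℝ) : ℂ) := Or.inl ⟨rfl, rfl, by simp⟩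
  have hc := H5.isClassFunction_of_isIrr hχ
  by_cases h1 : χ = fun _ => 1
  · exact Or.inl ⟨by simp [h1], 1, by simp [h1], Or.inl rfl⟩
  by_cases h2 : χ = M.prin 1 - fun _ => 1
  · exact Or.inl ⟨by simp [h2, M.prin_u _ (M.u1_ne _)], _, by simp [h2, prin_one], Or.inr (Or.inl rfl)⟩
  by_cases h3 : ∃ l, l ≠ 1 ∧ χ = M.prin l
  · obtain ⟨l, -, rfl⟩ := h3
    exact Or.inl ⟨by simp [M.prin_u _ (M.u1_ne _)], _, by simp [prin_one], Or.inr (Or.inr (Or.inl rfl))⟩
  obtain ⟨Φ, hΦ⟩ := M.exists_isPhi Q hs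
  obtain ⟨Φ', hΦ'⟩ := M.exists_isPhi Q hs.symm
  by_cases h4 : ∃ l : A →* ℂˣ, l ≠ 1 ∧ χ = Φ - indFun A fun a => (l a : ℂ)
  · obtain ⟨l, -, rfl⟩ := h4
    obtain ⟨v1, -, v3⟩ := M.cusp_apply Q hs T hΦ l
    exact Or.inl ⟨by rw [v3, v3], _, by
      rw [v1, ← card_units_cast Q hs, ← hs.cast', Fintype.card_units, Nat.cast_mul],
      Or.inr (Or.inr (Or.inr (Or.inl rfl)))⟩
  by_cases h5 : ∃ l : A' →* ℂˣ, l ≠ 1 ∧ χ = Φ' - indFun A' fun a => (l a : ℂ)
  · obtain ⟨l, -, rfl⟩ := h5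
    obtain ⟨v1, -, v3⟩ := M.cusp_apply Q hs.symm T' hΦ' l
    exact Or.inl ⟨by rw [v3, v3], _, by
      rw [v1, ← card_units_cast Q hs.symm, ← hs.symm.cast', Fintype.card_units, Nat.cast_mul],
      Or.inr (Or.inr (Or.inr (Or.inr rfl)))⟩
  right
  push Not at h3 h4 h5
  have hπ := M.sum_coset_eq_zero Q hc fun l => by
    by_cases hl : l = 1
    · have e1 := H5.classInner_irr_ne hχ (M.st_irr Q hs T T') h2
      rwa [H5.classInner_sub_right, H5.classInner_irr_ne hχ H5.isIrrCharacter_one h1, sub_zero,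
        ← hl] at e1
    · exact H5.classInner_irr_ne hχ (M.prin_irr Q hs T T' hl) (h3 l hl)
  have hH : ∀ t, t ≠ 1 → χ (M.h t) = 0 := fun t ht => by
    have := hπ t
    rw [Finset.sum_congr rfl (g := fun _ => ∑ _ : F, χ (M.h t)) fun a _ =>
      Finset.sum_congr rfl fun b _ => by
        obtain ⟨x, y, e⟩ := M.conj_h_of_mem_B a b ht
        rw [e, hc]] at this
    simpa using this
  have e1 := M.sum_U_class Q hc
  have e0 := hπ 1
  simp only [h_one, mul_one] at e0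
  rw [e0, hs.q_eq Q] at e1
  obtain ⟨y, y1, e2⟩ := M.torus_eq Q hs T T' hΦ hχ h4
  obtain ⟨y', y2, e3⟩ := M.torus_eq Q hs.symm T' T hΦ' hχ h5
  have e4 := M.sum_class' Q hs T T' hc 0 (fun _ => y) (fun _ => y') hH y1 y2 rfl rfl rfl
  have e5 := M.sum_class' Q hs T T' (f := fun g => χ g * conj (χ g))
    (fun a b => by simp only [hc a b]) 0 (fun _ => y ^ 2) (fun _ => y' ^ 2)
    (fun t ht => by simp [hH t ht]) (fun a ha => by simp [y1 a ha, sq])
    (fun a ha => by simp [y2 a ha, sq]) rfl rfl rfl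
  have e6 := H5.classInner_irr_self hχ
  rw [classInner, inv_mul_eq_one₀ (H6.card_ne_zero_complex G)] at e6
  rw [H5.sum_irr_eq_zero hχ h1] at e4
  rw [← e6, M.card_G_cast Q hs] at e5
  simp only [Pi.zero_apply, Finset.sum_const, Finset.card_univ, nsmul_eq_mul,
    ← Nat.card_eq_fintype_card (α := A), ← Nat.card_eq_fintype_card (α := A'), T.card, T'.card,
    hs.cast, hs.cast', Complex.mul_conj] at e4 e5
  have s0 := pow_ne_zero 4 hs.ne_zero
  have hq := hs.q_eq Q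
  have f1 := mul_ne_zero (q_ne Q hs) hs.nn_ne
  have t2 : (2 : ℝ) ≤ 2 ^ m := by
    simpa using pow_le_pow_right₀ (by norm_num : (1 : ℝ) ≤ 2) Q.hm
  rw [Nat.cast_mul, Nat.cast_pred Fintype.card_pos, hq, Nat.cast_pow,
    show ((2 : ℕ) : ℂ) ^ m = ((2 ^ m : ℝ) : ℂ) by simp]
  generalize (2 ^ m : ℝ) = t at *
  have f2 : -4 * χ 1 = (2 * (t : ℂ) ^ 2 - 1) * ((2 * t ^ 2 - 2 * t + 1) * y +
      (2 * t ^ 2 + 2 * t + 1) * y') := by
    apply mul_left_cancel₀ s0
    linear_combination (2 * (t : ℂ) ^ 2 - 1) / 4 * ((2 * t ^ 2 - 2 * t + 1) * e2 +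
      (2 * t ^ 2 + 2 * t + 1) * e3) + (4 * t ^ 4 + 1) / 4 * e1
  have f3 : (y' : ℂ) = -y := by
    apply mul_left_cancel₀ (mul_ne_zero s0 f1)
    linear_combination -e4 / 4 + (4 * (t : ℂ) ^ 4 + 1) / 2 * e1 - t ^ 4 * f2
  have f4 : χ 1 = t * (2 * t ^ 2 - 1) * y := by
    rw [f3] at f2; linear_combination -f2 / 4
  rw [f3] at e5
  obtain ⟨d, d0, hd⟩ := H5.exists_pos_nat_degree hχ
  have y0 : 0 < y := by
    rw [hd] at f4
    have f5 : (d : ℝ) = t * (2 * t ^ 2 - 1) * y := by exact_mod_cast f4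
    have : (0 : ℝ) < d := by exact_mod_cast d0
    rw [f5] at this
    exact_mod_cast pos_of_mul_pos_right this (by nlinarith) 
  have y1 : y = 1 := by
    by_contra hy
    have y2 : (2 : ℝ) ≤ y := by exact_mod_cast (by omega : 2 ≤ y)
    have e7 : 4 * (4 * t ^ 4 * (2 * t ^ 2 - 1) * (4 * t ^ 4 + 1)) = 4 * Complex.normSq (χ 1) +
        4 * (4 * t ^ 4 + 1) * (2 * t ^ 2 - 1) * (Complex.normSq (χ (M.u 0 1)) +
          t ^ 2 * (Complex.normSq (χ (M.u 1 0)) + Complex.normSq (χ (M.u 1 1)))) +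
        4 * t ^ 4 * (2 * t ^ 2 - 1) * (8 * t ^ 4 - 4 * t ^ 2) * y ^ 2 := by
      apply Complex.ofReal_injective
      push_cast
      linear_combination e5
    have p0 : 0 < 2 * t ^ 2 - 1 := by nlinarith
    have p1 := Complex.normSq_nonneg (χ 1)
    have p2 : 0 ≤ 4 * (4 * t ^ 4 + 1) * (2 * t ^ 2 - 1) * (Complex.normSq (χ (M.u 0 1)) +
        t ^ 2 * (Complex.normSq (χ (M.u 1 0)) + Complex.normSq (χ (M.u 1 1)))) := by
      have := Complex.normSq_nonneg (χ (M.u 0 1))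
      have := Complex.normSq_nonneg (χ (M.u 1 0))
      have := Complex.normSq_nonneg (χ (M.u 1 1))
      positivity
    have p3 : 4 * (4 * t ^ 4 + 1) < (8 * t ^ 4 - 4 * t ^ 2) * y ^ 2 := by
      have : 4 ≤ t ^ 2 := by nlinarith
      have : 4 ≤ (y : ℝ) ^ 2 := by nlinarith
      have : 4 * t ^ 2 ≤ t ^ 4 := by nlinarith
      nlinarith
    have p4 := mul_lt_mul_of_pos_left p3 (by positivity : 0 < 4 * t ^ 4 * (2 * t ^ 2 - 1))
    linarith
  rw [f4, y1]; simp

omit hs T T' in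
include M in
theorem exists_degree : ∀ d ∈ ({Fintype.card F ^ 2 + 1, (Fintype.card F - 1) * nm m,
    (Fintype.card F - 1) * np m, 2 ^ m * (Fintype.card F - 1)} : Set ℕ),
    ∃ χ, IsIrrCharacter G χ ∧ χ 1 = d := by
  obtain ⟨A, _, c, T⟩ := M.exists_torus Q (Or.inl rfl)
  obtain ⟨A', _, c', T'⟩ := M.exists_torus Q (Or.inr rfl)
  have hs : SP m (np m) (nm m) (2 ^ m) := Or.inl ⟨rfl, rfl, rfl⟩
  rintro _ (rfl | rfl | rfl | rfl)
  · obtain ⟨t, ht⟩ := exists_unit_ne_one Q.hy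
    obtain ⟨l, hl⟩ := exists_hom_ne_one (G := Fˣ) mul_comm ht
    exact ⟨_, M.prin_irr Q hs T T' hl, by simp [prin_one]⟩
  · obtain ⟨l, hl⟩ := exists_hom_ne_one (G := A) (fun a b => Subtype.ext (T.isCC.comm b.2 a.2))
      (a := ⟨_, T.mem⟩) (by simpa using T.ne_one)
    obtain ⟨Φ, hΦ⟩ := M.exists_isPhi Q hs
    exact ⟨_, M.cusp_irr Q hs T T' hΦ hl, by
      rw [(M.cusp_apply Q hs T hΦ l).1, ← card_units_cast Q hs, ← hs.cast', Fintype.card_units,
        Nat.cast_mul]⟩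
  · obtain ⟨l, hl⟩ := exists_hom_ne_one (G := A') (fun a b => Subtype.ext (T'.isCC.comm b.2 a.2))
      (a := ⟨_, T'.mem⟩) (by simpa using T'.ne_one)
    obtain ⟨Φ, hΦ⟩ := M.exists_isPhi Q hs.symm
    exact ⟨_, M.cusp_irr Q hs.symm T' T hΦ hl, by
      rw [(M.cusp_apply Q hs.symm T' hΦ l).1, ← card_units_cast Q hs.symm, ← hs.symm.cast',
        Fintype.card_units, Nat.cast_mul]⟩
  · by_contra h
    push Not at h
    haveI := Fintype.ofFinite (IrrCharacter G)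
    have e1 := H5.sum_irr_mul_conj_of_isConj (IsConj.refl (M.u 1 0))
    have e2 := H5.sum_irr_mul_conj_of_not_isConj (g := M.u 1 0) (h := M.u 1 1) (fun h => by
      obtain ⟨g, hg⟩ := isConj_iff.1 h
      exact M.not_conj_inv one_ne_zero 0 g (by rw [hg, u_inv]; simp))
    rw [Finset.sum_congr rfl fun χ _ => by
      rw [← ((M.degree_cases Q χ.2).resolve_right (h _ χ.2)).1], e1] at e2
    exact H6.card_ne_zero_complex _ e2

end Model

end Cfsg.Agent.H13
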